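import Cfsg.Agent.Lib.G22Rec.Model
import Cfsg.Agent.Lib.Small.SylowToolkit
import Cfsg.Agent.S0976
import Cfsg.Agent.S1017
import Mathlib.GroupTheory.Abelianization.Defs

/-!
Groups of order 12096 without elements of order 9, 14 or 21: the normalizer `7 : 6` and the derived group.
-/

set_option autoImplicit false
set_option linter.unusedSectionVars false
set_option linter.style.haveILetI false

namespace Cfsg.Agent.G22Rec

universe u

/-- The hypotheses. -/
structure Hyp (G : Type u) [Group G] : Prop where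
  card : Nat.card G = 12096
  no9 : ∀ g : G, orderOf g ≠ 9
  no14 : ∀ g : G, orderOf g ≠ 14
  no21 : ∀ g : G, orderOf g ≠ 21

variable {G : Type u} [Group G] [Finite G]

theorem exists_orderOf_of_dvd {g : G} {d : ℕ} (h : d ∣ orderOf g) : ∃ k : G, orderOf k = d :=
  ⟨g ^ (orderOf g / d), orderOf_pow_orderOf_div (orderOf_pos g).ne' h⟩

/-- A 7-element that commutes only with 7-elements acts freely. -/
theorem card_modEq_one {a : G} (ha : orderOf a = 7) (Q : Subgroup G)
    (hQ : ∀ q ∈ Q, a * q * a⁻¹ ∈ Q) (hfix : ∀ q ∈ Q, a * q = q * a → q = 1) :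
    Nat.card Q ≡ 1 [MOD 7] := by
  classical
  haveI : Fact (Nat.Prime 7) := ⟨by norm_num⟩
  have hmem : ∀ h ∈ Subgroup.zpowers a, ∀ q ∈ Q, h * q * h⁻¹ ∈ Q := by
    intro h hh
    obtain ⟨k, rfl⟩ : ∃ k : ℕ, a ^ k = h := (mem_powers_iff_mem_zpowers (G := G)).2 hh
    intro q hq
    induction k with
    | zero => simpa using hq
    | succ k ih =>
      have := hQ _ (ih (pow_mem (Subgroup.mem_zpowers a) k))
      simpa [pow_succ', mul_assoc] using this
  letI : MulAction (Subgroup.zpowers a) Q :=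
    { smul := fun h q => ⟨(h : G) * q * (h : G)⁻¹, hmem h h.2 q q.2⟩
      one_smul := fun q => Subtype.ext (show (1 : G) * q * (1 : G)⁻¹ = q by group)
      mul_smul := fun h k q => Subtype.ext (show ((h : G) * k) * q * ((h : G) * k)⁻¹ =
        (h : G) * ((k : G) * q * (k : G)⁻¹) * (h : G)⁻¹ by group) }
  have hp : IsPGroup 7 (Subgroup.zpowers a) :=
    IsPGroup.of_card (n := 1) (by rw [Nat.card_zpowers, ha, pow_one])
  refine (hp.card_modEq_card_fixedPoints Q).trans ?_
  have hone : MulAction.fixedPoints (Subgroup.zpowers a) Q = {1} := by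
    ext q
    constructor
    · intro h
      have h1 : a * (q : G) * a⁻¹ = q := congrArg Subtype.val (h ⟨a, Subgroup.mem_zpowers a⟩)
      exact Subtype.ext (hfix q q.2 (mul_inv_eq_iff_eq_mul.1 h1))
    · rintro rfl h
      exact Subtype.ext (show (h : G) * (1 : G) * (h : G)⁻¹ = 1 by group)
  rw [hone, Nat.card_coe_set_eq, Set.ncard_singleton]

namespace Hyp

variable (H : Hyp G)
include H

theorem not_five_dvd (g : G) : ¬ 5 ∣ orderOf g := fun h => by
  have := h.trans (orderOf_dvd_natCard g)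
  rw [H.card] at this
  norm_num at this

theorem not_dvd (g : G) : ¬ 9 ∣ orderOf g ∧ ¬ 14 ∣ orderOf g ∧ ¬ 21 ∣ orderOf g := by
  refine ⟨fun h => ?_, fun h => ?_, fun h => ?_⟩ <;>
    obtain ⟨k, hk⟩ := exists_orderOf_of_dvd h
  exacts [H.no9 k hk, H.no14 k hk, H.no21 k hk]

/-- The centralizer of an element of order 7. -/
theorem commute_seven {a c : G} (ha : orderOf a = 7) (hc : a * c = c * a) :
    c ∈ Subgroup.zpowers a := by
  have hd : orderOf c ∣ 7 := by
    by_contra hcon
    obtain ⟨q, hq, hq7, hqd⟩ : ∃ q : ℕ, q.Prime ∧ q ≠ 7 ∧ q ∣ orderOf c := by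
      by_contra hno
      push Not at hno
      have h7 : ¬ 49 ∣ orderOf c := fun h => by
        have := h.trans (orderOf_dvd_natCard c)
        rw [H.card] at this
        norm_num at this
      obtain ⟨k, hk⟩ : ∃ k, orderOf c = 7 ^ k :=
        ⟨_, Nat.eq_prime_pow_of_unique_prime_dvd (orderOf_pos c).ne' fun {d} hd hdd => by
          by_contra hne
          exact hno d hd hne hdd⟩
      rcases k with _ | _ | k
      · exact hcon (by simp [hk])
      · exact hcon (by simp [hk])
      · exact h7 ⟨7 ^ k, by rw [hk]; ring⟩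
    obtain ⟨m, hm⟩ := hqd
    have hcq : orderOf (c ^ m) = q := by
      have hm0 : 0 < m := Nat.pos_of_ne_zero fun h => by
        have := orderOf_pos c
        rw [hm, h, mul_zero] at this
        exact lt_irrefl 0 this
      rw [orderOf_pow_of_dvd hm0.ne' ⟨q, by rw [hm]; ring⟩, hm, Nat.mul_div_cancel _ hm0]
    have hqG : q ∣ 12096 := H.card ▸ hcq ▸ orderOf_dvd_natCard (c ^ m)
    have hord : orderOf (a * c ^ m) = 7 * q := by
      have hcomm : Commute a c := hc
      rw [(hcomm.pow_right m).orderOf_mul_eq_mul_orderOf_of_coprime ?_, ha, hcq]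
      rw [ha, hcq]
      exact (Nat.coprime_primes (by norm_num) hq).2 (Ne.symm hq7)
    have hq23 : q = 2 ∨ q = 3 := by
      have h1 : q ∣ 2 ^ 6 * (3 ^ 3 * 7) := by simpa using hqG
      rcases hq.dvd_mul.1 h1 with h | h
      · exact Or.inl ((Nat.prime_dvd_prime_iff_eq hq Nat.prime_two).1 (hq.dvd_of_dvd_pow h))
      · rcases hq.dvd_mul.1 h with h | h
        · exact Or.inr ((Nat.prime_dvd_prime_iff_eq hq Nat.prime_three).1 (hq.dvd_of_dvd_pow h))
        · exact absurd ((Nat.prime_dvd_prime_iff_eq hq (by norm_num)).1 h) hq7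
    rcases hq23 with rfl | rfl
    · exact H.no14 _ hord
    · exact H.no21 _ hord
  have hle : Subgroup.zpowers a ≤ Subgroup.centralizer ({a} : Set G) := by
    rw [Subgroup.zpowers_le, Subgroup.mem_centralizer_singleton_iff]
  haveI : Fact (Nat.Prime 7) := ⟨by norm_num⟩
  have hP : IsPGroup 7 (Subgroup.zpowers a) := IsPGroup.of_card (n := 1) (by rw [Nat.card_zpowers, ha, pow_one])
  have hC : IsPGroup 7 (Subgroup.zpowers c) := by
    rcases (Nat.dvd_prime (by norm_num : Nat.Prime 7)).1 hd with h | h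
    · exact IsPGroup.of_card (n := 0) (by rw [Nat.card_zpowers, h, pow_zero])
    · exact IsPGroup.of_card (n := 1) (by rw [Nat.card_zpowers, h, pow_one])
  have hnorm : Subgroup.zpowers c ≤ Subgroup.normalizer (Subgroup.zpowers a : Set G) := by
    refine le_trans ?_ (Subgroup.centralizer_le_normalizer _)
    rw [Subgroup.zpowers_le]
    intro q hq
    obtain ⟨k, rfl⟩ := Subgroup.mem_zpowers_iff.1 hq
    exact (Commute.zpow_left (hc : Commute a c) k).eq
  have hj := hC.to_sup_of_normal_right' hP hnorm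
  obtain ⟨j, hjc⟩ := hj.exists_card_eq
  have hjle : j ≤ 1 := by
    by_contra hj2
    have h49 : 7 ^ 2 ∣ Nat.card G :=
      (pow_dvd_pow 7 (by omega : 2 ≤ j)).trans (hjc ▸ Subgroup.card_subgroup_dvd_card _)
    rw [H.card] at h49
    norm_num at h49
  have heq : Subgroup.zpowers a = Subgroup.zpowers c ⊔ Subgroup.zpowers a :=
    Subgroup.eq_of_le_of_card_ge le_sup_right (by
      rw [hjc, Nat.card_zpowers, ha]
      exact (Nat.pow_le_pow_right (by norm_num) hjle).trans (by norm_num))
  rw [heq]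
  exact Subgroup.mem_sup_left (Subgroup.mem_zpowers c)

theorem exists_seven : ∃ a : G, orderOf a = 7 := by
  haveI : Fact (Nat.Prime 7) := ⟨by norm_num⟩
  exact exists_prime_orderOf_dvd_card' 7 (by rw [H.card]; norm_num)

theorem card_sylow_seven : Nat.card (Sylow 7 G) = 288 ∧ ∀ P : Sylow 7 G,
    Nat.card (P : Subgroup G) = 7 ∧ Nat.card (Subgroup.normalizer ((P : Subgroup G) : Set G)) = 42 := by
  haveI : Fact (Nat.Prime 7) := ⟨by norm_num⟩
  have hcard : Nat.card G = 7 ^ 1 * 1728 := by rw [H.card]; norm_num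
  have hm : ¬ 7 ∣ 1728 := by norm_num
  have key : ∀ P : Sylow 7 G, Nat.card (P : Subgroup G) = 7 ∧
      Nat.card (Subgroup.normalizer ((P : Subgroup G) : Set G)) ∣ 42 := by
    intro P
    have hP : Nat.card (P : Subgroup G) = 7 := (Small.sylow_card hcard hm P).trans (pow_one 7)
    haveI : Nontrivial (P : Subgroup G) := Finite.one_lt_card_iff_nontrivial.1 (by rw [hP]; norm_num)
    obtain ⟨⟨a, ha⟩, hane⟩ := exists_ne (1 : (P : Subgroup G))
    have hao : orderOf a = 7 := by
      rw [← Subgroup.orderOf_mk _ ha]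
      exact ((Nat.dvd_prime (by norm_num : Nat.Prime 7)).1 (by
        have := orderOf_dvd_natCard (⟨a, ha⟩ : (P : Subgroup G))
        rwa [hP] at this)).resolve_left
        fun h => hane (orderOf_eq_one_iff.1 h)
    have hz : Subgroup.zpowers a = (P : Subgroup G) :=
      Subgroup.eq_of_le_of_card_ge (Subgroup.zpowers_le.2 ha) (by rw [hP, Nat.card_zpowers, hao])
    refine ⟨hP, ?_⟩
    let N := Subgroup.normalizer ((P : Subgroup G) : Set G)
    let φ : N →* MulAut (P : Subgroup G) := Subgroup.normalizerMonoidHom (P : Subgroup G)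
    have hker : Nat.card φ.ker ∣ 7 := by
      have hle : φ.ker.map N.subtype ≤ (P : Subgroup G) := by
        rintro _ ⟨c, hc, rfl⟩
        rw [← hz]
        refine H.commute_seven hao ?_
        have h1 := MonoidHom.mem_ker.1 hc
        have h2 : ((φ c) ⟨a, ha⟩ : G) = a := by rw [h1]; rfl
        have h3 : (c : G) * a * (c : G)⁻¹ = a := h2
        exact (mul_inv_eq_iff_eq_mul.1 h3).symm
      have := Subgroup.card_dvd_of_le hle
      rwa [Subgroup.card_map_of_injective N.subtype_injective, hP] at this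
    have himg : Nat.card φ.range ∣ 6 := by
      refine (Subgroup.card_subgroup_dvd_card _).trans ?_
      haveI : IsCyclic (P : Subgroup G) := isCyclic_of_prime_card hP
      rw [IsCyclic.card_mulAut, hP, Nat.totient_prime (by norm_num)]
    have h := φ.ker.card_mul_index
    rw [Subgroup.index_ker] at h
    exact h ▸ mul_dvd_mul hker himg
  obtain ⟨P⟩ : Nonempty (Sylow 7 G) := inferInstance
  have hn : Nat.card (Sylow 7 G) = 288 := by
    have h1 := Small.sylow_number_mem hcard hm
    have h2 := Small.card_normalizer_mul P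
    rw [H.card] at h2
    obtain ⟨k, hk⟩ := (key P).2
    have h3 : 288 ∣ Nat.card (Sylow 7 G) := ⟨k, by
      have h4 : Nat.card (Subgroup.normalizer ((P : Subgroup G) : Set G)) * Nat.card (Sylow 7 G) =
          Nat.card (Subgroup.normalizer ((P : Subgroup G) : Set G)) * (288 * k) := by
        rw [h2, show Nat.card (Subgroup.normalizer ((P : Subgroup G) : Set G)) * (288 * k) =
          288 * (Nat.card (Subgroup.normalizer ((P : Subgroup G) : Set G)) * k) by ring, ← hk]
      exact Nat.eq_of_mul_eq_mul_left Nat.card_pos h4⟩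
    have h5 : Nat.card (Sylow 7 G) ∈ (Finset.filter (fun d => 288 ∣ d)
        ((Nat.divisors 1728).filter fun d => d % 7 = 1)) := Finset.mem_filter.2 ⟨h1, h3⟩
    rwa [show Finset.filter (fun d => 288 ∣ d) ((Nat.divisors 1728).filter fun d => d % 7 = 1) = {288}
      by decide +kernel, Finset.mem_singleton] at h5
  refine ⟨hn, fun Q => ⟨(key Q).1, ?_⟩⟩
  have h2 := Small.card_normalizer_mul Q
  rw [H.card, hn] at h2
  omega

/-- The subgroup `7 : 6`. -/
theorem exists_f : ∃ f : Idx → G, (∀ n m, f (imul n m) = f n * f m) ∧ Function.Injective f ∧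
    orderOf (f (1, 0)) = 7 ∧
    ∀ g : G, g * f (1, 0) * g⁻¹ ∈ Subgroup.zpowers (f (1, 0)) → g ∈ Set.range f := by
  haveI : Fact (Nat.Prime 7) := ⟨by norm_num⟩
  obtain ⟨a, ha⟩ := H.exists_seven
  have hP : IsPGroup 7 (Subgroup.zpowers a) := IsPGroup.of_card (n := 1) (by rw [Nat.card_zpowers, ha, pow_one])
  obtain ⟨P, hle⟩ := hP.exists_le_sylow
  obtain ⟨hPc, hNc⟩ := (H.card_sylow_seven).2 P
  have hz : Subgroup.zpowers a = (P : Subgroup G) :=
    Subgroup.eq_of_le_of_card_ge hle (by rw [hPc, Nat.card_zpowers, ha])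
  set N := Subgroup.normalizer ((P : Subgroup G) : Set G)
  let φ : N →* MulAut (P : Subgroup G) := Subgroup.normalizerMonoidHom (P : Subgroup G)
  haveI : IsCyclic (P : Subgroup G) := isCyclic_of_prime_card hPc
  have haP : a ∈ (P : Subgroup G) := hz ▸ Subgroup.mem_zpowers a
  have hsurj : Function.Surjective φ := by
    rw [← MonoidHom.range_eq_top]
    refine Subgroup.eq_top_of_le_card _ ?_
    have hker : φ.ker.map N.subtype ≤ (P : Subgroup G) := by
      rintro _ ⟨c, hc, rfl⟩
      rw [← hz]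
      refine H.commute_seven ha ?_
      have h2 : ((φ c) ⟨a, haP⟩ : G) = a := by rw [MonoidHom.mem_ker.1 hc]; rfl
      exact (mul_inv_eq_iff_eq_mul.1 (h2 : (c : G) * a * (c : G)⁻¹ = a)).symm
    have h1 := Subgroup.card_le_of_le hker
    rw [Subgroup.card_map_of_injective N.subtype_injective, hPc] at h1
    have h := φ.ker.card_mul_index
    rw [Subgroup.index_ker, hNc] at h
    rw [IsCyclic.card_mulAut, hPc, Nat.totient_prime (by norm_num)]
    by_contra hlt
    push Not at hlt
    nlinarith [Nat.mul_le_mul h1 (Nat.le_of_lt_succ hlt)]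
  let σ : MulAut (P : Subgroup G) := MulEquiv.ofBijective (MonoidHom.mk' (fun r : (P : Subgroup G) => r ^ 3) fun r s =>
      Commute.mul_pow (IsMulCommutative.is_comm.comm r s : Commute r s) 3)
    ((Nat.bijective_iff_injective_and_card _).2 ⟨fun p q h => by
      have h' : p ^ 3 = q ^ 3 := h
      have e : ∀ r : (P : Subgroup G), (r ^ 3) ^ 5 = r := fun r => by
        rw [← pow_mul, ← pow_mod_natCard, hPc]
        norm_num
      rw [← e p, h', e q], rfl⟩)
  obtain ⟨⟨b, hb⟩, hbσ⟩ := hsurj σ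
  have hconj : b * a * b⁻¹ = a ^ 3 := by
    have := congrArg Subtype.val (DFunLike.congr_fun hbσ ⟨a, haP⟩)
    exact this
  set y := b ^ 7
  have hy6 : y ^ 6 = 1 := by
    rw [← pow_mul]
    have h : orderOf b ∣ 42 := by
      rw [← hNc, ← Subgroup.orderOf_mk _ hb]
      exact orderOf_dvd_natCard _
    exact orderOf_dvd_iff_pow_eq_one.1 h
  have hiter : ∀ k : ℕ, b ^ k * a * (b ^ k)⁻¹ = a ^ (3 ^ k) := by
    intro k
    induction k with
    | zero => simp
    | succ k ih =>
      calc b ^ (k + 1) * a * (b ^ (k + 1))⁻¹ = b * (b ^ k * a * (b ^ k)⁻¹) * b⁻¹ := by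
            rw [pow_succ']; group
        _ = (b * a * b⁻¹) ^ (3 ^ k) := by rw [ih, conj_pow]
        _ = _ := by rw [hconj, ← pow_mul, pow_succ']
  have hya : ∀ j : ℕ, y ^ j * a = a ^ ((mult (Fin.ofNat 6 j)).val) * y ^ j := by
    intro j
    have h := hiter (7 * j)
    rw [← mul_inv_eq_iff_eq_mul, ← pow_mul, h, ← pow_mod_orderOf, ha]
    conv_rhs => rw [← pow_mod_orderOf, ha]
    congr 1
    have hm : ∀ r : Fin 6, 3 ^ (r : ℕ) % 7 = (mult r).val % 7 := by decide
    rw [← hm, Fin.val_ofNat]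
    have h6 : (3 ^ 6) % 7 = 1 := by norm_num
    conv_lhs => rw [pow_mul, ← Nat.div_add_mod j 6, pow_add, pow_mul, Nat.mul_mod, Nat.pow_mod]
    norm_num [Nat.pow_mod, Nat.mul_mod]
  let f : Idx → G := fun n => a ^ (n.1 : ℕ) * y ^ (n.2 : ℕ)
  have hpa : ∀ k : ℕ, a ^ k = a ^ (k % 7) := fun k => by
    conv_lhs => rw [← pow_mod_orderOf, ha]
  have hpy : ∀ k : ℕ, y ^ k = y ^ (k % 6) := fun k => by
    conv_lhs => rw [← Nat.mod_add_div k 6, pow_add, pow_mul, hy6, one_pow, mul_one]
  have hmove : ∀ (j : Fin 6) (k : ℕ), y ^ (j : ℕ) * a ^ k = a ^ ((mult j).val * k) * y ^ (j : ℕ) := by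
    intro j k
    induction k with
    | zero => simp
    | succ k ih =>
      have h1 : y ^ (j : ℕ) * a = a ^ ((mult j).val) * y ^ (j : ℕ) := by
        simpa using hya (j : ℕ)
      rw [pow_succ, ← mul_assoc, ih, mul_assoc, h1, ← mul_assoc, ← pow_add, mul_add, mul_one]
  have hfm : ∀ n m, f (imul n m) = f n * f m := by
    intro n m
    show a ^ ((n.1 + mult n.2 * m.1 : Fin 7) : ℕ) * y ^ ((n.2 + m.2 : Fin 6) : ℕ) = _
    rw [Fin.val_add, Fin.val_mul, Fin.val_add, ← hpy, Nat.add_mod_mod, ← hpa, pow_add, pow_add]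
    show _ = a ^ (n.1 : ℕ) * y ^ (n.2 : ℕ) * (a ^ (m.1 : ℕ) * y ^ (m.2 : ℕ))
    rw [mul_assoc (a ^ (n.1 : ℕ)) (y ^ (n.2 : ℕ)), ← mul_assoc (y ^ (n.2 : ℕ)), hmove]
    simp only [mul_assoc]
  have hf1 : f (1, 0) = a := by simp [f]
  have hf0 : f ione = 1 := by simp [f, ione]
  have hinj : Function.Injective f := by
    have hker : ∀ n, f n = 1 → n = ione := by
      rintro ⟨i, j⟩ hn
      have hy : y ^ (j : ℕ) = (a ^ (i : ℕ))⁻¹ := eq_inv_of_mul_eq_one_right hn
      have hmult : mult j = 1 := by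
        have h := hmove j 1
        rw [mul_one, pow_one, hy] at h
        have hc : a ^ ((mult j).val) = a ^ 1 := by
          have h2 : (a ^ (i : ℕ))⁻¹ * a = a * (a ^ (i : ℕ))⁻¹ := ((Commute.refl a).pow_right _).inv_right.symm.eq
          rw [pow_one]
          exact (mul_right_cancel (h2 ▸ h : a * _ = _ * _)).symm
        have := pow_injOn_Iio_orderOf (ha.symm ▸ (mult j).isLt : (mult j).val < orderOf a)
          (ha.symm ▸ (by norm_num) : 1 < orderOf a) hc
        exact Fin.ext this
      have hj : j = 0 := (show ∀ r : Fin 6, mult r = 1 → r = 0 by decide) j hmult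
      subst hj
      simp only [Fin.val_zero, pow_zero] at hy
      have := pow_injOn_Iio_orderOf (ha.symm ▸ i.isLt : (i : ℕ) < orderOf a)
        (ha.symm ▸ (by norm_num) : 0 < orderOf a) (by simpa using hy.symm)
      exact Prod.ext (Fin.ext this) rfl
    intro n m h
    have h1 : f (imul n (iinv m)) = 1 := by
      rw [hfm, h, ← hfm, (imul_iinv m).1, hf0]
    calc n = imul (imul n (iinv m)) m := by
            rw [imul_assoc, (imul_iinv m).2.1, (imul_iinv n).2.2.1]
      _ = m := by rw [hker _ h1, (imul_iinv m).2.2.2.1]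
  refine ⟨f, hfm, hinj, hf1 ▸ ha, fun g hg => ?_⟩
  have hsub : Set.range f ⊆ (N : Set G) := by
    rintro _ ⟨n, rfl⟩
    exact mul_mem (pow_mem (Subgroup.le_normalizer haP) _) (pow_mem (pow_mem hb _) _)
  have hgN : g ∈ N := by
    rw [hf1, hz] at hg
    refine Subgroup.mem_normalizer_iff.2 fun h => ?_
    have hmap : (P : Subgroup G).map (MulAut.conj g).toMonoidHom = (P : Subgroup G) := by
      refine Subgroup.eq_of_le_of_card_ge ?_ (le_of_eq
        (Nat.card_congr ((P : Subgroup G).equivMapOfInjective _ (MulAut.conj g).injective).toEquiv))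
      conv_lhs => rw [← hz, MonoidHom.map_zpowers]
      exact Subgroup.zpowers_le.2 hg
    constructor
    · intro hh
      rw [← hmap]
      exact ⟨h, hh, rfl⟩
    · intro hh
      rw [← hmap] at hh
      obtain ⟨h', hh', e⟩ := hh
      obtain rfl : h' = h := (MulAut.conj g).injective e
      exact hh'
  have hcard : (Set.range f).ncard = 42 := by
    rw [Set.ncard_range_of_injective hinj, Nat.card_eq_fintype_card]
    rfl
  have heq : Set.range f = (N : Set G) :=
    Set.eq_of_subset_of_ncard_le hsub (by rw [hcard, ← Nat.card_coe_set_eq]; exact hNc.le) (Set.toFinite _)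
  rw [heq]
  exact hgN

end Hyp

end Cfsg.Agent.G22Rec
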