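import Cfsg.Agent.Lib.G22Rec.Local

/-!
The principal block at 7 when a Sylow 7-subgroup is its own centralizer.
-/

set_option autoImplicit false
set_option linter.unusedSectionVars false
set_option linter.style.haveILetI false

namespace Cfsg.Agent.G22Rec

open Cfsg Cfsg.Agent.Char Cfsg.Agent.Blocks Cfsg.Agent.SmallN Cfsg.Agent.BrauerPairs
open scoped ComplexConjugate Classical

universe u

variable {K : Type u} [Group K] [Fintype K]

theorem exists_block {a : K} (ha : orderOf a = 7) (h49 : ¬ 49 ∣ Nat.card K)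
    (hC : ∀ c : K, a * c = c * a → c ∈ Subgroup.zpowers a) :
    ∃ (V : Subgroup K) (e : ℕ) (X Y : Finset (IrrCharacter K)) (δ : ℤ) (sg : IrrCharacter K → ℤ),
      PBlock 7 (Subgroup.zpowers a) V e X Y δ sg ∧ Nat.card V = 1 := by
  haveI : Fact (Nat.Prime 7) := ⟨by norm_num⟩
  obtain ⟨S, hS⟩ := (IsPGroup.of_card (p := 7) (n := 1)
    (show Nat.card (Subgroup.zpowers a) = 7 ^ 1 by rw [Nat.card_zpowers, ha, pow_one])).exists_le_sylow
  have hSc : Nat.card (S : Subgroup K) = 7 := by
    obtain ⟨k, hk⟩ := IsPGroup.iff_card.1 S.isPGroup'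
    have h1 : k ≤ 1 := by
      by_contra hcon
      exact h49 (((pow_dvd_pow 7 (by omega : 2 ≤ k)).trans (hk ▸ Subgroup.card_subgroup_dvd_card _)))
    have h7 : 7 ∣ Nat.card (S : Subgroup K) := by
      have h := Subgroup.card_dvd_of_le hS
      rwa [Nat.card_zpowers, ha] at h
    interval_cases k
    · rw [hk] at h7; norm_num at h7
    · rw [hk, pow_one]
  have hSz : (S : Subgroup K) = Subgroup.zpowers a :=
    (Subgroup.eq_of_le_of_card_ge hS (by rw [hSc, Nat.card_zpowers, ha])).symm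
  obtain ⟨V, e, X, Y, δ, sg, B⟩ := exists_pblock S hSc
  rw [hSz] at B
  refine ⟨V, e, X, Y, δ, sg, B, ?_⟩
  have h := B.cardC
  have hle : Subgroup.centralizer (Subgroup.zpowers a : Set K) ≤ Subgroup.zpowers a := fun c hc =>
    hC c (Subgroup.mem_centralizer_iff.1 hc a (Subgroup.mem_zpowers a))
  have h2 := Subgroup.card_le_of_le hle
  rw [h, Nat.card_zpowers, ha] at h2
  have : 0 < Nat.card V := Nat.card_pos
  omega

variable {a : K} {V : Subgroup K} {e : ℕ} {X Y : Finset (IrrCharacter K)} {δ : ℤ}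
  {sg : IrrCharacter K → ℤ} (B : PBlock 7 (Subgroup.zpowers a) V e X Y δ sg) (hV : Nat.card V = 1)
include B hV

/-- A class sum over the irreducible characters weighted by a value at `a` lives on the block. -/
theorem sum_block (ha : a ≠ 1) (F : IrrCharacter K → ℂ) :
    ∑ χ : IrrCharacter K, F χ * (χ : K → ℂ) a =
      ∑ χ ∈ X, F χ * (sg χ : ℂ) + ∑ θ ∈ Y, F θ * (θ : K → ℂ) a := by
  rw [← Finset.sum_subset (Finset.subset_univ (X ∪ Y)) fun χ _ hχ => by
      rw [Finset.mem_union, not_or] at hχ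
      have h0 := B.zeroV χ (((B.cover hV χ).resolve_left hχ.1).resolve_left hχ.2) a
        (Subgroup.mem_zpowers a) ha 1 V.one_mem
      rw [one_mul] at h0
      rw [h0, mul_zero],
    Finset.sum_union B.disj, Finset.sum_congr rfl fun χ hχ => by
      rw [B.valX χ hχ a (Subgroup.mem_zpowers a) ha]]

theorem sum_block_conj (ha : a ≠ 1) (F : IrrCharacter K → ℂ) :
    ∑ χ : IrrCharacter K, F χ * conj ((χ : K → ℂ) a) =
      ∑ χ ∈ X, F χ * (sg χ : ℂ) + ∑ θ ∈ Y, F θ * conj ((θ : K → ℂ) a) := by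
  have h := congrArg conj (sum_block B hV ha fun χ => conj (F χ))
  simpa [map_sum, map_add, map_mul, map_intCast] using h

theorem deg_not_dvd (χ : IrrCharacter K) (h : ¬ 7 ∣ charDegree (χ : K → ℂ)) : χ ∈ X ∨ χ ∈ Y := by
  rcases B.cover hV χ with h' | h' | h'
  exacts [Or.inl h', Or.inr h', absurd h' h]

end Cfsg.Agent.G22Rec
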