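import Cfsg.Agent.Lib.G22Rec.Data

/-!
Kernel checks for the recognition of `G₂(2)` inside `Sp₆(2)`.
-/

set_option autoImplicit false
set_option maxRecDepth 100000

namespace Cfsg.Agent.G22Rec

/-- The matrix of a word. -/
def evalW (gens : List (List ℕ)) : List ℕ → List ℕ
  | [] => idC
  | i :: w => mulC (gens.getD i idC) (evalW gens w)

/-- Orders that do not occur. -/
def badOrders : List ℕ := [5, 9, 10, 14, 15]

/-- An element of forbidden order. -/
def badC (u : List ℕ) (d : ℕ) : Bool :=
  badOrders.any (fun b => Nat.beq b d) && powC u d == idC &&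
    (List.range d).all fun k => Nat.beq k 0 || !(powC u k == idC)

/-- A check on corresponding entries of two lists of one length. -/
def zipAll {α β : Type} (p : α → β → Bool) : List α → List β → Bool
  | [], [] => true
  | a :: as, b :: bs => p a b && zipAll p as bs
  | _, _ => false

/-- The verdict on an element of the centralizer of the cube. -/
def checkX (u : List ℕ) : ℕ × ℕ × List ℕ → Bool
  | (0, d, w) => badC (evalW [aC, yC, u] w) d
  | (1, _, w) => evalW [aC, yC, u] w == u0C
  | (2, _, w) => evalW [aC, yC, u] w == t0C && dList.contains u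
  | (_, _, _) => nList.contains u && dList.contains u

/-- The verdict on an element of `dList`. -/
def checkD (u : List ℕ) : ℕ × List ℕ → Bool
  | (0, _) => u == idC || u == xC || !(mulC u u == idC)
  | (1, w) => mulC (evalW [aC, yC, t0C] w) t0C == mulC u (evalW [aC, yC, t0C] w)
  | (_, w) => mulC (evalW [aC, yC, t0C] w) xC == mulC u (evalW [aC, yC, t0C] w)

/-- The verdict on a representative. -/
def checkRep (r : List ℕ) : ℕ × ℕ × List ℕ → Bool
  | (0, d, w) => badC (evalW [aC, yC, t0C, r] w) d
  | (1, _, w) => evalW [aC, yC, t0C, r] w == u0C
  | (_, _, _) => true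

/-- The reduction of an element of the centralizer of the involution to a representative. -/
def checkZ (u : List ℕ) : ℕ × ℕ × ℕ → Bool
  | (i, k, j) => mulC (mulC (clList.getD i idC) u) (clList.getD j idC) == repList.getD k idC &&
      Nat.blt i clList.length && Nat.blt j clList.length && Nat.blt k repList.length &&
        (Nat.blt (repCert.getD k (0, 0, [])).1 2 || clList.contains u)

/-- All coordinates. -/
def certZ : List (ℕ × ℕ × ℕ) :=
  certZ_0 ++ certZ_1 ++ certZ_2 ++ certZ_3 ++ certZ_4 ++ certZ_5 ++ certZ_6 ++ certZ_7 ++ certZ_8

theorem gens_ok : aC = codeM ((rho (1, 0)).map (Int.cast : ℤ → ZMod 2)) ∧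
    yC = codeM ((rho (0, 1)).map (Int.cast : ℤ → ZMod 2)) ∧
    xC = codeM ((rho (0, 3)).map (Int.cast : ℤ → ZMod 2)) := by
  decide +kernel

theorem nList_ok : ∀ u ∈ nList, ∃ n : Idx, u = codeM ((rho n).map (Int.cast : ℤ → ZMod 2)) := by
  decide +kernel

theorem bases_ok : (baseX.all (fun v => Nat.blt v 64) && baseZ.all (fun v => Nat.blt v 64) &&
    coefX.map (fun m => comboC m (extC xC baseX)) == idC &&
    coefZ.map (fun m => comboC m (extC t0C baseZ)) == idC) = true := by
  decide +kernel

theorem lengths_ok : dList.length = 12 ∧ clList.length = 16 := by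
  decide +kernel

theorem certX_ok : zipAll checkX (centralC xC baseX coefX) certX = true := by
  decide +kernel

theorem dCert_ok : zipAll checkD dList dCert = true := by
  decide +kernel

theorem clWords_ok : zipAll (fun u w => evalW [aC, yC, t0C] w == u) clList clWords = true := by
  decide +kernel

theorem repCert_ok : zipAll checkRep repList repCert = true := by
  decide +kernel

/-- The images of the first basis vector under the transversal are distinct. -/
def transOK : Bool :=
  let l := transW.map fun w => (evalW [aC, yC, u0C] w).getD 0 0
  Nat.beq l.length 63 && l.Nodup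

theorem trans_ok : transOK = true := by
  decide +kernel

/-- The words for the stabilizer give distinct matrices fixing the first basis vector. -/
def stabOK : Bool :=
  let l := stabW.map (evalW [aC, yC, u0C])
  Nat.beq l.length 192 && l.all (fun u => Nat.beq (u.getD 0 0) 1) && l.Nodup

theorem stab_ok : stabOK = true := by
  decide +kernel

end Cfsg.Agent.G22Rec
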