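import Cfsg.Agent.Lib.G22Rec.Cert

/-!
The reduction of the centralizer of the involution to double coset representatives.
-/

set_option autoImplicit false
set_option maxRecDepth 100000

namespace Cfsg.Agent.G22Rec

theorem certZ_ok : zipAll checkZ (centralC t0C baseZ coefZ) certZ = true := by
  decide +kernel

end Cfsg.Agent.G22Rec
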