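import Cfsg.Agent.Lib.G22Rec.Model

/-!
Matrices of degree 6 over the field of two elements as lists of bit masks.
-/

set_option autoImplicit false
set_option maxRecDepth 100000

namespace Cfsg.Agent.G22Rec

/-- Multiply a vector by a matrix given by its columns. -/
def appC : List ℕ → ℕ → ℕ
  | [], _ => 0
  | c :: cs, v => (bif Nat.beq (v % 2) 1 then c else 0) ^^^ appC cs (v / 2)

/-- The product of two matrices. -/
def mulC (a b : List ℕ) : List ℕ := b.map (appC a)

/-- The identity. -/
def idC : List ℕ := [1, 2, 4, 8, 16, 32]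

/-- A power. -/
def powC (a : List ℕ) : ℕ → List ℕ
  | 0 => idC
  | k + 1 => mulC a (powC a k)

/-- The parity of a mask. -/
def parC (u : ℕ) : ℕ := (0x6996966996696996 >>> u) % 2

/-- The alternating form. -/
def blC (u v : ℕ) : ℕ := (parC u &&& parC v) ^^^ parC (u &&& v)

/-- The mask of a vector. -/
def enc (v : Fin 6 → ZMod 2) : ℕ :=
  (v 0).val + 2 * (v 1).val + 4 * (v 2).val + 8 * (v 3).val + 16 * (v 4).val + 32 * (v 5).val

/-- The vector of a mask. -/
def dec (n : ℕ) : Fin 6 → ZMod 2 := fun i => ((n >>> (i : ℕ) : ℕ) : ZMod 2)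

theorem dec_enc : ∀ v : Fin 6 → ZMod 2, dec (enc v) = v ∧ enc v < 64 := by
  decide +kernel

theorem enc_dec : ∀ n : Fin 64, enc (dec n) = (n : ℕ) := by
  decide +kernel

theorem dec_xor : ∀ a b : Fin 64, dec ((a : ℕ) ^^^ (b : ℕ)) = dec a + dec b ∧ (a : ℕ) ^^^ (b : ℕ) < 64 := by
  decide +kernel

theorem blC_dec : ∀ a b : Fin 64,
    (blC a b : ZMod 2) = dotProduct (dec a) (formJ.mulVec (dec b)) ∧ blC a b < 2 := by
  decide +kernel

theorem enc_inj {v w : Fin 6 → ZMod 2} (h : enc v = enc w) : v = w := by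
  rw [← (dec_enc v).1, h, (dec_enc w).1]

theorem enc_add (v w : Fin 6 → ZMod 2) : enc (v + w) = enc v ^^^ enc w := by
  have h := dec_xor ⟨_, (dec_enc v).2⟩ ⟨_, (dec_enc w).2⟩
  simp only [(dec_enc v).1, (dec_enc w).1] at h
  rw [← h.1]
  exact enc_dec ⟨_, h.2⟩

theorem enc_zero : enc 0 = 0 := by decide +kernel

theorem enc_dec' {v : ℕ} (hv : v < 64) : enc (dec v) = v := enc_dec ⟨v, hv⟩

theorem blC_enc (v w : Fin 6 → ZMod 2) :
    (blC (enc v) (enc w) : ZMod 2) = dotProduct v (formJ.mulVec w) ∧ blC (enc v) (enc w) < 2 := by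
  have h := blC_dec ⟨_, (dec_enc v).2⟩ ⟨_, (dec_enc w).2⟩
  simpa only [(dec_enc v).1, (dec_enc w).1] using h

/-- The code of a matrix: its columns. -/
def codeM (M : Matrix (Fin 6) (Fin 6) (ZMod 2)) : List ℕ :=
  (List.finRange 6).map fun j => enc fun i => M i j

theorem codeM_injective : Function.Injective codeM := by
  intro M N h
  ext i j
  have := congrArg (fun l : List ℕ => l[(j : ℕ)]?) h
  simp [codeM] at this
  exact congrFun (enc_inj this) i

theorem appC_codeM (M : Matrix (Fin 6) (Fin 6) (ZMod 2)) (v : Fin 6 → ZMod 2) :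
    appC (codeM M) (enc v) = enc (M.mulVec v) := by
  have hv : ∀ k : Fin 6, v k = 0 ∨ v k = 1 := fun k => by
    generalize v k = t
    revert t
    decide
  have hbit : ∀ k : Fin 6, (bif Nat.beq ((enc v / 2 ^ (k : ℕ)) % 2) 1 then enc fun i => M i k else 0) =
      enc (v k • fun i => M i k) := by
    intro k
    have he : (enc v / 2 ^ (k : ℕ)) % 2 = (v k).val := by
      have key : ∀ (w : Fin 6 → ZMod 2) (k : Fin 6), (enc w / 2 ^ (k : ℕ)) % 2 = (w k).val := by decide +kernel
      exact key v k
    rw [he]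
    rcases hv k with h | h <;> rw [h]
    · rw [zero_smul, enc_zero]; rfl
    · rw [one_smul]; rfl
  have hsum : M.mulVec v = ∑ k : Fin 6, v k • fun i => M i k := by
    ext i
    simp [Matrix.mulVec, dotProduct, Finset.sum_apply, mul_comm]
  rw [hsum, Fin.sum_univ_six]
  simp only [enc_add, ← hbit]
  simp only [codeM, List.finRange_succ, List.finRange_zero, List.map_cons, List.map_nil, appC,
    Nat.div_div_eq_div_mul, Fin.val_zero, Fin.succ_zero_eq_one, Fin.val_one, pow_zero, Nat.div_one]
  simp only [Nat.xor_assoc, Nat.xor_zero]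
  rfl

theorem codeM_mul (M N : Matrix (Fin 6) (Fin 6) (ZMod 2)) : codeM (M * N) = mulC (codeM M) (codeM N) := by
  rw [mulC, show codeM N = (List.finRange 6).map fun j => enc fun i => N i j from rfl, List.map_map]
  rw [show (List.finRange 6).map (appC (codeM M) ∘ fun j => enc fun i => N i j) =
    (List.finRange 6).map fun j => enc fun i => (M * N) i j from
    List.map_congr_left fun j _ => by
      show appC (codeM M) _ = _
      rw [appC_codeM]
      rfl]
  rfl

theorem codeM_one : codeM 1 = idC := by decide +kernel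

theorem appC_lt (M : Matrix (Fin 6) (Fin 6) (ZMod 2)) {v : ℕ} (hv : v < 64) : appC (codeM M) v < 64 := by
  rw [← enc_dec' hv, appC_codeM]
  exact (dec_enc _).2

theorem appC_xor (M : Matrix (Fin 6) (Fin 6) (ZMod 2)) {v w : ℕ} (hv : v < 64) (hw : w < 64) :
    appC (codeM M) (v ^^^ w) = appC (codeM M) v ^^^ appC (codeM M) w := by
  rw [← enc_dec' hv, ← enc_dec' hw, ← enc_add, appC_codeM, appC_codeM, appC_codeM,
    Matrix.mulVec_add, enc_add]

theorem appC_blC {M : Matrix (Fin 6) (Fin 6) (ZMod 2)} (hM : M.transpose * formJ * M = formJ) {v w : ℕ}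
    (hv : v < 64) (hw : w < 64) : blC (appC (codeM M) v) (appC (codeM M) w) = blC v w := by
  rw [← enc_dec' hv, ← enc_dec' hw, appC_codeM, appC_codeM]
  obtain ⟨h1, h2⟩ := blC_enc (M.mulVec (dec v)) (M.mulVec (dec w))
  obtain ⟨h3, h4⟩ := blC_enc (dec v) (dec w)
  have he : dotProduct (M.mulVec (dec v)) (formJ.mulVec (M.mulVec (dec w))) =
      dotProduct (dec v) (formJ.mulVec (dec w)) := by
    conv_rhs => rw [← hM, ← Matrix.mulVec_mulVec, ← Matrix.mulVec_mulVec, Matrix.dotProduct_mulVec,
      Matrix.vecMul_transpose]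
  rw [he, ← h3] at h1
  have := (ZMod.natCast_eq_natCast_iff' _ _ _).1 h1
  rwa [Nat.mod_eq_of_lt h2, Nat.mod_eq_of_lt h4] at this

theorem appC_mulC (M N : Matrix (Fin 6) (Fin 6) (ZMod 2)) {v : ℕ} (hv : v < 64) :
    appC (codeM (M * N)) v = appC (codeM M) (appC (codeM N) v) := by
  rw [← enc_dec' hv, appC_codeM, appC_codeM, appC_codeM, Matrix.mulVec_mulVec]

/-- The images of the basis vectors together with their transforms by `Z`. -/
def extC (Z : List ℕ) (vs : List ℕ) : List ℕ := vs.flatMap fun v => [v, appC Z v]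

/-- A combination of a list. -/
def comboC : ℕ → List ℕ → ℕ
  | _, [] => 0
  | m, w :: ws => (bif Nat.beq (m % 2) 1 then w else 0) ^^^ comboC (m / 2) ws

/-- Candidates for the image of one basis vector. -/
def candsC (Z : List ℕ) (b : ℕ) : List ℕ :=
  (List.range 64).filter fun v =>
    (Nat.beq (appC Z v) v || !(Nat.beq (appC Z b) b)) && Nat.beq (blC v (appC Z v)) (blC b (appC Z b))

/-- Compatibility with the images chosen before. -/
def compatC (Z : List ℕ) (b v : ℕ) : List ℕ → List ℕ → Bool
  | w :: ws, c :: cs => Nat.beq (blC v w) (blC b c) &&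
      Nat.beq (blC v (appC Z w)) (blC b (appC Z c)) && compatC Z b v ws cs
  | _, _ => true

/-- The possible images of a list of vectors. -/
def searchC (Z : List ℕ) : List ℕ → List ℕ → List (List ℕ) → List (List ℕ)
  | [], _, pre => pre
  | b :: bs, done, pre =>
    let cs := candsC Z b
    searchC Z bs (done ++ [b])
      (pre.flatMap fun p => (cs.filter fun v => compatC Z b v p done).map fun v => p ++ [v])

/-- The symplectic matrices that commute with `Z`. -/
def centralC (Z bs coef : List ℕ) : List (List ℕ) :=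
  (searchC Z bs [] [[]]).map fun p => coef.map fun m => comboC m (extC Z p)

theorem searchC_complete {Z : List ℕ} (f : ℕ → ℕ) (hf : ∀ v < 64, f v < 64)
    (hfZ : ∀ v < 64, f (appC Z v) = appC Z (f v)) (hZ : ∀ v < 64, appC Z v < 64)
    (hbl : ∀ v < 64, ∀ w < 64, blC (f v) (f w) = blC v w) :
    ∀ (bs done : List ℕ) (pre : List (List ℕ)), (∀ v ∈ bs, v < 64) → (∀ v ∈ done, v < 64) →
      done.map f ∈ pre → (done ++ bs).map f ∈ searchC Z bs done pre
  | [], done, pre, _, _, h => by simpa [searchC] using h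
  | b :: bs, done, pre, hb, hd, h => by
    have hb0 : b < 64 := hb b List.mem_cons_self
    have hcand : f b ∈ candsC Z b := by
      simp only [candsC, List.mem_filter, List.mem_range, Bool.and_eq_true, Bool.or_eq_true,
        Nat.beq_eq, Bool.not_eq_true', hf b hb0, true_and]
      refine ⟨?_, by rw [← hfZ b hb0, hbl b hb0 _ (hZ b hb0)]⟩
      by_cases hfix : appC Z b = b
      · exact Or.inl (by rw [← hfZ b hb0, hfix])
      · exact Or.inr (Bool.eq_false_iff.2 fun h => hfix (Nat.eq_of_beq_eq_true h))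
    have hcomp : ∀ l : List ℕ, (∀ v ∈ l, v < 64) → compatC Z b (f b) (l.map f) l = true := by
      intro l
      induction l with
      | nil => simp [compatC]
      | cons c l ih =>
        intro hl
        have hc : c < 64 := hl c List.mem_cons_self
        simp only [List.map_cons, compatC, Bool.and_eq_true, Nat.beq_eq]
        exact ⟨⟨hbl b hb0 c hc, by rw [← hfZ c hc, hbl b hb0 _ (hZ c hc)]⟩,
          ih fun v hv => hl v (List.mem_cons_of_mem _ hv)⟩
    have hnext := searchC_complete f hf hfZ hZ hbl bs (done ++ [b])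
      (pre.flatMap fun p => ((candsC Z b).filter fun v => compatC Z b v p done).map fun v => p ++ [v])
      (fun v hv => hb v (List.mem_cons_of_mem _ hv))
      (fun v hv => by
        rcases List.mem_append.1 hv with h' | h'
        · exact hd v h'
        · rw [List.mem_singleton.1 h']; exact hb0)
      (List.mem_flatMap.2 ⟨done.map f, h, List.mem_map.2 ⟨f b,
        List.mem_filter.2 ⟨hcand, hcomp done hd⟩, by rw [List.map_append]; rfl⟩⟩)
    rw [List.append_cons]
    exact hnext

theorem mem_centralC {M Z : Matrix (Fin 6) (Fin 6) (ZMod 2)} {bs coef : List ℕ}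
    (hJ : M.transpose * formJ * M = formJ) (hc : M * Z = Z * M) (hbs : ∀ v ∈ bs, v < 64)
    (hcoef : coef.map (fun m => comboC m (extC (codeM Z) bs)) = idC) :
    codeM M ∈ centralC (codeM Z) bs coef := by
  set f := appC (codeM M) with hfdef
  have hf : ∀ v < 64, f v < 64 := fun v hv => appC_lt M hv
  have hfZ : ∀ v < 64, f (appC (codeM Z) v) = appC (codeM Z) (f v) := fun v hv => by
    rw [hfdef, ← appC_mulC M Z hv, hc, appC_mulC Z M hv]
  have h := searchC_complete f hf hfZ (fun v hv => appC_lt Z hv) (fun v hv w hw => appC_blC hJ hv hw)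
    bs [] [[]] hbs (by simp) (by simp)
  rw [List.nil_append] at h
  refine List.mem_map.2 ⟨bs.map f, h, ?_⟩
  have hext : extC (codeM Z) (bs.map f) = (extC (codeM Z) bs).map f := by
    rw [extC, extC, List.map_flatMap, List.flatMap_map]
    simp only [List.flatMap]
    refine congrArg List.flatten (List.map_congr_left fun v hv => ?_)
    simp [hfZ v (hbs v hv)]
  have hsrc : ∀ v ∈ extC (codeM Z) bs, v < 64 := by
    intro v hv
    obtain ⟨b, hb, hvb⟩ := List.mem_flatMap.1 hv
    simp only [List.mem_cons, List.not_mem_nil, or_false] at hvb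
    rcases hvb with rfl | rfl
    · exact hbs v hb
    · exact appC_lt Z (hbs b hb)
  have hxor : ∀ a b : ℕ, a < 64 → b < 64 → a ^^^ b < 64 := fun a b ha hb => (dec_xor ⟨a, ha⟩ ⟨b, hb⟩).2
  have hzero : f 0 = 0 := by
    have := appC_codeM M 0
    rwa [enc_zero, Matrix.mulVec_zero, enc_zero] at this
  have hlin : ∀ l : List ℕ, (∀ v ∈ l, v < 64) →
      ∀ m, comboC m l < 64 ∧ comboC m (l.map f) = f (comboC m l) := by
    intro l
    induction l with
    | nil => intro _ m; simp [comboC, hzero]
    | cons c l ih =>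
      intro hl m
      obtain ⟨h1, h2⟩ := ih (fun v hv => hl v (List.mem_cons_of_mem _ hv)) (m / 2)
      have hc' : (bif Nat.beq (m % 2) 1 then c else 0) < 64 := by
        cases Nat.beq (m % 2) 1 <;> simp [hl c List.mem_cons_self]
      refine ⟨hxor _ _ hc' h1, ?_⟩
      simp only [List.map_cons, comboC, h2]
      rw [hfdef, appC_xor M hc' h1]
      cases Nat.beq (m % 2) 1 <;> simp [hzero, ← hfdef]
  rw [List.map_congr_left (g := f ∘ fun m => comboC m (extC (codeM Z) bs)) fun m _ => by
    rw [hext, (hlin _ hsrc m).2]; rfl, ← List.map_map, hcoef]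
  rw [hfdef]
  have hu : ∀ N : Matrix (Fin 6) (Fin 6) (ZMod 2), idC.map (appC (codeM N)) = codeM N := fun N => by
    show mulC (codeM N) idC = codeM N
    rw [← codeM_one, ← codeM_mul, mul_one]
  exact hu M

end Cfsg.Agent.G22Rec
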