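import Cfsg.Agent.Lib.G22Rec.Code

/-!
Data for the recognition of `G₂(2)` inside `Sp₆(2)`.
-/

set_option autoImplicit false
set_option maxRecDepth 100000

namespace Cfsg.Agent.G22Rec

/-- The element of order 7. -/
def aC : List ℕ := [2,4,8,16,32,63]

/-- The element of order 6. -/
def yC : List ℕ := [4,32,2,16,1,8]

/-- Its cube. -/
def xC : List ℕ := [32,16,8,4,2,1]

/-- The third generator. -/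
def u0C : List ℕ := [62,49,41,37,35,31]

/-- An involution of the subgroup of order 336. -/
def t0C : List ℕ := [31,59,61,47,55,62]

/-- A basis for the centralizer of the cube. -/
def baseX : List ℕ := [62,47,54]

/-- Coordinates in it. -/
def coefX : List ℕ := [61,52,34,17,56,62]

/-- A basis for the centralizer of the involution. -/
def baseZ : List ℕ := [15,12,11,19]

/-- Coordinates in it. -/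
def coefZ : List ℕ := [72,77,17,21,69,27]

/-- Verdicts on the centralizer of the cube. -/
def certX : List (ℕ × ℕ × List ℕ) := [(0,15,[2,0]),
  (0,10,[2,0]),
  (0,15,[2,1,1,0]),
  (2,0,[2,1,1,1]),
  (0,15,[2,1,1,1,0]),
  (0,15,[2,0,2,0,0]),
  (0,9,[2,0]),
  (0,9,[2,1,0]),
  (0,15,[2,0,2,0,0]),
  (0,15,[2,0,0]),
  (0,9,[2,0]),
  (0,10,[2,0]),
  (0,9,[2,1,0]),
  (0,9,[2,0]),
  (1,0,[2]),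
  (0,9,[2,0,0]),
  (0,15,[2,1,1,0]),
  (0,15,[2,1,0]),
  (0,10,[2,1,0]),
  (0,15,[2,0,2,0,0,0]),
  (0,10,[2,0,0]),
  (0,15,[2,0,0]),
  (0,9,[2,0,0]),
  (0,15,[2,0,0]),
  (2,0,[1,2]),
  (0,5,[2,0]),
  (0,10,[2,0]),
  (1,0,[1,2,1,1,1]),
  (0,15,[2,0]),
  (0,9,[2,0]),
  (0,15,[2,0,0]),
  (0,9,[2,0]),
  (0,15,[2,0,2,0,0]),
  (0,15,[2,1,0]),
  (2,0,[1,1,2]),
  (0,15,[2,1,0]),
  (0,15,[2,1,1,1,0]),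
  (0,5,[2,1,1,0]),
  (1,0,[2,2,1]),
  (0,10,[1,2,0]),
  (0,10,[2,0,0]),
  (0,15,[2,0,0,0]),
  (0,10,[2,1,0]),
  (0,9,[2,0,0]),
  (0,9,[2,1,0]),
  (0,9,[2,0,0,0]),
  (0,9,[2,0,0]),
  (0,10,[2,1,0]),
  (0,10,[2,0]),
  (0,15,[2,0]),
  (0,5,[2,2,1,1,0]),
  (0,15,[2,0]),
  (0,5,[2,2,1,1,0]),
  (2,0,[2,1]),
  (0,10,[2,0,0]),
  (0,9,[2,0,0]),
  (0,15,[2,0,0]),
  (0,10,[2,0,2,1,0]),
  (0,15,[2,0]),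
  (0,9,[2,1,0]),
  (0,9,[2,0]),
  (0,15,[2,0]),
  (0,9,[2,0]),
  (1,0,[2,2,1]),
  (0,15,[2,0,0]),
  (0,10,[2,1,0]),
  (0,9,[2,0,0]),
  (0,10,[2,1,0]),
  (0,9,[2,0,0]),
  (1,0,[2,1,1,2,1]),
  (0,15,[2,0,0]),
  (0,5,[2,1,1,0]),
  (0,9,[2,0,0]),
  (0,10,[2,0]),
  (0,10,[2,0,0]),
  (0,9,[2,0]),
  (0,9,[2,0,0]),
  (1,0,[2,2,1,1,1]),
  (0,9,[2,0]),
  (0,10,[2,2,0,0]),
  (0,10,[2,2,0]),
  (0,9,[2,0]),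
  (0,9,[2,0]),
  (0,15,[2,0,0]),
  (0,9,[2,0,0,0]),
  (1,0,[2,1,1,1,1]),
  (0,9,[2,0,0]),
  (0,9,[2,0]),
  (0,9,[2,0]),
  (0,15,[2,0,0]),
  (0,15,[2,0,0]),
  (1,0,[1,2,1,2,1,1,1]),
  (0,10,[2,0,0]),
  (0,5,[2,0]),
  (0,9,[2,0]),
  (0,9,[2,2,0,0]),
  (0,15,[2,0,2,0,0]),
  (2,0,[2,1,1]),
  (0,15,[1,2,0]),
  (0,15,[2,0]),
  (0,15,[2,0,2,0,0]),
  (0,10,[2,0]),
  (0,10,[2,0]),
  (0,9,[2,0]),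
  (0,5,[1,2,2,1,0]),
  (0,5,[1,2,2,1,0]),
  (0,9,[1,2,0]),
  (0,9,[2,0]),
  (1,0,[1,2]),
  (0,15,[2,1,0]),
  (0,9,[2,0]),
  (0,10,[2,1,0]),
  (0,10,[2,0]),
  (0,9,[2,0]),
  (0,9,[2,0,0]),
  (0,10,[2,0,0]),
  (1,0,[2,2,1,1,1]),
  (0,5,[1,2,0,0]),
  (0,9,[2,0,0]),
  (0,9,[2,0]),
  (0,9,[2,0]),
  (0,9,[2,0,0]),
  (0,15,[2,0]),
  (0,15,[2,0,0]),
  (1,0,[2,1,2,1,1]),
  (0,10,[2,0]),
  (0,15,[2,1,1,0]),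
  (0,10,[1,2,0]),
  (0,9,[1,2,0]),
  (1,0,[1,2,2]),
  (0,10,[2,1,0]),
  (0,15,[2,0]),
  (0,9,[2,0,0,0]),
  (0,15,[2,1,0]),
  (0,9,[2,1,0]),
  (0,9,[2,0]),
  (0,10,[2,0]),
  (0,15,[2,0]),
  (1,0,[2,1,2,1,1,1,1]),
  (0,9,[2,0]),
  (0,10,[2,0,0]),
  (0,9,[2,0]),
  (0,5,[1,1,2,0]),
  (0,15,[2,0]),
  (0,9,[2,0]),
  (0,9,[2,1,0]),
  (0,9,[2,0,0]),
  (0,15,[2,1,0]),
  (0,9,[2,0,0]),
  (0,10,[2,0,0]),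
  (0,9,[2,0,0,0]),
  (0,15,[2,0]),
  (1,0,[2,1,1]),
  (0,9,[2,0]),
  (0,9,[2,0]),
  (0,15,[2,0]),
  (0,5,[2,0]),
  (0,9,[1,2,0]),
  (0,15,[2,0]),
  (1,0,[2,1,2,1,1,1,1]),
  (0,9,[2,0]),
  (0,10,[2,0]),
  (1,0,[1,2,1,2,1,1,1]),
  (0,5,[2,1,1,0]),
  (0,9,[1,2,0]),
  (0,9,[2,0,0]),
  (1,0,[2,1]),
  (0,10,[2,0,0]),
  (0,15,[2,0,0]),
  (0,9,[2,0,0]),
  (0,9,[2,0]),
  (0,15,[2,0,0]),
  (0,15,[1,2,0]),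
  (0,9,[2,0,0]),
  (0,10,[2,0,2,0,0]),
  (0,10,[2,0,0]),
  (0,9,[2,1,1,0]),
  (0,10,[2,1,0]),
  (1,0,[1,1,2,1,2,1,1]),
  (0,10,[2,0]),
  (0,10,[2,0]),
  (0,5,[1,2,1,0]),
  (0,10,[2,0]),
  (0,5,[2,1,1,0]),
  (0,10,[2,0]),
  (0,9,[2,1,1,0]),
  (0,5,[2,1,0]),
  (0,5,[2,0,0]),
  (0,5,[2,0,0]),
  (0,10,[2,0]),
  (0,5,[1,2,1,0]),
  (3,0,[]),
  (0,10,[2,0,0,0]),
  (0,15,[2,0,2,0,0,0]),
  (0,5,[2,1,0]),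
  (0,15,[2,0]),
  (2,0,[2]),
  (0,5,[2,2,2,1,0]),
  (0,15,[2,0]),
  (1,0,[2,1,1,1]),
  (0,15,[2,0]),
  (0,10,[2,0,0]),
  (0,15,[2,0]),
  (0,15,[1,2,0]),
  (0,15,[1,2,0]),
  (0,15,[2,0]),
  (0,10,[2,0,0]),
  (0,9,[2,1,0]),
  (1,0,[1,1,2,1,1]),
  (0,9,[2,0]),
  (0,9,[2,0,0]),
  (0,9,[2,1,0]),
  (0,10,[2,0,0]),
  (0,9,[2,0]),
  (0,5,[1,2,0]),
  (0,10,[2,0,0]),
  (0,9,[2,0]),
  (0,10,[2,2,1,0]),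
  (0,15,[2,1,0]),
  (0,5,[2,0]),
  (0,10,[2,0,0,0]),
  (0,15,[2,1,0]),
  (1,0,[1,1,2,2,1]),
  (0,10,[2,1,0]),
  (0,15,[2,0,0]),
  (0,10,[2,1,0]),
  (1,0,[2,1,2]),
  (0,10,[2,0]),
  (0,10,[2,0]),
  (0,9,[1,2,0]),
  (0,9,[2,1,0]),
  (0,10,[2,0]),
  (0,5,[2,0,0]),
  (1,0,[1,2,2,1,1]),
  (0,10,[2,1,0]),
  (0,9,[2,0]),
  (0,10,[2,0]),
  (0,9,[2,0,0]),
  (0,9,[2,0,0]),
  (0,9,[2,0]),
  (0,15,[1,2,0,0]),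
  (0,15,[2,0,0]),
  (0,9,[2,0]),
  (0,10,[2,0,0]),
  (0,10,[2,0,0]),
  (0,10,[2,0]),
  (0,10,[2,0,0]),
  (0,9,[2,1,0]),
  (0,9,[1,2,0]),
  (0,10,[2,0]),
  (0,9,[2,0,0]),
  (1,0,[1,2,1]),
  (1,0,[1,2,2,1,1]),
  (0,10,[2,2,1,0]),
  (0,10,[2,0]),
  (0,15,[2,0]),
  (1,0,[1,2,1,1]),
  (0,9,[2,0]),
  (0,10,[2,0]),
  (0,9,[1,1,2,0]),
  (0,9,[1,2,0]),
  (0,15,[2,0]),
  (0,15,[2,0,0,0]),
  (0,5,[2,1,0]),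
  (0,9,[2,0]),
  (0,9,[2,0,0]),
  (0,9,[2,0,0]),
  (0,9,[2,1,0]),
  (0,5,[2,0]),
  (0,9,[2,1,0]),
  (1,0,[2,2,1,1,1]),
  (0,15,[1,2,0]),
  (0,15,[2,1,0]),
  (0,9,[2,0]),
  (0,15,[2,0]),
  (0,9,[2,0]),
  (0,10,[2,0]),
  (0,9,[2,0,0]),
  (0,10,[2,0,0]),
  (0,5,[2,0]),
  (0,9,[2,1,0]),
  (1,0,[1,1,2,2,1]),
  (3,0,[]),
  (0,10,[2,1,0]),
  (0,5,[2,0,0]),
  (0,5,[2,2,0]),
  (0,10,[2,1,0]),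
  (0,5,[1,2,0,0]),
  (0,10,[2,0,0]),
  (0,10,[2,0]),
  (0,9,[2,0]),
  (1,0,[2,2,1,2,2]),
  (0,9,[1,2,0,0]),
  (0,15,[2,1,0]),
  (0,10,[2,0]),
  (1,0,[1,1,2,2,1]),
  (0,10,[2,0,0,0]),
  (0,10,[2,0]),
  (0,9,[2,0]),
  (0,9,[2,1,1,1,0]),
  (0,10,[2,0,0]),
  (0,9,[2,0]),
  (0,9,[2,0]),
  (0,10,[2,2,0]),
  (0,9,[2,0,0]),
  (0,15,[2,0,0,0]),
  (0,9,[2,0]),
  (0,9,[2,0,0]),
  (0,10,[1,2,0]),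
  (0,10,[2,0,0,0]),
  (0,5,[2,0]),
  (1,0,[2,2,1,1,1]),
  (0,9,[1,2,0,0]),
  (1,0,[1,1,2,1]),
  (0,9,[2,0]),
  (0,10,[2,0,0]),
  (0,9,[2,0]),
  (0,9,[2,1,0]),
  (0,10,[2,0,0]),
  (0,9,[1,2,1,0]),
  (0,10,[2,0]),
  (0,5,[2,1,0]),
  (0,10,[2,0]),
  (1,0,[1,2,2,1,1]),
  (0,5,[2,1,0]),
  (0,9,[2,0,0]),
  (0,5,[2,1,0]),
  (3,0,[]),
  (0,9,[1,2,0,0]),
  (0,5,[2,0]),
  (0,10,[2,0]),
  (0,5,[2,0,0,0]),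
  (0,5,[2,0,0,0]),
  (0,10,[2,0,0]),
  (0,5,[2,0,0,0]),
  (0,5,[2,2,0]),
  (0,10,[1,2,0]),
  (0,9,[2,0]),
  (0,10,[1,2,0,0]),
  (0,5,[2,0,0]),
  (1,0,[1,2,2,1,1]),
  (0,10,[2,0]),
  (0,5,[2,0]),
  (0,5,[1,2,0]),
  (0,9,[2,0]),
  (0,9,[2,1,0]),
  (0,5,[2,0,0]),
  (0,10,[2,0]),
  (0,5,[1,2,0]),
  (0,10,[2,1,0]),
  (3,0,[]),
  (0,5,[2,0,0]),
  (1,0,[1,1,2,2,1]),
  (0,10,[2,0]),
  (0,9,[2,2,0]),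
  (0,10,[2,0]),
  (0,10,[2,0,0]),
  (0,15,[2,1,1,1,0]),
  (0,5,[2,0]),
  (0,10,[2,0,0,0]),
  (0,10,[2,0,0]),
  (0,10,[2,2,0]),
  (0,5,[2,0]),
  (0,5,[2,2,0,0]),
  (0,5,[2,2,0,0,0]),
  (3,0,[]),
  (0,10,[2,0,0]),
  (0,5,[2,0]),
  (0,10,[2,0]),
  (0,15,[2,0]),
  (0,9,[2,0]),
  (0,9,[2,0,0]),
  (0,9,[2,0,0]),
  (1,0,[1,1,2,1,2,1,1]),
  (3,0,[]),
  (0,10,[2,0,0,0]),
  (0,10,[2,1,0]),
  (0,9,[2,0]),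
  (0,5,[2,0]),
  (0,10,[2,0,0,0]),
  (0,5,[2,1,0]),
  (0,5,[2,0,0]),
  (0,10,[2,0,0]),
  (0,5,[1,1,2,0])]

/-- The centralizer of the cube in the subgroup of order 336. -/
def dList : List (List ℕ) := [[62,55,47,61,59,31],[61,62,59,55,31,47],[59,47,62,31,61,55],[55,61,31,62,47,59],[47,31,55,59,62,61],[32,16,8,4,2,1],[31,59,61,47,55,62],[16,4,1,32,8,2],[8,1,16,2,32,4],[4,32,2,16,1,8],[2,8,32,1,4,16],[1,2,4,8,16,32]]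

/-- The centralizer of the cube in `7 : 6`. -/
def nList : List (List ℕ) := [[1,2,4,8,16,32],[4,32,2,16,1,8],[2,8,32,1,4,16],[32,16,8,4,2,1],[8,1,16,2,32,4],[16,4,1,32,8,2]]

/-- Verdicts on those elements. -/
def dCert : List (ℕ × List ℕ) := [(2,[0,2,0,0,0,0]),(2,[0,1,0,2,1,0,1]),(1,[1,1,1,1,1]),(2,[0,0,2,1,1,0]),(1,[1,1,1,1]),(0,[]),(1,[1,1,1]),(0,[]),(0,[]),(0,[]),(0,[]),(0,[])]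

/-- The centralizer of the involution in the subgroup of order 336. -/
def clList : List (List ℕ) := [[1,5,3,9,17,62],[18,34,3,61,2,10],[1,2,4,8,16,32],[20,59,4,36,5,12],[62,55,47,61,59,31],[20,16,47,48,17,18],[32,40,48,36,34,31],[18,17,48,47,16,20],[12,40,9,8,55,10],[62,17,9,3,5,1],[31,34,36,48,40,32],[12,5,36,4,59,20],[31,59,61,47,55,62],[10,2,61,3,34,18],[10,55,8,9,40,12],[32,16,8,4,2,1]]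

/-- Words for them. -/
def clWords : List (List ℕ) := [[0,2,0,1,0],[0,0,2,1,0,0],[],[1,0,2,1,0,1,1],[2,1,1,1],[0,0,1,0,2,1,0,1],[2,0,1,1,2,0],[1,0,1,0,2,0,0],[2,1,0,1,0,2,0,0],[0,1,1,2,0],[2,0,2,0,1,0],[1,0,2,0,0,0],[2],[1,1,0,1,2,0,1],[1,2,0,1,2,0,1],[1,1,1]]

/-- Representatives of double cosets. -/
def repList : List (List ℕ) := [[8,43,32,2,46,58],
  [16,51,32,2,54,58],
  [8,43,45,15,46,55],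
  [29,62,45,15,59,55],
  [16,51,53,23,54,47],
  [29,62,53,23,59,47],
  [15,45,43,8,55,46],
  [2,32,43,8,58,46],
  [23,53,51,16,47,54],
  [2,32,51,16,58,54],
  [8,45,32,4,46,60],
  [16,53,32,4,54,60],
  [8,45,43,15,46,55],
  [27,62,43,15,61,55],
  [27,62,51,23,61,47],
  [15,43,45,8,55,46],
  [4,32,45,8,60,46],
  [4,32,53,16,60,54],
  [2,43,32,8,58,46],
  [27,51,62,23,61,47],
  [58,61,46,43,31,55],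
  [58,61,54,51,31,47],
  [1,4,15,8,29,45],
  [43,46,15,8,55,45],
  [1,4,23,16,29,53],
  [51,54,23,16,47,53],
  [51,54,61,58,47,31],
  [43,46,61,58,55,31],
  [1,15,4,8,29,45],
  [1,15,23,27,29,62],
  [51,61,23,27,47,62],
  [51,61,54,58,47,31],
  [32,46,54,58,60,31],
  [27,23,15,1,62,29],
  [58,54,46,32,31,60],
  [43,61,46,58,55,31],
  [32,54,46,58,60,31],
  [27,61,23,51,62,47],
  [43,15,46,8,55,45],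
  [37,34,41,45,31,48],
  [37,34,49,53,31,40],
  [53,49,14,9,40,51],
  [53,49,34,37,40,31],
  [45,34,22,26,48,32],
  [62,49,41,37,35,31],
  [45,34,41,37,48,31],
  [26,22,14,1,32,28],
  [53,34,14,26,40,32],
  [46,5,14,38,20,59],
  [25,49,41,2,4,56],
  [9,12,10,8,55,40],
  [17,20,18,16,47,48],
  [8,12,10,9,40,55],
  [1,5,3,9,17,62],
  [32,36,34,40,48,31],
  [32,34,36,40,48,31],
  [1,3,5,17,9,62]]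

/-- Verdicts on the representatives. -/
def repCert : List (ℕ × ℕ × List ℕ) := [(0,9,[3,1]),
  (0,9,[3,0]),
  (0,9,[3,0]),
  (0,10,[3,1,0]),
  (0,15,[3,0]),
  (0,10,[3,1]),
  (0,15,[3,0]),
  (0,9,[3,1,0]),
  (0,9,[3,0]),
  (0,5,[3,1]),
  (1,0,[3,0,0,2,1,0,0,3]),
  (0,9,[1,3,0]),
  (0,9,[3,1]),
  (0,9,[3,0]),
  (0,10,[3,0,0]),
  (0,15,[1,3,0,0]),
  (0,5,[3,1]),
  (0,9,[3,0]),
  (0,9,[3,1]),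
  (0,9,[3,0]),
  (1,0,[3,3,0,2,0,1,0]),
  (0,10,[3,1]),
  (0,10,[3,2,1]),
  (0,9,[3,1]),
  (0,15,[3,0,0]),
  (1,0,[3,0,2,0,1,0,3,2]),
  (0,9,[3,1]),
  (0,15,[3,1,0]),
  (0,9,[3,1]),
  (0,10,[3,0]),
  (0,9,[3,0]),
  (0,10,[3,1]),
  (0,10,[3,2,0]),
  (0,9,[3,1]),
  (0,10,[3,0,0]),
  (0,15,[3,0]),
  (0,9,[3,0]),
  (0,9,[3,1]),
  (0,10,[3,1]),
  (0,9,[3,0]),
  (0,9,[3,1,0]),
  (0,15,[3,0]),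
  (0,15,[3,1,0]),
  (0,15,[3,1]),
  (1,0,[3]),
  (0,15,[3,1,0]),
  (0,9,[3,0,0]),
  (0,9,[3,0]),
  (0,10,[3,1]),
  (0,5,[3,0,0]),
  (0,10,[3,0]),
  (0,10,[3,1]),
  (0,10,[3,0]),
  (2,0,[]),
  (0,5,[3,2,0]),
  (0,15,[3,3,0]),
  (0,5,[3,1,0])]

/-- Double coset coordinates. -/
def certZ_0 : List (ℕ × ℕ × ℕ) := [(2,0,2),(2,1,2),(2,2,2),(2,3,2),(2,4,2),(2,5,2),(2,6,2),(2,7,2),(2,8,2),(2,9,2),(0,1,3),(0,0,3),(2,10,2),(2,11,2),(2,12,2),(2,13,2),(7,2,6),(2,14,2),(2,15,2),(2,16,2),(3,6,9),(2,17,2),(0,11,3),(0,10,3),(2,18,2),(1,11,7),(0,13,3),(0,12,3),(0,3,3),(0,2,3),(0,9,3),(0,8,3),(0,17,3),(5,6,7),(7,0,6),(2,19,2),(1,11,9),(2,18,3),(2,7,3),(2,6,3),(2,16,3),(2,15,3),(2,14,3),(7,2,8),(2,5,3),(2,4,3),(2,19,3),(7,0,8),(1,0,8),(0,19,3),(0,14,3),(1,2,8),(0,5,3),(0,4,3),(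0,7,3),(0,6,3),(0,16,3),(0,15,3),(0,18,3),(7,11,9),(0,19,2),(1,0,6),(2,9,3),(2,8,3),(2,17,3),(3,6,7),(2,13,3),(2,12,3),(2,3,3),(2,2,3),(7,11,7),(0,18,2),(2,1,3),(2,0,3),(0,8,2),(0,9,2),(0,6,2),(0,7,2),(0,4,2),(0,5,2),(0,2,2),(0,3,2),(0,0,2),(0,1,2),(2,11,3),(2,10,3),(5,6,9),(0,17,2),(0,15,2),(0,16,2),(1,2,6),(0,14,2),(0,12,2),(0,13,2),(0,10,2),(0,11,2),(1,16,10),(5,7,1),(2,20,2),(2,4,4),(2,21,2),(2,2,4),(2,22,2),(2,23,2),(2,24,2),(2,25,2),(2,26,2),(2,27,2),(2,28,2),(5,22,1),(2,29,2),(2,30,2),(2,31,2),(0,32,10),(9,11,5),(2,33,2),(2,34,2),(2,19,4),(4,16,15),(0,17,5),(3,27,13),(3,26,13),(3,32,13),(3,31,13),(2,35,2),(0,36,10),(9,1,5),(9,34,7),(3,33,13),(7,11,0),(4,7,15),(0,16,5),(5,7,4),(1,16,14),(2,33,3),(9,11,0),(9,34,9),(9,1,0),(0,36,14),(2,35,3),(0,32,14),(2,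31,3),(2,27,3),(2,26,3),(1,17,10),(5,16,1),(3,2,11),(3,21,13),(9,4,5),(2,37,2),(2,38,2),(5,26,1),(3,23,13),(3,22,13),(4,22,15),(3,28,13),(5,22,4),(2,28,3),(2,23,3),(2,22,3),(5,26,4),(2,38,3),(2,37,3),(9,4,0),(2,2,1),(2,21,3),(0,17,0),(4,16,11),(3,26,12),(3,27,12),(2,25,3),(2,24,3),(3,22,12),(3,23,12),(3,21,12),(3,2,15),(2,4,1),(2,20,3),(0,16,0),(4,7,11),(5,16,4),(1,17,14),(2,19,1),(2,34,3),(7,11,5),(3,33,12),(3,31,12),(3,32,12),(2,30,3),(2,29,3),(3,28,12),(4,22,11),(7,9,0),(3,17,11),(2,39,2),(0,12,4),(2,40,2),(1,2,10),(2,28,0),(2,41,2),(3,27,11),(4,23,6),(2,42,2),(7,22,5),(2,22,0),(9,42,9),(3,32,11),(2,43,2),(0,44,10),(2,45,2),(2,46,2),(4,10,5),(9,17,15),(2,9,5),(4,33,8),(1,0,10),(2,24,0),(4,27,6),(2,29,0),(2,47,2),(4,32,6),(7,43,3),(1,33,9),(4,0,5),(9,9,15),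(2,7,5),(3,46,9),(2,18,5),(7,9,5),(3,17,15),(2,46,3),(4,10,0),(1,33,7),(4,0,0),(2,42,3),(7,22,0),(0,44,14),(2,45,3),(4,32,8),(7,43,2),(2,47,3),(2,29,5),(2,43,3),(3,32,15),(9,24,11),(1,27,9),(3,9,15),(7,7,5),(2,18,0),(3,46,7),(1,0,14),(4,33,6),(4,12,0),(2,48,2),(2,7,0),(9,9,11),(1,2,14),(2,40,3),(4,27,8),(2,24,5),(4,23,8),(3,27,15),(2,49,2),(4,42,1),(4,2,0),(7,40,2),(2,9,0),(9,17,11),(0,12,1),(2,39,3),(9,42,7),(2,22,5),(2,41,3),(2,28,5),(1,23,9),(9,27,11),(9,24,15),(1,27,7),(2,49,3),(4,42,4),(1,23,7),(9,27,15),(3,9,11),(7,7,0),(4,12,5),(2,48,3),(4,2,5),(7,40,3),(5,17,11),(1,9,0),(0,40,2),(7,2,10),(0,39,2),(2,12,4),(0,28,0),(0,41,2),(5,27,11),(9,23,6),(1,22,5),(0,42,2),(0,22,0),(4,42,9),(5,32,11),(0,43,2),(0,45,2),(0,44,2),(9,10,5),(0,46,2),(9,33,8),(7,0,10),(4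,17,15),(0,9,5),(0,24,0),(9,27,6),(0,29,0),(0,47,2),(1,43,3),(4,32,15),(9,0,5),(7,33,9),(5,46,9),(0,18,5),(4,9,15),(0,7,5),(1,9,5),(5,17,15),(0,46,3),(9,10,0),(7,33,7),(9,0,0),(4,32,11),(1,43,2),(0,44,3),(0,45,3),(0,42,3),(1,22,0),(5,9,11),(1,7,0),(9,12,5),(0,48,3),(9,2,5),(1,40,3),(7,23,7),(4,27,15),(0,49,3),(9,42,4),(4,24,15),(7,27,7),(4,42,7),(0,22,5),(0,41,3),(0,28,5),(4,27,11),(7,23,9),(1,40,2),(9,2,0),(2,12,1),(0,39,3),(0,9,0),(4,17,11),(9,27,8),(0,24,5),(9,23,8),(5,27,15),(9,42,1),(0,49,2),(0,48,2),(9,12,0),(7,2,14),(0,40,3),(0,7,0),(4,9,11),(1,7,5),(5,9,15),(7,0,14),(9,33,6),(0,18,0),(5,46,7),(0,47,3),(0,29,5),(0,43,3),(5,32,15),(7,27,9),(4,24,11),(3,7,1),(7,16,10),(0,21,2),(0,2,4),(0,20,2),(0,4,4),(0,22,2),(0,23,2),(0,24,2),(0,25,2),(0,27,2),(0,26,2)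,(0,28,2),(3,22,1),(0,29,2),(0,30,2),(0,32,2),(0,31,2),(0,33,2),(4,11,5),(9,16,15),(2,17,5),(0,34,2),(0,19,4),(5,27,13),(5,26,13),(5,32,13),(5,31,13),(0,36,2),(0,35,2),(4,34,7),(4,1,5),(9,7,15),(2,16,5),(5,33,13),(1,11,0),(3,7,4),(7,16,14),(0,33,3),(4,11,0),(4,34,9),(4,1,0),(0,27,3),(0,26,3),(0,32,3),(0,31,3),(0,36,3),(0,35,3),(5,31,12),(5,32,12),(0,30,3),(0,29,3),(9,22,11),(5,28,12),(7,17,14),(3,16,4),(1,11,5),(5,33,12),(0,19,1),(0,34,3),(5,2,15),(5,21,12),(2,16,0),(9,7,11),(0,4,1),(0,20,3),(5,26,12),(5,27,12),(0,25,3),(0,24,3),(5,23,12),(5,22,12),(4,4,0),(0,37,3),(2,17,0),(9,16,11),(0,2,1),(0,21,3),(3,22,4),(0,28,3),(0,23,3),(0,22,3),(0,38,3),(3,26,4),(9,22,15),(5,28,13),(5,23,13),(5,22,13),(0,38,2),(3,26,1),(7,17,10),(3,16,1),(5,2,11),(5,21,13),(4,4,5),(0,37,2),(2,7,8),(2,50,2),(2,9,8),(2,51,2),(4,20,14),(9,40,5),(0,16,8),(2,52,2),(0,17,8),(5,50,6),(5,39,15),(9,21,14),(2,16,8),(0,52,2),(2,17,8),(3,50,6),(4,21,14),(3,39,15),(0,7,8),(0,50,2),(0,9,8),(0,51,2),(4,40,5),(9,20,14),(0,5,8),(4,34,10),(0,3,8),(0,33,14),(9,40,0),(4,20,10),(2,14,8),(7,33,1)]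

/-- Double coset coordinates. -/
def certZ_1 : List (ℕ × ℕ × ℕ) := [(2,13,8),(0,46,14),(9,21,10),(5,39,11),(0,14,8),(1,33,1),(0,13,8),(2,46,14),(3,39,11),(4,21,10),(2,5,8),(9,34,10),(2,3,8),(2,33,14),(9,20,10),(4,40,0),(2,16,6),(0,52,3),(2,7,6),(2,50,3),(2,48,15),(5,21,4),(2,14,6),(7,33,4),(2,5,6),(9,34,14),(2,37,10),(1,40,11),(0,3,6),(0,33,10),(0,13,6),(2,46,10),(5,21,1),(2,48,11),(0,9,6),(0,51,3),(0,17,6),(5,50,8),(1,40,15),(2,37,14),(2,17,6),(3,50,8),(2,9,6),(2,51,3),(7,40,15),(0,37,14),(2,13,6),(0,46,10),(2,3,6),(2,33,10),(3,21,1),(0,48,11),(0,5,6),(4,34,14),(0,14,6),(1,33,4),(0,37,10),(7,40,11),(0,7,6),(0,50,3),(0,16,6),(2,52,3),(0,48,15),(3,21,4),(3,7,10),(7,9,11),(3,40,13),(0,2,5),(3,48,12),(0,12,5),(0,32,6),(3,43,13),(0,27,6),(9,24,0),(3,47,13),(2,2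9,4),(0,44,4),(3,45,13),(2,42,6),(9,22,0),(9,43,2),(5,32,7),(3,18,14),(2,46,6),(5,0,14),(0,33,6),(7,9,15),(3,7,14),(0,42,4),(2,49,8),(2,27,4),(5,23,7),(5,27,7),(2,24,4),(3,18,10),(2,46,8),(5,33,9),(0,0,5),(9,7,5),(2,9,4),(5,0,10),(0,33,8),(3,46,13),(0,10,5),(9,9,5),(2,17,4),(9,43,3),(5,32,9),(3,47,12),(2,29,1),(2,24,1),(5,27,9),(3,39,13),(4,12,15),(9,40,2),(5,2,10),(3,9,10),(7,17,11),(2,49,6),(0,42,1),(9,24,5),(0,27,8),(7,27,15),(0,23,8),(5,23,9),(2,27,1),(9,22,5),(2,42,8),(3,28,10),(2,41,8),(7,17,15),(3,9,14),(0,0,0),(5,33,7),(0,10,0),(3,46,12),(7,27,11),(0,23,6),(3,28,14),(2,41,6),(9,42,2),(3,22,14),(9,40,3),(5,2,14),(0,12,0),(3,48,13),(2,9,1),(9,7,0),(3,39,12),(4,12,11),(0,2,0),(3,40,12),(2,17,1),(9,9,0),(3,45,12),(0,44,1),(3,43,12),(0,32,8),(3,22,10),(9,4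2,3),(5,7,10),(1,9,11),(5,40,13),(2,2,5),(5,48,12),(2,12,5),(0,44,6),(5,45,13),(0,42,6),(4,22,0),(3,32,7),(4,43,2),(0,32,4),(5,43,13),(2,27,6),(4,24,0),(0,29,4),(5,47,13),(3,0,14),(2,33,6),(5,18,14),(0,46,6),(5,7,14),(1,9,15),(0,27,4),(3,23,7),(2,42,4),(0,49,8),(3,27,7),(0,24,4),(2,33,8),(3,0,10),(4,9,5),(0,17,4),(5,46,13),(2,10,5),(0,46,8),(5,18,10),(4,7,5),(0,9,4),(3,33,9),(2,0,5),(3,27,9),(0,24,1),(4,43,3),(3,32,9),(5,47,12),(0,29,1),(5,43,12),(0,32,1),(5,45,12),(0,44,8),(5,22,10),(4,42,3),(3,2,14),(4,40,3),(0,9,1),(4,7,0),(2,12,0),(5,48,13),(9,12,11),(5,39,12),(0,17,1),(4,9,0),(2,2,0),(5,40,12),(5,22,14),(4,42,2),(1,27,11),(2,23,6),(5,28,14),(0,41,6),(1,17,15),(5,9,14),(2,0,0),(3,33,7),(2,10,0),(5,46,12),(0,49,6),(2,42,1),(4,24,5),(2,27,8),(2,23,8),(1,27,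15),(3,23,9),(0,27,1),(4,22,5),(0,42,8),(0,41,8),(5,28,10),(4,40,2),(3,2,10),(5,39,13),(9,12,15),(1,17,11),(5,9,10),(1,11,12),(4,10,7),(0,2,9),(1,14,12),(1,13,12),(4,12,7),(0,18,8),(9,11,7),(2,12,9),(3,13,13),(3,2,13),(3,3,13),(0,15,8),(1,16,12),(2,10,9),(3,11,13),(1,17,12),(4,6,6),(2,6,8),(3,17,13),(0,0,9),(4,19,8),(3,8,13),(3,9,13),(2,4,8),(3,5,12),(2,1,8),(3,0,12),(3,3,12),(3,2,12),(1,2,13),(1,3,13),(0,11,8),(3,18,12),(4,12,9),(1,13,13),(1,0,13),(4,1,6),(3,6,12),(3,7,12),(3,9,12),(3,8,12),(2,19,8),(9,0,6),(0,8,9),(1,9,13),(4,6,8),(1,17,13),(2,19,6),(9,0,8),(2,4,6),(3,5,13),(9,2,8),(3,14,13),(1,11,13),(4,10,9),(2,6,6),(3,17,12),(3,16,12),(3,15,12),(3,6,13),(3,7,13),(0,11,6),(3,18,13),(3,15,13),(3,16,13),(2,12,7),(3,13,12),(2,10,7),(3,11,12),(3,14,12),(9,2,6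),(0,2,7),(1,14,13),(0,0,7),(4,19,6),(4,4,6),(1,5,13),(0,8,7),(1,9,12),(2,1,6),(3,0,13),(1,7,12),(1,6,12),(0,18,6),(9,11,9),(0,15,6),(1,16,13),(1,6,13),(1,7,13),(1,0,12),(4,1,8),(1,2,12),(1,3,12),(1,5,12),(4,4,8),(2,18,8),(4,11,7),(0,12,9),(5,13,13),(5,3,13),(5,2,13),(7,11,12),(9,10,7),(2,2,9),(7,14,12),(9,12,7),(7,13,12),(0,6,8),(5,17,13),(2,0,9),(9,19,8),(5,9,13),(5,8,13),(2,15,8),(7,16,12),(0,10,9),(5,11,13),(9,6,6),(7,17,12),(7,2,13),(7,3,13),(2,11,8),(5,18,12),(7,13,13),(9,12,9),(0,4,8),(5,5,12),(0,1,8),(5,0,12),(5,2,12),(5,3,12),(0,19,8),(4,0,6),(2,8,9),(7,9,13),(7,17,13),(9,6,8),(7,0,13),(9,1,6),(5,6,12),(5,7,12),(5,8,12),(5,9,12),(7,0,12),(9,1,8),(7,2,12),(7,3,12),(9,4,8),(7,5,12),(2,18,6),(4,11,9),(2,15,6),(7,16,13),(7,7,13),(7,6,13),(2,8,7),(7,9,12)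,(0,1,6),(5,0,13),(7,6,12),(7,7,12),(2,2,7),(7,14,13),(2,0,7),(9,19,6),(7,5,13),(9,4,6),(0,12,7),(5,13,12),(0,10,7),(5,11,12),(4,2,6),(5,14,12),(5,6,13),(5,7,13),(2,11,6),(5,18,13),(5,16,13),(5,15,13),(7,11,13),(9,10,9),(0,6,6),(5,17,12),(5,15,12),(5,16,12),(0,19,6),(4,0,8),(0,4,6),(5,5,13),(5,14,13),(4,2,8),(3,18,1),(0,52,0),(7,50,5),(0,0,4),(4,3,14),(0,5,4),(5,0,1),(2,50,0),(4,52,1),(0,10,4),(4,5,14),(0,14,4),(0,53,0),(3,28,1),(5,47,14),(9,31,4),(2,27,10),(2,54,2),(1,54,1),(7,27,14),(4,43,4),(9,35,4),(0,42,10),(2,55,2),(5,0,4),(2,50,5),(3,18,4),(0,52,5),(1,3,5),(5,5,4),(5,5,1),(1,3,0),(3,48,8),(2,15,5),(3,40,9),(2,6,5),(9,43,6),(7,23,14),(3,47,8),(2,38,10),(2,35,10),(1,43,11),(0,42,14),(2,55,3),(2,27,14),(2,54,3),(1,43,15),(2,35,14),(9,40,9),(7,6,5),(2,15,0),(3,48,6),(0,5,1),(4,3,10),(3,39,7),(3,15,4),(2,6,0),(3,40,7),(0,14,1),(4,5,10),(7,23,10),(9,43,8),(9,31,1),(5,47,10)]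

/-- Double coset coordinates. -/
def certZ_2 : List (ℕ × ℕ × ℕ) := [(3,45,6),(0,41,14),(2,38,14),(3,47,6),(9,35,1),(4,43,1),(3,43,6),(2,23,14),(1,5,5),(5,14,4),(0,10,1),(4,52,4),(0,0,1),(7,50,0),(9,40,7),(7,6,0),(3,39,9),(3,15,1),(5,14,1),(1,5,0),(3,45,8),(0,41,10),(3,43,8),(2,23,10),(3,31,1),(0,47,10),(7,27,10),(1,54,4),(3,28,4),(0,53,5),(0,47,14),(3,31,4),(0,50,0),(3,0,1),(9,5,14),(2,14,4),(9,52,1),(2,10,4),(2,52,0),(5,18,1),(9,3,14),(2,5,4),(1,50,5),(2,0,4),(1,54,3),(1,27,14),(9,43,4),(4,35,4),(0,55,2),(2,42,10),(0,53,2),(5,28,1),(3,47,14),(4,31,4),(0,54,2),(0,27,10),(5,18,4),(2,52,5),(3,0,4),(0,50,5),(3,5,4),(7,3,5),(3,5,1),(7,3,0),(5,48,8),(0,15,5),(5,40,9),(0,6,5),(5,47,8),(0,38,10),(4,43,6),(1,23,14),(0,35,10),(7,43,11),(0,35,14),(7,43,15),(2,42,14),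(0,55,3),(0,27,14),(0,54,3),(5,28,4),(0,53,3),(1,27,10),(1,54,2),(2,47,14),(5,31,4),(2,47,10),(5,31,1),(5,45,8),(2,41,10),(5,43,8),(0,23,10),(5,39,9),(5,15,1),(4,40,7),(1,6,0),(7,5,0),(3,14,1),(7,5,5),(3,14,4),(2,10,1),(9,52,4),(2,0,1),(1,50,0),(1,23,10),(4,43,8),(4,31,1),(3,47,10),(2,41,14),(5,45,6),(0,38,14),(5,47,6),(4,35,1),(9,43,1),(0,23,14),(5,43,6),(1,6,5),(4,40,9),(2,5,1),(9,3,10),(0,15,0),(5,48,6),(5,15,4),(5,39,7),(2,14,1),(9,5,10),(0,6,0),(5,40,7),(7,16,1),(3,17,0),(4,37,12),(0,4,5),(1,21,3),(1,2,1),(0,36,6),(4,35,12),(0,26,6),(1,27,3),(1,31,3),(3,32,14),(4,32,12),(4,31,12),(7,22,1),(5,28,7),(4,30,12),(0,29,9),(5,11,5),(1,33,2),(4,19,11),(4,34,13),(3,17,5),(7,16,4),(1,22,3),(1,23,3),(2,26,4),(0,38,9),(0,28,9),(2,22,4),(5,11,0),(1,33,3),(0,34,7),(0,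1,5),(9,16,5),(2,7,4),(4,19,15),(4,34,12),(4,33,12),(0,11,5),(9,17,5),(2,16,4),(4,30,13),(0,29,7),(1,31,2),(3,32,10),(2,22,1),(0,28,7),(4,21,12),(4,2,15),(4,20,12),(4,4,15),(7,7,1),(3,16,0),(1,23,2),(1,22,2),(1,27,2),(0,26,8),(4,24,13),(0,25,8),(0,38,7),(2,26,1),(5,28,9),(7,22,4),(4,22,13),(4,23,13),(3,16,5),(7,7,4),(0,1,0),(0,34,9),(0,11,0),(4,33,13),(4,24,12),(0,25,6),(4,22,12),(4,23,12),(4,27,12),(5,26,8),(4,20,13),(4,4,11),(1,2,4),(1,21,2),(2,7,1),(9,16,0),(4,21,13),(4,2,11),(0,4,0),(4,37,13),(2,16,1),(9,17,0),(4,31,13),(4,32,13),(4,35,13),(0,36,8),(5,26,6),(4,27,13),(1,16,1),(5,17,0),(9,37,12),(2,4,5),(7,21,3),(7,2,1),(4,32,10),(9,31,12),(1,22,1),(3,28,7),(2,29,9),(9,30,12),(0,36,4),(9,35,12),(2,26,6),(7,27,3),(5,32,14),(7,31,3),(9,19,11),(9,34,13),(3,11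,5),(7,33,2),(1,16,4),(5,17,5),(0,26,4),(2,38,9),(7,22,3),(7,23,3),(2,28,9),(0,22,4),(9,34,12),(9,19,15),(4,17,5),(0,16,4),(9,33,12),(2,11,5),(7,33,3),(3,11,0),(4,16,5),(0,7,4),(2,34,7),(2,1,5),(2,28,7),(0,22,1),(9,30,13),(2,29,7),(7,31,2),(5,32,10),(9,35,13),(0,36,1),(9,31,13),(4,32,14),(3,26,6),(9,27,13),(9,4,11),(9,20,13),(0,7,1),(4,16,0),(7,2,4),(7,21,2),(9,2,11),(9,21,13),(0,16,1),(4,17,0),(2,4,0),(9,37,13),(3,26,8),(9,27,12),(9,24,12),(2,25,6),(9,22,12),(9,23,12),(5,16,5),(1,7,4),(2,1,0),(2,34,9),(2,11,0),(9,33,13),(7,23,2),(7,22,2),(7,27,2),(2,26,8),(2,25,8),(9,24,13),(2,38,7),(0,26,1),(3,28,9),(1,22,4),(9,23,13),(9,22,13),(9,20,12),(9,4,15),(9,21,12),(9,2,15),(5,16,0),(1,7,1),(0,19,9),(4,0,7),(0,4,9),(5,5,3),(5,14,3),(4,2,7),(7,0,2),(9,1,7),(7,2,2),(7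,3,2),(9,4,7),(7,5,2),(2,2,8),(7,14,3),(2,0,8),(9,19,9),(7,5,3),(9,4,9),(0,12,8),(5,13,2),(0,10,8),(5,11,2),(4,2,9),(5,14,2),(5,6,3),(5,7,3),(2,11,9),(5,18,3),(5,16,3),(5,15,3),(2,8,8),(7,9,2),(0,1,9),(5,0,3),(7,6,2),(7,7,2),(2,18,9),(4,11,6),(2,15,9),(7,16,3),(7,7,3),(7,6,3),(7,11,3),(9,10,6),(0,6,9),(5,17,2),(5,15,2),(5,16,2),(7,11,2),(9,10,8),(2,2,6),(7,14,2),(9,12,8),(7,13,2),(0,19,7),(4,0,9),(2,8,6),(7,9,3),(7,17,3),(9,6,7),(0,4,7),(5,5,2),(0,1,7),(5,0,2),(5,2,2),(5,3,2),(0,6,7),(5,17,3),(2,0,6),(9,19,7),(5,9,3),(5,8,3),(2,15,7),(7,16,2),(0,10,6),(5,11,3),(9,6,9),(7,17,2),(7,2,3),(7,3,3),(2,11,7),(5,18,2),(7,13,3),(9,12,6),(7,0,3),(9,1,9),(5,6,2),(5,7,2),(5,8,2),(5,9,2),(2,18,7),(4,11,8),(0,12,6),(5,13,3),(5,3,3),(5,2,3),(1,0,2),(4,1,7),(1,2,2),(1,3,2),(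1,5,2),(4,4,7),(2,19,9),(9,0,7),(2,4,9),(3,5,3),(9,2,7),(3,14,3),(2,12,8),(3,13,2),(2,10,8),(3,11,2),(3,14,2),(9,2,9),(0,2,8),(1,14,3),(0,0,8),(4,19,9),(4,4,9),(1,5,3),(0,8,8),(1,9,2),(2,1,9),(3,0,3),(1,7,2),(1,6,2),(3,6,3),(3,7,3),(0,11,9),(3,18,3),(3,15,3),(3,16,3),(1,11,3),(4,10,6),(2,6,9),(3,17,2),(3,16,2),(3,15,2),(0,18,9),(9,11,6),(0,15,9),(1,16,3),(1,6,3),(1,7,3),(0,18,7),(9,11,8),(2,12,6),(3,13,3),(3,2,3),(3,3,3),(1,0,3),(4,1,9),(3,6,2),(3,7,2),(3,9,2),(3,8,2),(1,2,3),(1,3,3),(0,11,7),(3,18,2),(4,12,6),(1,13,3),(0,15,7),(1,16,2),(2,10,6),(3,11,3),(1,17,2),(4,6,9),(2,6,7),(3,17,3),(0,0,6),(4,19,7),(3,8,3),(3,9,3),(2,4,7),(3,5,2),(2,1,7),(3,0,2),(3,3,2),(3,2,2),(2,19,7),(9,0,9),(0,8,6),(1,9,3),(4,6,7),(1,17,3),(1,11,2),(4,10,8),(0,2,6),(1,14,2),(1,13,2),(4,12,8)]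

/-- Double coset coordinates. -/
def certZ_3 : List (ℕ × ℕ × ℕ) := [(5,11,11),(3,50,4),(3,51,4),(0,1,4),(4,13,14),(0,3,4),(4,19,14),(2,51,0),(9,50,11),(0,11,4),(4,14,14),(0,13,4),(4,19,10),(2,51,5),(5,11,15),(3,50,1),(5,13,15),(1,14,14),(1,14,10),(5,13,11),(1,21,6),(3,6,11),(4,37,8),(2,8,5),(5,54,5),(4,22,6),(7,31,5),(5,45,5),(2,26,10),(0,55,10),(0,56,0),(4,24,6),(9,30,15),(5,43,5),(1,22,8),(0,54,10),(4,30,9),(0,49,11),(1,31,7),(3,23,1),(2,31,10),(0,45,10),(1,22,6),(0,54,14),(2,26,14),(0,55,14),(0,45,14),(2,31,14),(4,20,6),(3,8,15),(3,6,15),(1,21,8),(0,3,1),(4,13,10),(4,21,6),(9,6,1),(2,8,0),(4,37,6),(0,13,1),(4,14,10),(5,3,15),(1,13,14),(0,11,1),(9,50,15),(0,1,1),(3,51,1),(4,20,8),(3,8,11),(4,21,8),(9,6,4),(1,13,10),(5,3,11),(0,49,15),(4,30,7),(5,45,0),(7,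31,0),(4,31,7),(9,23,11),(3,23,4),(1,31,9),(5,43,0),(9,30,11),(4,35,7),(2,25,14),(4,31,9),(9,23,15),(4,35,9),(2,25,10),(2,30,10),(0,43,10),(4,24,8),(0,56,5),(4,22,8),(5,54,0),(0,43,14),(2,30,14),(0,51,0),(9,19,14),(9,14,14),(2,13,4),(4,50,11),(2,11,4),(5,50,4),(3,11,11),(9,13,14),(2,3,4),(5,51,4),(2,1,4),(3,11,15),(5,50,1),(9,19,10),(0,51,5),(7,14,14),(3,13,15),(7,14,10),(3,13,11),(7,21,6),(5,6,11),(9,37,8),(0,8,5),(0,56,2),(9,24,6),(4,30,15),(3,43,5),(2,54,10),(7,22,8),(5,54,7),(9,22,6),(1,31,5),(3,45,5),(2,55,10),(0,26,10),(7,31,7),(5,23,1),(9,30,9),(2,49,11),(0,31,10),(2,45,10),(0,31,14),(2,45,14),(7,22,6),(2,54,14),(0,26,14),(2,55,14),(9,22,8),(5,54,9),(9,24,8),(0,56,3),(2,43,14),(0,30,14),(2,43,10),(0,30,10),(9,31,9),(4,23,15),(9,35,9),(0,25,10),(2,49,15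),(9,30,7),(3,45,0),(1,31,0),(4,23,11),(9,31,7),(5,23,4),(7,31,9),(3,43,0),(4,30,11),(0,25,14),(9,35,7),(9,21,8),(4,6,4),(9,20,8),(5,8,11),(3,3,11),(7,13,10),(3,3,15),(7,13,14),(2,11,1),(4,50,15),(2,1,1),(5,51,1),(5,8,15),(9,20,6),(2,3,1),(9,13,10),(5,6,15),(7,21,8),(4,6,1),(9,21,6),(2,13,1),(9,14,10),(0,8,0),(9,37,6),(0,9,9),(0,51,13),(0,17,9),(5,50,7),(1,40,4),(2,37,5),(2,17,9),(3,50,7),(2,9,9),(2,51,13),(7,40,4),(0,37,5),(2,14,9),(7,33,15),(2,5,9),(9,34,5),(2,37,0),(1,40,1),(0,5,9),(4,34,5),(0,14,9),(1,33,15),(0,37,0),(7,40,1),(0,7,9),(0,50,13),(0,16,9),(2,52,13),(0,48,4),(3,21,15),(2,16,9),(0,52,13),(2,7,9),(2,50,13),(2,48,4),(5,21,15),(2,13,9),(0,46,0),(2,3,9),(2,33,0),(3,21,11),(0,48,1),(0,3,9),(0,33,0),(0,13,9),(2,46,0),(5,21,11),(2,48,1),(0,7,7),(0,50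,12),(0,9,7),(0,51,12),(4,40,14),(9,20,5),(0,5,7),(4,34,0),(0,3,7),(0,33,5),(9,40,10),(4,20,0),(0,16,7),(2,52,12),(0,17,7),(5,50,9),(5,39,4),(9,21,5),(0,14,7),(1,33,11),(0,13,7),(2,46,5),(3,39,1),(4,21,0),(2,5,7),(9,34,0),(2,3,7),(2,33,5),(9,20,0),(4,40,10),(2,7,7),(2,50,12),(2,9,7),(2,51,12),(4,20,5),(9,40,14),(2,14,7),(7,33,11),(2,13,7),(0,46,5),(9,21,0),(5,39,1),(2,16,7),(0,52,12),(2,17,7),(3,50,9),(4,21,5),(3,39,4),(3,13,5),(7,3,15),(0,51,15),(9,1,1),(0,50,15),(9,11,1),(2,35,6),(0,25,15),(2,31,6),(0,23,15),(9,43,10),(4,30,0),(9,11,4),(0,50,11),(5,51,14),(2,19,5),(9,13,4),(2,14,5),(7,43,5),(0,30,15),(0,54,6),(3,22,7),(2,24,9),(0,56,9),(9,1,4),(0,51,11),(1,50,15),(7,11,11),(9,3,4),(2,13,5),(2,45,4),(5,31,5),(2,55,4),(5,26,5),(2,22,9),(1,54,8),(7,3,11),(3,13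,0),(2,21,7),(0,6,4),(2,20,7),(0,8,4),(1,54,6),(2,22,7),(0,56,7),(2,24,7),(4,30,5),(9,43,14),(3,14,5),(7,13,15),(7,11,15),(1,50,11),(2,19,0),(5,51,10),(1,23,11),(3,31,8),(2,49,5),(2,30,6),(3,45,1),(4,31,0),(2,37,9),(5,8,14),(0,6,1),(2,21,9),(2,14,0),(9,13,1),(0,30,11),(7,43,0),(0,25,11),(2,35,8),(3,31,6),(1,23,15),(3,21,7),(1,6,4),(0,8,1),(2,20,9),(2,13,0),(9,3,1),(5,31,0),(2,45,1),(0,23,11),(2,31,8),(2,30,8),(2,49,0),(7,13,11),(3,14,0),(5,8,10),(2,37,7),(1,6,1),(3,21,9),(5,26,0),(2,55,1),(3,22,9),(0,54,8),(4,31,5),(3,45,4),(1,14,4),(5,5,14),(3,50,0),(4,0,1),(0,52,15),(4,10,1),(7,43,7),(9,23,0),(2,45,6),(0,41,15),(7,31,11),(5,47,1),(0,52,11),(4,10,4),(4,14,4),(0,5,5),(9,50,10),(1,0,1),(2,35,4),(0,43,15),(2,55,6),(4,42,10),(5,54,11),(3,27,14),(3,50,5),(4,0,4),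(4,5,4),(0,3,5),(4,52,0),(2,18,4),(2,31,4),(0,47,15),(0,54,4),(9,27,0),(0,53,4),(2,28,4),(1,14,1),(5,5,10),(2,40,7),(3,6,0),(2,39,7),(2,15,4),(7,31,15),(5,47,4),(5,54,15),(3,27,10),(0,53,1),(2,28,1),(9,27,5),(0,54,1),(4,42,14),(2,55,8),(5,43,4),(9,35,5),(5,3,10),(1,5,1),(9,6,14),(7,40,6),(3,15,0),(2,48,6),(0,47,11),(2,31,1),(0,41,11),(2,45,8),(3,23,10),(2,43,8),(3,15,5),(2,48,8),(0,3,0),(4,5,1),(3,6,5),(2,40,9),(0,43,11),(2,35,1),(9,23,5),(7,43,9),(2,38,1),(2,47,8),(9,6,10),(7,40,8),(0,5,0),(4,14,1),(2,15,1),(2,39,9),(5,43,1),(9,35,0),(3,23,14),(2,43,6),(2,38,4),(2,47,6),(5,3,14),(1,5,4),(1,0,4),(9,50,14),(2,18,1),(4,52,5),(7,14,4),(3,5,14),(5,50,0),(9,0,1),(2,52,15),(9,10,1),(1,43,7),(4,23,0),(0,45,6),(2,41,15),(3,47,1),(1,31,11),(9,10,4),(2,52,11),(4,50,10),(7,0,1),(9,14,4),(2,5,5),(0,35,4),(2,43,15),(0,55,6),(9,42,10),(5,27,14),(5,54,3),(9,0,4),(5,50,5),(9,52,0),(0,18,4),(9,5,4),(2,3,5),(0,31,4),(2,47,15)]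

/-- Double coset coordinates. -/
def certZ_4 : List (ℕ × ℕ × ℕ) := [(2,54,4),(4,27,0),(0,28,4),(0,53,9),(3,5,10),(7,14,1),(0,39,7),(0,15,4),(0,40,7),(5,6,0),(0,53,7),(0,28,1),(5,54,2),(5,27,10),(1,31,15),(3,47,4),(7,5,4),(3,3,14),(0,18,1),(9,52,5),(7,0,4),(4,50,14),(0,38,4),(0,47,6),(5,23,14),(0,43,6),(3,43,1),(4,35,0),(1,40,8),(4,6,10),(0,15,1),(0,39,9),(2,5,0),(9,14,1),(2,43,11),(0,35,1),(4,23,5),(1,43,9),(0,47,8),(0,38,1),(0,48,8),(5,15,5),(5,6,5),(0,40,9),(2,3,0),(9,5,1),(2,47,11),(0,31,1),(2,41,11),(0,45,8),(0,43,8),(5,23,10),(3,3,10),(7,5,1),(4,6,14),(1,40,6),(5,15,0),(0,48,6),(4,27,5),(2,54,1),(9,42,14),(0,55,8),(4,35,5),(3,43,4),(5,13,5),(1,3,15),(2,51,15),(4,1,1),(2,50,15),(4,11,1),(0,35,6),(2,25,15),(0,31,6),(2,23,15),(9,30,0),(4,43,10),(2,50,11),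(4,11,4),(4,13,4),(0,14,5),(3,51,14),(0,19,5),(1,43,5),(2,30,15),(2,54,6),(5,22,7),(0,56,4),(0,24,9),(2,51,11),(4,1,4),(4,3,4),(0,13,5),(7,50,15),(1,11,11),(0,45,4),(3,31,5),(0,55,4),(3,26,5),(1,54,5),(0,22,9),(5,13,0),(1,3,11),(0,20,7),(2,8,4),(0,21,7),(2,6,4),(9,30,5),(4,43,14),(0,56,1),(0,24,7),(1,54,0),(0,22,7),(3,26,0),(0,55,1),(5,22,9),(2,54,8),(5,45,4),(9,31,5),(1,13,11),(5,14,0),(3,8,10),(0,37,7),(7,6,1),(5,21,9),(3,31,0),(0,45,1),(2,23,11),(0,31,8),(0,49,0),(0,30,8),(7,6,4),(5,21,7),(0,13,0),(4,3,1),(2,8,1),(0,20,9),(2,30,11),(1,43,0),(2,25,11),(0,35,8),(7,23,15),(5,31,6),(3,8,14),(0,37,9),(0,14,0),(4,13,1),(2,6,1),(0,21,9),(5,45,1),(9,31,0),(0,49,5),(0,30,6),(7,23,11),(5,31,8),(1,13,15),(5,14,5),(0,19,0),(3,51,10),(1,11,15),(7,50,11),(0,4,12),(0,5,1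2),(0,2,12),(0,3,12),(0,0,12),(0,1,12),(2,10,12),(2,11,12),(2,12,12),(2,13,12),(7,2,9),(2,14,12),(1,2,9),(0,14,12),(0,12,12),(0,13,12),(0,10,12),(0,11,12),(2,0,12),(2,1,12),(2,2,12),(2,3,12),(2,4,12),(2,5,12),(2,14,13),(7,2,7),(2,5,13),(2,4,13),(2,19,13),(7,0,7),(1,0,7),(0,19,13),(0,14,13),(1,2,7),(0,5,13),(0,4,13),(0,9,13),(0,8,13),(0,17,13),(5,6,8),(7,0,9),(2,19,12),(0,19,12),(1,0,9),(2,9,13),(2,8,13),(2,17,13),(3,6,8),(2,13,13),(2,12,13),(2,3,13),(2,2,13),(7,11,8),(0,18,12),(2,18,12),(1,11,8),(0,13,13),(0,12,13),(0,3,13),(0,2,13),(0,7,13),(0,6,13),(0,16,13),(0,15,13),(0,18,13),(7,11,6),(1,11,6),(2,18,13),(2,7,13),(2,6,13),(2,16,13),(2,15,13),(2,6,12),(2,7,12),(2,8,12),(2,9,12),(0,1,13),(0,0,13),(2,11,13),(2,10,13),(5,6,6),(0,17,12),(0,15,12),(0,16,12),(2,1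5,12),(2,16,12),(3,6,6),(2,17,12),(0,11,13),(0,10,13),(2,1,13),(2,0,13),(0,8,12),(0,9,12),(0,6,12),(0,7,12),(9,5,3),(9,4,3),(9,14,3),(3,2,7),(9,19,3),(3,0,7),(9,3,3),(9,2,3),(9,13,3),(9,12,3),(3,11,8),(5,18,7),(4,14,12),(5,2,6),(4,13,12),(4,12,12),(4,11,12),(4,10,12),(9,16,2),(3,15,8),(9,17,2),(7,6,9),(4,10,13),(4,11,13),(4,5,12),(4,4,12),(4,3,12),(4,2,12),(4,1,12),(4,0,12),(9,7,2),(9,6,2),(9,9,2),(3,8,7),(4,0,13),(4,1,13),(4,17,13),(1,6,8),(4,9,13),(5,8,6),(3,0,9),(9,19,2),(4,16,13),(5,15,9),(4,7,13),(4,6,13),(5,18,9),(3,11,6),(9,16,3),(3,15,6),(9,7,3),(9,6,3),(5,11,9),(3,18,6),(9,17,3),(7,6,7),(9,9,3),(3,8,9),(4,19,12),(5,0,6),(4,17,12),(1,6,6),(4,16,12),(5,15,7),(9,10,3),(9,11,3),(9,13,2),(9,12,2),(9,14,2),(3,2,9),(9,11,2),(9,10,2),(4,9,12),(5,8,8),(4,7,12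),(4,6,12),(9,0,3),(9,1,3),(9,3,2),(9,2,2),(9,5,2),(9,4,2),(9,1,2),(9,0,2),(4,3,13),(4,2,13),(4,13,13),(4,12,13),(3,18,8),(5,11,7),(4,5,13),(4,4,13),(4,14,13),(5,2,8),(5,0,8),(4,19,13),(0,27,13),(0,26,13),(0,32,13),(0,31,13),(0,36,13),(0,35,13),(7,17,0),(3,16,11),(5,2,1),(5,21,3),(4,4,14),(0,37,12),(4,4,10),(0,37,13),(2,17,10),(9,16,1),(0,2,11),(0,21,13),(5,27,3),(5,26,3),(5,32,3),(5,31,3),(0,36,12),(0,35,12),(5,2,4),(5,21,2),(2,16,10),(9,7,1),(0,4,11),(0,20,13),(0,28,12),(3,22,11),(0,29,12),(0,30,12),(0,32,12),(0,31,12),(0,22,12),(0,23,12),(0,24,12),(0,25,12),(0,27,12),(0,26,12),(7,17,5),(3,16,15),(1,11,14),(5,33,2),(0,19,11),(0,34,13),(3,7,15),(7,16,5),(0,33,13),(4,11,10),(4,34,6),(4,1,10),(9,22,4),(5,28,3),(5,23,3),(5,22,3),(0,38,12),(3,26,11),(3,22,15),(0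,28,13),(0,23,13),(0,22,13),(0,38,13),(3,26,15),(4,34,8),(4,1,14),(9,7,4),(2,16,14),(5,33,3),(1,11,10),(5,26,2),(5,27,2),(0,25,13),(0,24,13),(5,23,2),(5,22,2),(0,33,12),(4,11,14),(9,16,4),(2,17,14),(0,34,12),(0,19,15),(3,7,11),(7,16,0),(0,21,12),(0,2,15),(0,20,12),(0,4,15),(5,31,2),(5,32,2),(0,30,13),(0,29,13),(9,22,1),(5,28,2),(1,54,9),(2,22,8),(0,56,8),(2,24,8),(4,30,14),(9,43,5),(3,14,14),(7,13,4),(7,11,4),(1,50,1),(2,19,10),(5,51,0),(2,45,15),(5,31,14),(2,55,15),(5,26,14),(2,22,6),(1,54,7),(2,37,6),(5,8,5),(0,6,11),(2,21,6),(2,14,10),(9,13,11),(7,43,14),(0,30,4),(0,54,9),(3,22,8),(2,24,6),(0,56,6),(3,21,8),(1,6,15),(0,8,11),(2,20,6),(2,13,10),(9,3,11),(2,35,9),(0,25,4),(2,31,9),(0,23,4),(9,43,0),(4,30,10),(7,13,1),(3,14,10),(5,8,0),(2,37,8),(1,6,11),(3,21,6),(5,26,10),(2,55,11),(3,22,6),(0,54,7),(4,31,14),(3,45,15),(3,13,14),(7,3,4),(0,51,4),(9,1,11),(0,50,4),(9,11,11),(5,31,10),(2,45,11),(0,23,1),(2,31,7)]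

/-- Double coset coordinates. -/
def certZ_5 : List (ℕ × ℕ × ℕ) := [(2,30,7),(2,49,10),(9,11,15),(0,50,1),(5,51,5),(2,19,14),(9,13,15),(2,14,14),(0,30,1),(7,43,10),(0,25,1),(2,35,7),(3,31,9),(1,23,4),(9,1,15),(0,51,1),(1,50,4),(7,11,1),(9,3,15),(2,13,14),(1,23,1),(3,31,7),(2,49,14),(2,30,9),(3,45,11),(4,31,10),(7,3,1),(3,13,10),(2,21,8),(0,6,15),(2,20,8),(0,8,15),(2,42,13),(7,22,10),(0,44,5),(2,45,13),(4,32,7),(7,43,12),(3,9,1),(7,7,10),(4,12,14),(2,48,13),(4,2,14),(7,40,13),(4,2,10),(7,40,12),(2,9,10),(9,17,1),(0,12,11),(2,39,13),(2,24,10),(4,27,9),(2,29,10),(2,47,12),(4,32,9),(7,43,13),(4,12,10),(2,48,12),(2,7,10),(9,9,1),(1,2,5),(2,40,13),(2,22,10),(9,42,6),(3,32,1),(2,43,12),(0,44,0),(2,45,12),(2,28,10),(2,41,12),(3,27,1),(4,23,9),(2,42,12),(7,22,14),(3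,9,4),(7,7,14),(2,18,10),(3,46,8),(1,0,5),(4,33,9),(7,9,14),(3,17,4),(2,46,13),(4,10,10),(1,33,8),(4,0,10),(9,24,4),(1,27,8),(2,49,13),(4,42,15),(1,23,8),(9,27,4),(9,42,8),(2,22,14),(2,41,13),(2,28,14),(1,23,6),(9,27,1),(1,33,6),(4,0,14),(9,9,4),(2,7,14),(3,46,6),(2,18,14),(4,27,7),(2,24,14),(4,23,7),(3,27,4),(2,49,12),(4,42,11),(2,46,12),(4,10,14),(9,17,4),(2,9,14),(4,33,7),(1,0,0),(7,9,10),(3,17,1),(2,39,12),(0,12,15),(2,40,12),(1,2,0),(2,47,13),(2,29,14),(2,43,13),(3,32,4),(9,24,1),(1,27,6),(0,53,8),(0,28,11),(5,54,12),(5,27,0),(1,31,4),(3,47,15),(7,5,15),(3,3,5),(0,18,11),(9,52,14),(7,0,15),(4,50,5),(0,31,15),(2,47,4),(2,54,15),(4,27,10),(0,28,15),(0,53,6),(1,40,7),(4,6,0),(0,15,11),(0,39,6),(2,5,10),(9,14,11),(0,35,15),(2,43,4),(0,55,9),(9,42,0),(5,27,5)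,(5,54,13),(0,48,7),(5,15,14),(5,6,14),(0,40,6),(2,3,10),(9,5,11),(1,43,8),(4,23,10),(0,45,9),(2,41,4),(3,47,11),(1,31,1),(3,3,0),(7,5,11),(4,6,5),(1,40,9),(5,15,10),(0,48,9),(4,27,14),(2,54,11),(9,42,5),(0,55,7),(4,35,14),(3,43,15),(7,14,15),(3,5,5),(5,50,10),(9,0,11),(2,52,4),(9,10,11),(2,47,1),(0,31,11),(2,41,1),(0,45,7),(0,43,7),(5,23,0),(9,10,15),(2,52,1),(4,50,0),(7,0,11),(9,14,15),(2,5,14),(2,43,1),(0,35,11),(4,23,14),(1,43,6),(0,47,7),(0,38,11),(9,0,15),(5,50,14),(9,52,10),(0,18,15),(9,5,15),(2,3,14),(0,38,15),(0,47,9),(5,23,5),(0,43,9),(3,43,11),(4,35,10),(3,5,0),(7,14,11),(0,39,8),(0,15,15),(0,40,8),(5,6,10),(4,52,3),(9,16,9),(9,50,13),(9,7,9),(1,21,4),(3,48,14),(7,50,7),(9,17,9),(3,51,6),(9,9,9),(4,37,14),(3,40,15),(0,21,5),(2,39,5),(9,17,7),(7,50,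9),(9,16,7),(4,52,2),(2,39,0),(0,21,0),(4,13,8),(3,46,15),(4,14,8),(5,33,11),(0,20,5),(2,40,5),(9,9,7),(3,51,8),(9,7,7),(9,50,12),(2,40,0),(0,20,0),(4,3,8),(4,33,14),(4,5,8),(0,34,0),(4,33,10),(4,3,6),(3,46,11),(4,13,6),(3,48,10),(1,21,1),(0,34,5),(4,5,6),(5,33,15),(4,14,6),(3,40,11),(4,37,10),(7,21,15),(5,48,5),(4,50,3),(4,7,6),(9,52,13),(4,16,6),(9,37,5),(5,40,4),(5,51,9),(4,9,6),(1,50,8),(4,17,6),(9,13,7),(5,46,4),(9,14,7),(3,33,1),(2,21,10),(0,39,10),(4,17,8),(1,50,6),(4,16,8),(9,52,12),(0,39,14),(2,21,14),(9,3,7),(9,33,5),(9,5,7),(2,34,10),(2,20,10),(0,40,10),(4,9,8),(5,51,7),(4,7,8),(4,50,2),(0,40,14),(2,20,14),(5,48,0),(7,21,11),(5,46,1),(9,13,9),(9,33,0),(9,3,9),(5,40,1),(9,37,0),(3,33,4),(9,14,9),(2,34,14),(9,5,9),(2,28,8),(0,22,11),(9,30,3),(2,29,8)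,(7,31,12),(5,32,0),(9,2,1),(9,21,3),(0,16,11),(4,17,10),(2,4,10),(9,37,3),(9,4,1),(9,20,3),(0,7,11),(4,16,10),(7,2,15),(7,21,12),(0,26,15),(2,38,6),(7,22,13),(7,23,13),(2,28,6),(0,22,15),(9,20,2),(9,4,4),(9,21,2),(9,2,4),(5,16,10),(1,7,11),(0,36,15),(9,35,2),(2,26,9),(7,27,13),(5,32,5),(7,31,13),(4,32,0),(9,31,2),(1,22,11),(3,28,8),(2,29,6),(9,30,2),(5,16,14),(1,7,15),(2,1,10),(2,34,6),(2,11,10),(9,33,3),(9,19,1),(9,34,3),(3,11,14),(7,33,12),(1,16,15),(5,17,14),(2,38,8),(0,26,11),(3,28,6),(1,22,15),(9,23,3),(9,22,3),(7,23,12),(7,22,12),(7,27,12),(2,26,7),(2,25,7),(9,24,3),(1,16,11),(5,17,10),(9,37,2),(2,4,14),(7,21,13),(7,2,11),(3,26,7),(9,27,2),(9,24,2),(2,25,9),(9,22,2),(9,23,2),(7,33,13),(3,11,10),(4,16,14),(0,7,15),(2,34,8),(2,1,14),(9,34,2),(9,19,4),(4,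17,14),(0,16,15),(9,33,2),(2,11,14),(9,35,3),(0,36,11),(9,31,3),(4,32,5),(3,26,9),(9,27,3),(0,42,5),(2,55,13),(2,27,5),(2,54,13),(1,43,4),(2,35,5),(9,43,9),(7,23,5),(3,47,7),(2,38,0),(2,35,0),(1,43,1),(1,5,14),(5,14,15),(0,10,11),(4,52,15),(0,0,11),(7,50,10),(9,40,8),(7,6,10),(3,39,6),(3,15,11),(5,14,11),(1,5,10),(1,54,11),(7,27,5),(4,43,15),(9,35,15),(0,42,0),(2,55,12),(0,53,10),(3,28,11),(5,47,5),(9,31,15),(2,27,0),(2,54,12),(9,40,6),(7,6,14),(2,15,10),(3,48,9),(0,5,11),(4,3,0),(3,39,8),(3,15,15),(2,6,10),(3,40,8),(0,14,11),(4,5,0),(7,27,0),(1,54,15),(3,28,15),(0,53,14),(0,47,5),(3,31,15),(3,45,7),(0,41,0),(3,43,7),(2,23,0),(3,31,11),(0,47,0),(5,0,15),(2,50,14),(3,18,15),(0,52,14),(1,3,14),(5,5,15),(5,5,11),(1,3,10),(3,48,7),(2,15,14),(3,40,6),(2,6,14),(2,38,5),(3,47,9),(9,35,11),(4,43,11),(3,43,9),(2,23,5),(7,23,0),(9,43,7),(9,31,11),(5,47,0),(3,45,9),(0,41,5),(3,18,11),(0,52,10),(7,50,14),(0,0,15),(4,3,5),(0,5,15),(5,0,11),(2,50,10),(4,52,11),(0,10,15),(4,5,5),(0,14,15)]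

/-- Double coset coordinates. -/
def certZ_6 : List (ℕ × ℕ × ℕ) := [(0,40,15),(2,37,4),(4,50,8),(1,17,6),(0,51,6),(1,9,6),(2,39,15),(5,21,14),(4,52,7),(3,16,8),(3,17,8),(2,50,6),(3,51,3),(3,9,6),(4,37,4),(9,40,4),(2,50,8),(3,17,6),(9,33,11),(3,14,8),(7,21,0),(5,39,0),(3,13,8),(0,46,15),(1,50,2),(1,7,8),(5,40,5),(9,20,15),(1,9,8),(0,51,8),(3,46,10),(1,13,6),(3,48,11),(4,21,1),(1,33,10),(1,3,6),(0,20,1),(7,40,10),(0,34,1),(1,5,8),(1,3,8),(1,33,14),(2,21,1),(0,48,10),(3,33,10),(3,3,6),(0,46,11),(3,13,6),(2,21,4),(0,48,14),(1,50,3),(1,7,6),(2,52,9),(1,16,6),(2,39,11),(5,21,10),(3,46,14),(1,13,8),(1,14,8),(0,33,1),(4,52,9),(3,16,6),(3,48,15),(4,21,4),(3,50,3),(3,7,6),(4,50,6),(1,17,8),(7,21,5),(5,39,5),(1,16,8),(2,52,7),(3,33,14),(3,3,8),(5,40,0),(9,20,11),(3,5,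8),(9,34,11),(0,34,4),(1,5,6),(4,37,1),(9,40,1),(0,33,4),(1,14,6),(0,20,4),(7,40,14),(3,51,2),(3,9,8),(3,7,8),(3,50,2),(0,40,11),(2,37,1),(9,33,15),(3,14,6),(9,34,15),(3,5,6),(0,21,15),(2,48,5),(7,50,13),(7,7,9),(7,16,9),(0,52,6),(2,20,15),(1,40,5),(5,51,12),(5,9,7),(5,50,12),(5,7,7),(9,50,9),(7,17,7),(1,21,14),(3,39,14),(0,52,8),(7,16,7),(2,34,15),(7,5,9),(9,37,11),(4,40,11),(7,14,9),(2,33,15),(9,52,6),(5,16,9),(5,48,4),(9,21,15),(5,7,9),(5,50,13),(5,33,5),(5,3,7),(3,40,10),(4,20,1),(4,34,1),(5,5,7),(0,39,1),(3,21,0),(5,46,5),(7,13,7),(2,33,11),(7,14,7),(2,40,1),(0,37,11),(4,33,4),(5,14,9),(5,5,9),(4,34,4),(0,21,11),(2,48,0),(5,33,0),(5,3,9),(5,13,9),(2,46,1),(0,39,4),(3,21,5),(9,52,8),(5,16,7),(0,50,9),(5,17,7),(7,50,12),(7,7,7),(3,40,14),(4,20,4),(2,51,7),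(7,9,7),(5,51,13),(5,9,9),(9,37,15),(4,40,15),(5,17,9),(0,50,7),(5,46,0),(7,13,9),(5,48,1),(9,21,11),(7,3,9),(7,33,0),(4,33,1),(5,14,7),(1,21,10),(3,39,10),(2,46,4),(5,13,7),(2,20,11),(1,40,0),(2,34,11),(7,5,7),(7,33,5),(7,3,7),(2,40,4),(0,37,15),(9,50,7),(7,17,9),(7,9,9),(2,51,9),(0,31,5),(2,45,5),(7,22,9),(2,54,5),(0,26,5),(2,55,5),(7,31,8),(5,23,11),(9,30,6),(2,49,1),(0,31,0),(2,45,0),(5,54,8),(9,22,9),(1,31,14),(3,45,14),(2,55,0),(0,26,0),(0,56,12),(9,24,9),(4,30,4),(3,43,14),(2,54,0),(7,22,7),(3,3,4),(7,13,5),(2,11,11),(4,50,4),(2,1,11),(5,51,11),(9,21,7),(4,6,15),(9,20,7),(5,8,1),(3,3,1),(7,13,0),(4,6,11),(9,21,9),(2,13,11),(9,14,0),(0,8,10),(9,37,9),(5,8,4),(9,20,9),(2,3,11),(9,13,0),(5,6,4),(7,21,7),(5,50,15),(3,11,1),(9,13,5),(2,3,15),(5,51,15),(2,1,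15),(0,51,10),(9,19,5),(9,14,5),(2,13,15),(4,50,1),(2,11,15),(7,14,0),(3,13,1),(7,21,9),(5,6,1),(9,37,7),(0,8,14),(3,11,4),(5,50,11),(9,19,0),(0,51,14),(7,14,5),(3,13,4),(5,23,15),(7,31,6),(3,43,10),(4,30,1),(0,25,5),(9,35,8),(2,49,4),(9,30,8),(3,45,10),(1,31,10),(4,23,1),(9,31,8),(2,43,0),(0,30,0),(9,31,6),(4,23,4),(9,35,6),(0,25,0),(9,22,7),(5,54,6),(9,24,7),(0,56,13),(2,43,5),(0,30,5),(9,43,13),(5,32,6),(3,47,2),(2,29,11),(2,24,11),(5,27,6),(9,40,13),(5,2,5),(0,12,10),(3,48,3),(2,9,11),(9,7,10),(3,39,2),(4,12,1),(0,2,10),(3,40,2),(2,17,11),(9,9,10),(0,42,15),(2,49,7),(2,27,15),(5,23,8),(5,27,8),(2,24,15),(3,39,3),(4,12,4),(9,40,12),(5,2,0),(3,9,0),(7,17,1),(0,44,15),(3,45,3),(2,42,9),(9,22,10),(9,43,12),(5,32,8),(0,32,9),(3,43,3),(0,27,9),(9,24,10),(3,47,3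),(2,29,15),(7,17,4),(3,9,5),(0,0,10),(5,33,8),(0,10,10),(3,46,2),(3,45,2),(0,44,11),(3,43,2),(0,32,7),(3,22,0),(9,42,13),(3,18,0),(2,46,7),(5,33,6),(0,0,14),(9,7,14),(2,9,15),(5,0,0),(0,33,7),(3,46,3),(0,10,14),(9,9,14),(2,17,15),(7,27,1),(0,23,9),(3,28,5),(2,41,9),(9,42,12),(3,22,5),(3,7,0),(7,9,1),(3,40,3),(0,2,14),(3,48,2),(0,12,14),(5,23,6),(2,27,11),(9,22,14),(2,42,7),(3,28,0),(2,41,7),(2,49,9),(0,42,11),(9,24,14),(0,27,7),(7,27,4),(0,23,7),(3,18,5),(2,46,9),(5,0,5),(0,33,9),(7,9,4),(3,7,5),(3,27,6),(0,24,11),(4,43,13),(3,32,6),(5,47,2),(0,29,11),(9,12,1),(5,39,2),(0,17,11),(4,9,10),(2,2,10),(5,40,2),(3,2,5),(4,40,13),(0,9,11),(4,7,10),(2,12,10),(5,48,3),(0,27,15),(3,23,8),(2,42,15),(0,49,7),(3,27,8),(0,24,15),(4,40,12),(3,2,0),(5,39,3),(9,12,4),(1,17,1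),(5,9,0),(0,32,15),(5,43,3),(2,27,9),(4,24,10),(0,29,15),(5,47,3),(0,44,9),(5,45,3),(0,42,9),(4,22,10),(3,32,8),(4,43,12),(1,17,4),(5,9,5),(2,0,10),(3,33,8),(2,10,10),(5,46,2),(3,0,5),(2,33,9),(5,18,5),(0,46,9),(5,7,5),(1,9,4),(3,23,6),(0,27,11),(4,22,14),(0,42,7),(0,41,7),(5,28,0),(0,49,9),(2,42,11),(4,24,14),(2,27,7),(2,23,7),(1,27,4),(5,7,0),(1,9,1),(5,40,3),(2,2,14),(5,48,2),(2,12,14),(5,22,5),(4,42,12),(1,27,1),(2,23,9),(5,28,5),(0,41,9),(0,46,7),(5,18,0),(4,7,14),(0,9,15),(3,33,6),(2,0,14),(2,33,7),(3,0,0),(4,9,14),(0,17,15),(5,46,3),(2,10,14),(5,43,2),(0,32,11),(5,45,2),(0,44,7),(5,22,0),(4,42,13),(1,22,9),(0,54,5),(2,26,5),(0,55,5),(0,45,5),(2,31,5),(4,30,6),(0,49,1),(1,31,8),(3,23,11),(2,31,0),(0,45,0),(0,56,10),(4,24,9),(9,30,4),(5,43,14),(1,22,7),(0,54,0),(5,54,14),(4,22,9),(7,31,14),(5,45,14),(2,26,0),(0,55,0),(5,3,4),(1,13,5),(0,11,11),(9,50,4),(0,1,11),(3,51,11),(4,20,7),(3,8,1)]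

/-- Double coset coordinates. -/
def certZ_7 : List (ℕ × ℕ × ℕ) := [(4,21,7),(9,6,15),(1,13,0),(5,3,1),(4,20,9),(3,8,4),(3,6,4),(1,21,7),(0,3,11),(4,13,0),(4,21,9),(9,6,11),(2,8,10),(4,37,9),(0,13,11),(4,14,0),(4,24,7),(0,56,14),(4,22,7),(5,54,10),(0,43,5),(2,30,5),(4,31,6),(9,23,4),(4,35,6),(2,25,0),(2,30,0),(0,43,0),(3,23,15),(1,31,6),(5,43,10),(9,30,1),(4,35,8),(2,25,5),(0,49,4),(4,30,8),(5,45,10),(7,31,10),(4,31,8),(9,23,1),(4,19,0),(2,51,14),(5,11,4),(3,50,11),(5,13,4),(1,14,5),(1,14,0),(5,13,1),(1,21,9),(3,6,1),(4,37,7),(2,8,14),(5,11,1),(3,50,15),(3,51,15),(0,1,15),(4,13,5),(0,3,15),(4,19,5),(2,51,10),(9,50,1),(0,11,15),(4,14,5),(0,13,15),(0,39,15),(3,21,14),(9,52,7),(5,16,8),(0,50,6),(5,17,8),(2,40,15),(0,37,4),(9,50,8),(7,17,6),(7,9,6),(2,51,6),(5,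51,3),(5,9,6),(9,37,4),(4,40,4),(5,17,6),(0,50,8),(4,33,11),(5,14,8),(1,21,0),(3,39,0),(2,46,15),(5,13,8),(7,50,2),(7,7,8),(3,40,5),(4,20,15),(2,51,8),(7,9,8),(5,46,10),(7,13,6),(5,48,11),(9,21,1),(7,3,6),(7,33,10),(0,21,1),(2,48,10),(5,33,10),(5,3,6),(5,13,6),(2,46,11),(2,20,1),(1,40,10),(2,34,1),(7,5,8),(7,33,14),(7,3,8),(2,20,4),(1,40,14),(5,51,2),(5,9,8),(5,50,2),(5,7,8),(2,40,11),(0,37,1),(4,33,15),(5,14,6),(5,5,6),(4,34,15),(2,34,4),(7,5,6),(9,37,1),(4,40,1),(7,14,6),(2,33,4),(5,33,14),(5,3,8),(3,40,0),(4,20,11),(4,34,11),(5,5,8),(9,50,6),(7,17,8),(1,21,5),(3,39,5),(0,52,7),(7,16,8),(9,52,9),(5,16,6),(5,48,15),(9,21,4),(5,7,6),(5,50,3),(0,21,4),(2,48,14),(7,50,3),(7,7,6),(7,16,6),(0,52,9),(0,39,11),(3,21,10),(5,46,14),(7,13,8),(2,33,1),(7,14,8),(0,20,15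),(7,40,5),(3,51,12),(3,9,7),(3,7,7),(3,50,12),(2,21,15),(0,48,5),(1,50,13),(1,7,9),(2,52,6),(1,16,9),(4,50,9),(1,17,7),(7,21,14),(5,39,14),(1,16,7),(2,52,8),(0,34,15),(1,5,9),(4,37,11),(9,40,11),(0,33,15),(1,14,9),(4,52,6),(3,16,9),(3,48,4),(4,21,15),(3,50,13),(3,7,9),(3,33,5),(3,3,7),(5,40,10),(9,20,1),(3,5,7),(9,34,1),(0,40,1),(2,37,11),(9,33,4),(3,14,9),(9,34,4),(3,5,9),(2,39,1),(5,21,0),(3,46,5),(1,13,7),(1,14,7),(0,33,11),(0,20,11),(7,40,0),(0,34,11),(1,5,7),(1,3,7),(1,33,5),(0,40,4),(2,37,15),(4,50,7),(1,17,9),(0,51,9),(1,9,9),(9,33,1),(3,14,7),(7,21,10),(5,39,10),(3,13,7),(0,46,4),(3,46,0),(1,13,9),(3,48,1),(4,21,11),(1,33,0),(1,3,9),(3,51,13),(3,9,9),(4,37,15),(9,40,15),(2,50,7),(3,17,9),(1,50,12),(1,7,7),(5,40,14),(9,20,4),(1,9,7),(0,51,7),(2,21,11)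,(0,48,0),(3,33,0),(3,3,9),(0,46,1),(3,13,9),(2,39,4),(5,21,5),(4,52,8),(3,16,7),(3,17,7),(2,50,9),(0,35,5),(7,43,4),(2,42,5),(0,55,13),(0,27,5),(0,54,13),(5,47,7),(0,38,0),(4,43,9),(1,23,5),(0,35,0),(7,43,1),(7,5,14),(3,14,15),(2,10,11),(9,52,15),(2,0,11),(1,50,10),(5,39,6),(5,15,11),(4,40,8),(1,6,10),(7,5,10),(3,14,11),(0,53,12),(5,28,11),(3,47,5),(4,31,15),(0,54,12),(0,27,0),(1,54,13),(1,27,5),(9,43,15),(4,35,15),(0,55,12),(2,42,0),(5,15,15),(5,39,8),(2,14,11),(9,5,0),(0,6,10),(5,40,8),(1,6,14),(4,40,6),(2,5,11),(9,3,0),(0,15,10),(5,48,9),(2,52,10),(5,18,11),(9,3,5),(2,5,15),(1,50,14),(2,0,15),(0,50,10),(3,0,11),(9,5,5),(2,14,15),(9,52,11),(2,10,15),(0,38,5),(5,47,9),(4,35,11),(9,43,11),(0,23,5),(5,43,9),(1,23,0),(4,43,7),(4,31,11),(3,47,0),(2,41,5),(5,45,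9),(3,5,11),(7,3,10),(5,48,7),(0,15,14),(5,40,6),(0,6,14),(5,18,15),(2,52,14),(3,0,15),(0,50,14),(3,5,15),(7,3,14),(2,47,0),(5,31,11),(5,45,7),(2,41,0),(5,43,7),(0,23,0),(5,28,15),(0,53,13),(1,27,0),(1,54,12),(2,47,5),(5,31,15),(4,30,3),(0,29,8),(1,31,12),(3,32,0),(2,22,11),(0,28,8),(4,20,3),(4,4,1),(1,2,15),(1,21,12),(2,7,11),(9,16,10),(4,21,3),(4,2,1),(0,4,10),(4,37,3),(2,16,11),(9,17,10),(1,22,13),(1,23,13),(2,26,15),(0,38,6),(0,28,6),(2,22,15),(4,21,2),(4,2,4),(4,20,2),(4,4,4),(7,7,11),(3,16,10),(4,32,2),(4,31,2),(7,22,11),(5,28,8),(4,30,2),(0,29,6),(0,36,9),(4,35,2),(0,26,9),(1,27,13),(1,31,13),(3,32,5),(3,16,14),(7,7,15),(0,1,10),(0,34,6),(0,11,10),(4,33,3),(4,31,3),(4,32,3),(4,35,3),(0,36,7),(5,26,9),(4,27,3),(5,11,10),(1,33,13),(0,34,8),(0,1,14),(9,16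,14),(2,7,15),(4,19,4),(4,34,2),(4,33,2),(0,11,14),(9,17,14),(2,16,15),(4,24,2),(0,25,9),(4,22,2),(4,23,2),(4,27,2),(5,26,7),(7,16,11),(3,17,10),(4,37,2),(0,4,14),(1,21,13),(1,2,11),(0,38,8),(2,26,11),(5,28,6),(7,22,15),(4,22,3),(4,23,3),(1,23,12),(1,22,12),(1,27,12),(0,26,7),(4,24,3),(0,25,7),(5,11,14),(1,33,12),(4,19,1),(4,34,3),(3,17,14),(7,16,15),(9,37,14),(5,40,15),(5,51,6),(4,9,9),(1,50,7),(4,17,9),(7,21,4),(5,48,14),(4,50,13),(4,7,9),(9,52,3),(4,16,9),(4,17,7),(1,50,9),(4,16,7),(9,52,2),(0,39,5),(2,21,5),(9,13,8),(5,46,15),(9,14,8),(3,33,11),(2,21,0),(0,39,0),(4,9,7),(5,51,8),(4,7,7),(4,50,12),(0,40,5),(2,20,5),(9,3,8),(9,33,14),(9,5,8),(2,34,0),(2,20,0),(0,40,0),(5,40,11),(9,37,10),(3,33,15),(9,14,6),(2,34,5),(9,5,6),(5,48,10),(7,21,1),(5,46,11),(9,13,6),(9,33,10),(9,3,6),(4,33,0),(4,3,9),(3,46,1),(4,13,9),(3,48,0),(1,21,11),(0,34,14),(4,5,9),(5,33,4),(4,14,9),(3,40,1),(4,37,0),(0,20,14),(2,40,14),(9,9,8),(3,51,7)]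

/-- Double coset coordinates. -/
def certZ_8 : List (ℕ × ℕ × ℕ) := [(9,7,8),(9,50,2),(2,40,10),(0,20,10),(4,3,7),(4,33,5),(4,5,7),(0,34,10),(0,21,14),(2,39,14),(9,17,8),(7,50,6),(9,16,8),(4,52,12),(2,39,10),(0,21,10),(4,13,7),(3,46,4),(4,14,7),(5,33,1),(4,52,13),(9,16,6),(9,50,3),(9,7,6),(1,21,15),(3,48,5),(7,50,8),(9,17,6),(3,51,9),(9,9,6),(4,37,5),(3,40,4),(9,30,14),(4,43,5),(0,56,11),(0,24,8),(1,54,10),(0,22,8),(1,13,4),(5,14,14),(0,19,10),(3,51,0),(1,11,4),(7,50,1),(0,45,15),(3,31,14),(0,55,15),(3,26,14),(1,54,14),(0,22,6),(3,8,5),(0,37,6),(0,14,10),(4,13,11),(2,6,11),(0,21,6),(1,43,14),(2,30,4),(2,54,9),(5,22,8),(0,56,15),(0,24,6),(7,6,15),(5,21,8),(0,13,10),(4,3,11),(2,8,11),(0,20,6),(0,35,9),(2,25,4),(0,31,9),(2,23,4),(9,30,10),(4,43,0),(1,13,1),(5,1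4,10),(3,8,0),(0,37,8),(7,6,11),(5,21,6),(5,13,10),(1,3,1),(0,20,8),(2,8,15),(0,21,8),(2,6,15),(5,45,11),(9,31,10),(0,49,14),(0,30,9),(7,23,1),(5,31,7),(2,51,1),(4,1,15),(4,3,15),(0,13,14),(7,50,4),(1,11,1),(2,30,1),(1,43,10),(2,25,1),(0,35,7),(7,23,4),(5,31,9),(2,50,1),(4,11,15),(4,13,15),(0,14,14),(3,51,5),(0,19,14),(3,31,10),(0,45,11),(2,23,1),(0,31,7),(0,49,10),(0,30,7),(5,13,14),(1,3,4),(2,51,4),(4,1,11),(2,50,4),(4,11,11),(3,26,10),(0,55,11),(5,22,6),(2,54,7),(5,45,15),(9,31,14),(0,36,5),(2,35,13),(0,32,5),(2,31,13),(2,27,13),(2,26,13),(1,17,0),(5,16,11),(3,2,1),(3,21,3),(9,4,14),(2,37,12),(2,37,13),(9,4,10),(2,2,11),(2,21,13),(0,17,10),(4,16,1),(3,27,3),(3,26,3),(3,32,3),(3,31,3),(2,35,12),(0,36,0),(3,21,2),(3,2,4),(2,4,11),(2,20,13),(0,16,10),(4,7,1),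(2,28,12),(5,22,11),(2,29,12),(2,30,12),(2,31,12),(0,32,0),(2,22,12),(2,23,12),(2,24,12),(2,25,12),(2,26,12),(2,27,12),(5,16,15),(1,17,5),(2,19,11),(2,34,13),(7,11,14),(3,33,2),(3,31,2),(3,32,2),(2,30,13),(2,29,13),(3,28,2),(4,22,1),(1,16,0),(5,7,11),(2,20,12),(2,4,15),(2,21,12),(2,2,15),(9,11,14),(2,33,12),(2,34,12),(2,19,15),(4,16,4),(0,17,14),(3,26,2),(3,27,2),(2,25,13),(2,24,13),(3,22,2),(3,23,2),(9,1,14),(9,34,8),(3,33,3),(7,11,10),(4,7,4),(0,16,14),(5,22,15),(2,28,13),(2,23,13),(2,22,13),(5,26,15),(2,38,13),(2,38,12),(5,26,11),(3,23,3),(3,22,3),(4,22,4),(3,28,3),(5,7,15),(1,16,5),(2,33,13),(9,11,10),(9,34,6),(9,1,10),(7,31,4),(5,47,15),(5,54,4),(3,27,0),(0,53,11),(2,28,11),(5,3,5),(1,5,15),(1,0,15),(9,50,5),(2,18,11),(4,52,14),(2,31,15),(0,47,4),(0,54,1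5),(9,27,10),(0,53,15),(2,28,15),(9,6,0),(7,40,7),(0,5,10),(4,14,11),(2,15,11),(2,39,6),(2,35,15),(0,43,4),(2,55,9),(4,42,0),(5,54,1),(3,27,5),(3,15,14),(2,48,7),(0,3,10),(4,5,11),(3,6,14),(2,40,6),(7,43,8),(9,23,10),(2,45,9),(0,41,4),(7,31,1),(5,47,11),(5,3,0),(1,5,11),(9,6,5),(7,40,9),(3,15,10),(2,48,9),(1,14,11),(5,5,0),(2,40,8),(3,6,10),(2,39,8),(2,15,15),(5,43,11),(9,35,10),(3,23,5),(2,43,9),(2,38,15),(2,47,9),(3,50,14),(4,0,15),(4,5,15),(0,3,14),(4,52,10),(2,18,15),(0,43,1),(2,35,11),(9,23,14),(7,43,6),(2,38,11),(2,47,7),(0,52,1),(4,10,15),(4,14,15),(0,5,14),(9,50,0),(1,0,11),(0,47,1),(2,31,11),(0,41,1),(2,45,7),(3,23,0),(2,43,7),(1,14,15),(5,5,5),(3,50,10),(4,0,11),(0,52,4),(4,10,11),(9,27,14),(0,54,11),(4,42,5),(2,55,7),(5,43,15),(9,35,14),(4,32,1),(1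,43,12),(0,44,13),(0,45,13),(0,42,13),(1,22,10),(5,9,1),(1,7,10),(9,12,14),(0,48,13),(9,2,14),(1,40,13),(1,40,12),(9,2,10),(2,12,11),(0,39,13),(0,9,10),(4,17,1),(0,24,10),(9,27,9),(0,29,10),(0,47,12),(1,43,13),(4,32,4),(0,48,12),(9,12,10),(7,2,5),(0,40,13),(0,7,10),(4,9,1),(0,22,10),(4,42,6),(5,32,1),(0,43,12),(0,45,12),(0,44,12),(0,28,10),(0,41,12),(5,27,1),(9,23,9),(1,22,14),(0,42,12),(1,7,14),(5,9,4),(7,0,5),(9,33,9),(0,18,10),(5,46,8),(0,47,13),(0,29,14),(0,43,13),(5,32,4),(7,27,6),(4,24,1),(5,17,1),(1,9,10),(0,40,12),(7,2,0),(0,39,12),(2,12,15),(9,10,14),(0,46,12),(9,33,7),(7,0,0),(4,17,4),(0,9,14),(9,27,7),(0,24,14),(9,23,7),(5,27,4),(9,42,11),(0,49,12),(9,0,14),(7,33,6),(5,46,6),(0,18,14),(4,9,4),(0,7,14),(4,42,8),(0,22,14),(0,41,13),(0,28,14),(4,27,1)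,(7,23,6),(7,23,8),(4,27,4),(0,49,13),(9,42,15),(4,24,4),(7,27,8),(1,9,14),(5,17,4),(0,46,13),(9,10,10),(7,33,8),(9,0,10),(4,3,3),(4,2,3),(4,13,3),(4,12,3),(3,18,7),(5,11,8),(4,5,3),(4,4,3),(4,14,3),(5,2,7),(5,0,7),(4,19,3),(9,13,12),(9,12,12),(9,14,12),(3,2,6),(9,11,12),(9,10,12),(4,17,2),(1,6,9),(4,16,2),(5,15,8),(9,10,13),(9,11,13),(9,3,12),(9,2,12),(9,5,12),(9,4,12),(9,1,12),(9,0,12),(4,9,2),(5,8,7),(4,7,2),(4,6,2),(9,0,13),(9,1,13),(9,16,13),(3,15,9),(9,7,13),(9,6,13),(5,11,6),(3,18,9),(9,17,13),(7,6,8),(9,9,13),(3,8,6),(4,19,2),(5,0,9),(9,3,13),(9,2,13),(9,13,13),(9,12,13),(3,11,7),(5,18,8),(9,5,13),(9,4,13),(9,14,13),(3,2,8),(9,19,13),(3,0,8),(4,5,2),(4,4,2),(4,3,2),(4,2,2),(4,1,2),(4,0,2),(9,7,12),(9,6,12),(9,9,12),(3,8,8),(4,0,3),(4,1,3),(4,14,2),(5,2,9),(4,13,2),(4,12,2),(4,11,2),(4,10,2),(9,16,12),(3,15,7),(9,17,12),(7,6,6),(4,10,3),(4,11,3),(4,16,3),(5,15,6),(4,7,3),(4,6,3),(5,18,6),(3,11,9),(4,17,3),(1,6,7),(4,9,3),(5,8,9),(3,0,6),(9,19,12)]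

/-- Words for a transversal of a vector stabilizer. -/
def transW : List (List ℕ) := [[],
  [0],
  [1],
  [2],
  [1,0],
  [2,0],
  [0,1],
  [2,1],
  [0,2],
  [1,2],
  [0,1,0],
  [2,1,0],
  [0,2,0],
  [1,2,0],
  [0,0,1],
  [2,0,1],
  [0,2,1],
  [1,2,1],
  [0,0,2],
  [1,0,2],
  [2,0,2],
  [0,1,2],
  [1,1,2],
  [2,1,2],
  [1,2,1,0],
  [0,0,2,0],
  [1,0,2,0],
  [2,0,2,0],
  [0,1,2,0],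
  [2,1,2,0],
  [2,0,0,1],
  [0,2,0,1],
  [1,2,0,1],
  [1,0,2,1],
  [0,1,2,1],
  [1,1,2,1],
  [2,1,2,1],
  [0,0,0,2],
  [1,0,0,2],
  [2,0,0,2],
  [1,1,0,2],
  [2,1,0,2],
  [0,0,1,2],
  [1,0,1,2],
  [2,0,1,2],
  [0,1,1,2],
  [0,2,1,2],
  [0,0,0,2,0],
  [1,0,0,2,0],
  [2,0,0,2,0],
  [0,1,0,2,0],
  [1,1,0,2,0],
  [0,0,1,2,0],
  [0,0,2,0,1],
  [2,0,2,0,1],
  [0,1,0,2,1],
  [1,1,0,2,1],
  [1,0,1,2,1],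
  [0,1,1,2,1],
  [0,2,1,2,1],
  [0,2,0,0,2],
  [2,0,0,0,2,0],
  [1,0,0,2,0,1]]

/-- Words for the vector stabilizer. -/
def stabW : List (List ℕ) := [[],
  [0,0,1,0],
  [1,0,0,1],
  [1,1,0,1],
  [0,2,0,1,0],
  [1,1,1,1,0],
  [2,0,2,1,0],
  [0,2,1,0,1,0],
  [0,1,2,0,1,0],
  [0,2,0,1,1,1],
  [1,0,1,1,1,1],
  [2,0,2,1,1,1],
  [2,0,2,1,1,0,0],
  [0,1,2,1,0,1,0],
  [0,1,1,2,0,1,0],
  [0,2,1,2,0,1,0],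
  [0,2,1,0,1,1,1],
  [0,1,2,0,1,1,1],
  [1,0,2,0,0,2,1],
  [1,1,2,0,0,2,1],
  [0,2,0,0,0,0,0,0],
  [2,0,2,0,0,0,0,0],
  [1,0,2,0,0,2,0,0],
  [1,1,2,0,0,2,0,0],
  [0,1,1,2,1,0,1,0],
  [0,2,1,2,1,0,1,0],
  [0,2,1,1,2,0,1,0],
  [2,1,0,2,0,0,2,0],
  [1,2,0,0,1,0,2,0],
  [2,1,1,2,0,1,2,0],
  [2,1,2,0,1,2,0,1],
  [2,0,2,1,1,0,1,1],
  [0,2,1,1,0,1,1,1],
  [0,1,2,1,0,1,1,1],
  [0,2,1,2,0,1,1,1],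
  [1,0,2,0,2,0,2,1],
  [1,1,2,0,2,0,2,1],
  [1,2,0,2,1,0,0,2],
  [2,0,0,0,2,0,0,2],
  [0,1,2,0,0,0,0,0,0],
  [2,1,2,0,1,2,0,0,0],
  [2,0,1,2,1,2,0,0,0],
  [1,0,2,0,2,0,2,0,0],
  [1,1,2,0,2,0,2,0,0],
  [2,1,2,0,1,2,1,1,0],
  [0,0,1,0,2,0,2,1,0],
  [1,0,0,1,2,0,2,1,0],
  [1,1,0,1,2,0,2,1,0],
  [2,1,0,1,0,2,0,2,0],
  [1,2,0,2,0,2,0,2,0],
  [0,0,1,2,1,0,1,2,0],
  [1,0,2,0,0,2,0,1,1],
  [1,1,2,0,0,2,0,1,1],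
  [0,2,1,2,1,0,1,1,1],
  [2,1,0,2,0,0,2,1,1],
  [1,2,0,0,1,0,2,1,1],
  [2,1,1,2,0,1,2,1,1],
  [2,0,1,2,1,0,0,2,1],
  [0,0,0,0,2,0,0,2,1],
  [0,0,2,0,0,2,0,0,2],
  [2,1,0,0,2,1,1,0,2],
  [2,0,0,2,0,0,2,0,2],
  [1,0,2,1,0,1,2,0,2],
  [1,1,2,1,0,1,2,0,2],
  [2,1,1,0,2,1,2,0,2],
  [2,0,0,1,2,1,0,1,2],
  [1,0,2,1,2,0,2,1,2],
  [2,1,0,2,0,0,2,1,0,0],
  [1,2,0,0,1,0,2,1,0,0],
  [2,1,1,2,0,1,2,1,0,0],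
  [2,0,1,2,1,0,0,2,0,0],
  [0,0,0,0,2,0,0,2,0,0],
  [0,2,0,1,0,2,0,2,1,0],
  [1,1,1,1,0,2,0,2,1,0],
  [1,2,0,1,2,1,0,0,2,0],
  [0,0,0,2,0,0,1,0,2,0],
  [1,2,1,2,0,0,2,0,2,0],
  [1,2,0,0,2,1,2,0,2,0],
  [1,1,0,0,2,1,0,1,2,0],
  [0,2,0,1,2,1,0,1,2,0],
  [1,2,0,1,2,0,2,0,0,1],
  [2,1,2,1,0,2,0,2,0,1],
  [1,0,0,2,0,2,0,2,0,1],
  [1,1,0,2,0,2,0,2,0,1],
  [2,0,0,2,1,2,0,2,0,1],
  [1,0,2,1,1,0,1,2,0,1],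
  [1,0,2,0,2,0,2,0,1,1],
  [1,1,2,0,2,0,2,0,1,1],
  [0,0,1,0,2,0,2,1,1,1],
  [1,0,0,1,2,0,2,1,1,1],
  [2,1,0,1,0,2,0,2,1,1],
  [1,2,0,2,0,2,0,2,1,1],
  [0,0,1,2,1,0,1,2,1,1],
  [0,2,0,0,0,2,0,0,2,1],
  [1,1,1,0,0,2,0,0,2,1],
  [2,0,2,0,0,2,0,0,2,1],
  [2,1,2,0,1,0,2,0,2,1],
  [2,0,1,2,1,0,2,0,2,1],
  [0,0,0,0,2,0,2,0,2,1],
  [2,0,0,2,0,1,2,0,2,1],
  [2,0,1,0,2,0,2,1,2,1],
  [2,0,0,0,0,2,0,0,0,2],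
  [0,0,0,2,0,2,1,0,0,2],
  [2,1,1,1,0,0,2,0,0,2],
  [0,2,0,2,0,0,2,0,0,2],
  [1,0,1,2,0,0,2,0,0,2],
  [2,1,2,1,0,1,2,1,0,2],
  [0,0,2,0,2,0,0,2,0,2],
  [2,0,0,2,0,2,0,2,0,2],
  [2,1,2,1,0,1,1,2,0,2],
  [1,0,0,2,0,1,1,2,0,2],
  [1,1,0,2,0,1,1,2,0,2],
  [2,1,1,0,0,2,0,0,1,2],
  [0,0,2,0,1,2,1,0,1,2],
  [1,1,2,1,0,0,2,0,1,2],
  [2,1,1,0,2,0,2,0,1,2],
  [1,2,1,1,0,0,2,0,0,0,0],
  [1,2,0,1,2,0,2,0,0,0,0],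
  [2,1,2,1,0,2,0,2,0,0,0],
  [1,0,2,1,1,0,1,2,0,0,0],
  [0,0,1,0,2,0,2,1,1,0,0],
  [1,0,0,1,2,0,2,1,1,0,0],
  [2,1,0,1,0,2,0,2,1,0,0],
  [1,2,0,2,0,2,0,2,1,0,0],
  [0,0,1,2,1,0,1,2,1,0,0],
  [0,0,2,1,2,1,0,0,2,0,0],
  [0,2,0,0,0,2,0,0,2,0,0],
  [1,1,1,0,0,2,0,0,2,0,0],
  [0,2,0,0,1,2,0,0,2,0,0],
  [1,1,1,0,1,2,0,0,2,0,0],
  [2,0,1,2,1,0,2,0,2,0,0],
  [0,0,0,0,2,0,2,0,2,0,0],
  [2,0,1,0,2,0,2,1,2,0,0],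
  [2,0,2,1,1,1,0,2,0,1,0],
  [2,1,2,1,0,2,0,2,1,1,0],
  [1,1,0,2,0,2,0,2,1,1,0],
  [2,0,0,2,1,2,0,2,1,1,0],
  [2,0,0,0,2,0,0,0,2,1,0],
  [0,2,0,2,1,1,1,0,2,1,0],
  [1,2,0,0,2,1,0,1,2,1,0],
  [0,0,1,2,0,2,1,0,0,2,0],
  [0,0,2,0,0,1,2,0,0,2,0],
  [0,2,0,0,2,0,0,1,0,2,0],
  [2,1,0,0,2,0,2,1,0,2,0],
  [2,1,0,0,2,0,1,2,0,2,0],
  [0,1,2,0,1,2,1,0,1,2,0],
  [1,0,2,0,2,0,1,2,1,2,0],
  [0,0,1,2,0,2,0,2,0,0,1],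
  [0,0,1,2,0,2,0,2,1,0,1],
  [1,2,0,0,0,2,0,0,2,0,1],
  [1,2,1,0,1,2,0,0,2,0,1],
  [2,0,0,2,0,0,1,0,2,0,1],
  [2,1,0,2,0,0,2,1,0,1,1],
  [1,2,0,0,1,0,2,1,0,1,1],
  [2,0,1,2,1,0,0,2,0,1,1],
  [0,2,0,1,0,2,0,2,1,1,1],
  [1,2,0,1,2,1,0,0,2,1,1],
  [0,2,0,1,2,1,0,1,2,1,1],
  [0,1,2,0,0,0,2,0,0,2,1],
  [0,2,0,2,0,2,0,1,0,2,1],
  [1,1,2,0,1,2,1,1,0,2,1],
  [0,0,2,0,2,0,2,1,0,2,1],
  [1,1,1,0,0,2,0,2,0,2,1],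
  [2,0,2,0,0,2,0,2,0,2,1],
  [1,2,0,0,1,2,1,2,0,0,2],
  [2,1,1,1,0,2,0,0,2,0,2],
  [0,1,0,2,0,2,0,0,2,0,2],
  [0,0,2,1,0,1,2,0,0,1,2],
  [2,1,1,1,0,1,2,1,0,1,2],
  [0,1,0,2,0,1,2,1,0,1,2],
  [1,0,1,2,0,1,2,1,0,1,2],
  [0,0,2,0,0,2,1,0,1,1,2],
  [0,2,0,1,0,2,0,2,1,1,0,0],
  [1,1,1,1,0,2,0,2,1,1,0,0],
  [1,2,0,1,2,1,0,0,2,1,0,0],
  [0,0,2,0,2,0,2,1,0,2,0,0],
  [0,2,0,2,1,0,0,2,1,2,0,0],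
  [2,0,0,0,2,0,0,2,0,0,1,0],
  [1,2,1,0,1,2,0,0,2,1,1,0],
  [1,0,2,1,2,0,2,1,0,2,1,0],
  [2,0,2,1,1,0,0,2,0,2,1,0],
  [1,1,0,0,2,0,2,1,0,0,2,0],
  [1,0,1,2,0,0,1,2,0,0,2,0],
  [2,1,0,2,0,1,2,1,1,0,2,0],
  [1,2,1,0,0,2,1,0,2,0,2,0],
  [2,0,1,1,2,1,0,0,2,0,0,1],
  [1,1,2,0,2,0,2,1,1,1,0,1],
  [2,0,0,0,2,0,0,2,1,1,0,1],
  [1,0,2,1,1,1,0,2,0,2,0,1],
  [2,0,1,2,1,0,2,0,2,0,1,1],
  [2,1,1,1,0,2,0,2,1,0,2,1],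
  [1,1,0,0,2,0,2,0,1,2,1,2]]

end Cfsg.Agent.G22Rec
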