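import Cfsg.Agent.Lib.G22Rec.Basic

/-!
The derived group is simple of index one or two.
-/

set_option autoImplicit false
set_option linter.unusedSectionVars false
set_option linter.style.haveILetI false

namespace Cfsg.Agent.G22Rec

open scoped commutatorElement

universe u

variable {G : Type u} [Group G] [Finite G]

theorem exists_seven_normalizing (a0 : G) (ha0 : orderOf a0 = 7) (K : Subgroup G)
    (hK : K ≤ Subgroup.normalizer (K : Set G)) (h7 : ¬ 7 ∣ Nat.card K) [Fact (Nat.Prime 3)]
    (hN : ∀ g : G, g ∈ Subgroup.normalizer (K : Set G))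
    (hG : Nat.card G = 12096) :
    ∃ (Q : Sylow 3 K) (a : G), orderOf a = 7 ∧
      ∀ q ∈ (Q : Subgroup K).map K.subtype, a * q * a⁻¹ ∈ (Q : Subgroup K).map K.subtype := by
  obtain ⟨Q⟩ : Nonempty (Sylow 3 K) := inferInstance
  haveI : Fact (Nat.Prime 7) := ⟨by norm_num⟩
  haveI hKn : K.Normal := Subgroup.normalizer_eq_top_iff.1 (eq_top_iff.2 fun g _ => hN g)
  have hsup := Sylow.normalizer_sup_eq_top Q
  set M := Subgroup.normalizer (((Q : Subgroup K).map K.subtype : Subgroup G) : Set G)
  have hM7 : 7 ∣ Nat.card M := by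
    have h1 : K.relIndex M = K.index := by
      rw [← Subgroup.relIndex_sup_right, hsup, Subgroup.relIndex_top_right]
    have h2 : K.index ∣ Nat.card M := h1 ▸ Subgroup.relIndex_dvd_card K M
    have h3 : 7 ∣ Nat.card K * K.index := by rw [K.card_mul_index, hG]; norm_num
    exact ((Nat.Prime.dvd_mul (by norm_num)).1 h3).resolve_left h7 |>.trans h2
  obtain ⟨⟨a, haM⟩, ha⟩ := exists_prime_orderOf_dvd_card' 7 hM7
  refine ⟨Q, a, by rw [← ha, Subgroup.orderOf_mk], fun q hq => ?_⟩
  exact (Subgroup.mem_normalizer_iff.1 haM q).1 hq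

namespace Hyp

variable (H : Hyp G)
include H

theorem eq_one_of_fixed {a q : G} (ha : orderOf a = 7) (hq : a * q = q * a) (h7 : ¬ 7 ∣ orderOf q) :
    q = 1 := by
  obtain ⟨k, hk⟩ := Subgroup.mem_zpowers_iff.1 (H.commute_seven ha hq)
  have h1 : orderOf q ∣ 7 := by
    rw [← ha, ← Nat.card_zpowers a, ← Subgroup.orderOf_mk q (H.commute_seven ha hq)]
    exact orderOf_dvd_natCard _
  rcases (Nat.dvd_prime (by norm_num : Nat.Prime 7)).1 h1 with h | h
  · exact orderOf_eq_one_iff.1 h
  · exact absurd (dvd_of_eq h.symm) h7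

/-- A normal subgroup of order prime to 7 has trivial 3-part. -/
theorem not_three_dvd (K : Subgroup G) [K.Normal] (h7 : ¬ 7 ∣ Nat.card K) : ¬ 3 ∣ Nat.card K := by
  intro h3
  haveI : Fact (Nat.Prime 3) := ⟨Nat.prime_three⟩
  haveI : Fact (Nat.Prime 7) := ⟨by norm_num⟩
  obtain ⟨a0, ha0⟩ := H.exists_seven
  obtain ⟨Q, a, ha, hQ⟩ := exists_seven_normalizing a0 ha0 K Subgroup.le_normalizer h7
    (fun g => by rw [Subgroup.normalizer_eq_top]; exact Subgroup.mem_top g) H.card
  set Q' := (Q : Subgroup K).map K.subtype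
  have hcQ : Nat.card Q' = Nat.card (Q : Subgroup K) := Subgroup.card_map_of_injective K.subtype_injective
  have hmod := card_modEq_one ha Q' hQ fun q hq hcomm => H.eq_one_of_fixed ha hcomm fun hd => by
    have := hd.trans ((Subgroup.orderOf_mk q hq).symm ▸ orderOf_dvd_natCard (⟨q, hq⟩ : Q'))
    rw [hcQ] at this
    exact h7 (this.trans (Subgroup.card_subgroup_dvd_card _))
  obtain ⟨k, hk⟩ := (IsPGroup.iff_card).1 Q.isPGroup'
  have hk3 : k ≤ 3 := by
    by_contra hcon
    have h81 : 3 ^ 4 ∣ Nat.card G := (pow_dvd_pow 3 (by omega : 4 ≤ k)).trans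
      (hk ▸ hcQ ▸ Subgroup.card_subgroup_dvd_card Q')
    rw [H.card] at h81
    norm_num at h81
  have hk0 : k ≠ 0 := by
    intro h0
    have h3' := Q.dvd_card_of_dvd_card h3
    rw [hk, h0] at h3'
    norm_num at h3'
  rw [hcQ, hk] at hmod
  interval_cases k <;> simp_all (config := { decide := true }) [Nat.ModEq]

/-- A normal subgroup of order prime to 7 is trivial. -/
theorem eq_bot_of_not_seven (K : Subgroup G) [K.Normal] (h7 : ¬ 7 ∣ Nat.card K) : K = ⊥ := by
  haveI : Fact (Nat.Prime 2) := ⟨Nat.prime_two⟩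
  haveI : Fact (Nat.Prime 7) := ⟨by norm_num⟩
  obtain ⟨f, hfm, hfi, hf7, hfN⟩ := H.exists_f
  set a := f (1, 0)
  have h3 := H.not_three_dvd K h7
  have hdvd : Nat.card K ∣ 2 ^ 6 := by
    have h : Nat.card K ∣ 2 ^ 6 * (3 ^ 3 * 7) := by
      have := Subgroup.card_subgroup_dvd_card K
      rw [H.card] at this
      simpa using this
    refine Nat.Coprime.dvd_of_dvd_mul_right ?_ h
    exact Nat.Coprime.mul_right (((Nat.prime_three.coprime_iff_not_dvd).2 h3).symm.pow_right 3)
      (((Nat.Prime.coprime_iff_not_dvd (by norm_num)).2 h7).symm)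
  have hfree : ∀ q ∈ K, a * q = q * a → q = 1 := fun q hq hc => H.eq_one_of_fixed hf7 hc fun hd =>
    h7 (hd.trans ((Subgroup.orderOf_mk q hq).symm ▸ orderOf_dvd_natCard (⟨q, hq⟩ : K)))
  have hmod := card_modEq_one hf7 K (fun q hq => Subgroup.Normal.conj_mem inferInstance q hq a) hfree
  obtain ⟨k, hk6, hk⟩ := (Nat.dvd_prime_pow Nat.prime_two).1 hdvd
  rw [hk] at hmod
  have hcases : k = 0 ∨ k = 3 ∨ k = 6 := by
    interval_cases k <;> simp_all (config := { decide := true }) [Nat.ModEq]
  rcases hcases with rfl | rfl | rfl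
  · exact Subgroup.card_eq_one.1 (by simpa using hk)
  · -- order 8
    exfalso
    let φ : G →* MulAut K := MulAut.conjNormal
    haveI hC : φ.ker.Normal := inferInstance
    let ψ : G →* Equiv.Perm K := (MulAut.toPerm K).comp φ
    have hψ : ψ.ker = φ.ker := by
      ext g
      simp only [MonoidHom.mem_ker, ψ, MonoidHom.comp_apply]
      constructor
      · intro h
        exact MulEquiv.ext fun x => Equiv.ext_iff.1 h x
      · intro h
        rw [h, map_one]
    have hC7 : ¬ 7 ∣ Nat.card φ.ker := by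
      intro h
      obtain ⟨⟨c, hc⟩, hco⟩ := exists_prime_orderOf_dvd_card' 7 h
      rw [Subgroup.orderOf_mk] at hco
      haveI : Nontrivial K := Finite.one_lt_card_iff_nontrivial.1 (by rw [hk]; norm_num)
      obtain ⟨⟨q, hq⟩, hne⟩ := exists_ne (1 : K)
      refine hne (Subtype.ext (H.eq_one_of_fixed hco ?_ fun hd =>
        h7 (hd.trans ((Subgroup.orderOf_mk q hq).symm ▸ orderOf_dvd_natCard (⟨q, hq⟩ : K)))))
      have h1 := MonoidHom.mem_ker.1 hc
      have h2 : ((φ c) ⟨q, hq⟩ : G) = q := by rw [h1]; rfl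
      replace h2 : c * q * c⁻¹ = q := h2
      exact mul_inv_eq_iff_eq_mul.1 h2
    have hC3 := H.not_three_dvd φ.ker hC7
    have h27 : 27 ∣ Nat.card ψ.range := by
      have h := ψ.ker.card_mul_index
      rw [Subgroup.index_ker, hψ, H.card] at h
      exact (Nat.Coprime.pow_left 3 ((Nat.prime_three.coprime_iff_not_dvd).2 hC3)).dvd_of_dvd_mul_left
        ⟨448, h⟩
    -- every permutation in the range fixes the neutral element
    have hfix : ψ.range ≤ MulAction.stabilizer (Equiv.Perm K) (1 : K) := by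
      rintro _ ⟨g, rfl⟩
      exact map_one (φ g)
    have hst := (Subgroup.card_dvd_of_le hfix)
    haveI : Fintype K := Fintype.ofFinite _
    have hidx : (MulAction.stabilizer (Equiv.Perm K) (1 : K)).index = 8 := by
      rw [MulAction.index_stabilizer, MulAction.orbit_eq_univ, Set.ncard_univ, hk]
      rfl
    have hcard := (MulAction.stabilizer (Equiv.Perm K) (1 : K)).card_mul_index
    rw [hidx, Nat.card_perm, hk] at hcard
    have h5040 : Nat.card (MulAction.stabilizer (Equiv.Perm K) (1 : K)) = 5040 := by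
      have : (2 ^ 3).factorial = 5040 * 8 := by decide
      omega
    rw [h5040] at hst
    have := h27.trans hst
    norm_num at this
  · -- order 64
    exfalso
    have h189 : Nat.card (G ⧸ K) = 189 := by
      have h := K.card_mul_index
      rw [hk, H.card] at h
      rw [← Subgroup.index_eq_card]
      omega
    have hn1 : Nat.card (Sylow 7 (G ⧸ K)) = 1 := by
      have h := Small.sylow_number_mem (p := 7) (k := 1) (m := 27) (G := G ⧸ K) (by rw [h189]; norm_num)
        (by norm_num)
      rwa [show (Nat.divisors 27).filter (fun d => d % 7 = 1) = {1} by decide +kernel,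
        Finset.mem_singleton] at h
    let π := QuotientGroup.mk' K
    have hai : orderOf (π a) = 7 := by
      have h := orderOf_map_dvd π a
      rw [hf7] at h
      refine ((Nat.dvd_prime (by norm_num : Nat.Prime 7)).1 h).resolve_left fun h1 => ?_
      have haK : a ∈ K := (QuotientGroup.eq_one_iff a).1 (orderOf_eq_one_iff.1 h1)
      exact h7 (hf7 ▸ (Subgroup.orderOf_mk a haK) ▸ orderOf_dvd_natCard (⟨a, haK⟩ : K))
    obtain ⟨P, hP⟩ := (IsPGroup.of_card (p := 7) (n := 1)
      (show Nat.card (Subgroup.zpowers (π a)) = 7 ^ 1 by rw [Nat.card_zpowers, hai, pow_one])).exists_le_sylow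
    haveI : Subsingleton (Sylow 7 (G ⧸ K)) := (Nat.card_eq_one_iff_unique.1 hn1).1
    have hPc : Nat.card (P : Subgroup (G ⧸ K)) = 7 :=
      (Small.sylow_card (k := 1) (m := 27) (by rw [h189]; norm_num) (by norm_num) P).trans (pow_one 7)
    have hPz : Subgroup.zpowers (π a) = (P : Subgroup (G ⧸ K)) :=
      Subgroup.eq_of_le_of_card_ge hP (by rw [hPc, Nat.card_zpowers, hai])
    haveI hL : ((P : Subgroup (G ⧸ K)).comap π).Normal := (P.normal_of_subsingleton).comap π
    set L := (P : Subgroup (G ⧸ K)).comap π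
    -- the conjugates of `a` by `G` are conjugates by `L`
    obtain ⟨S, hS⟩ := (IsPGroup.of_card (p := 7) (n := 1)
      (show Nat.card (Subgroup.zpowers a) = 7 ^ 1 by rw [Nat.card_zpowers, hf7, pow_one])).exists_le_sylow
    have hSc := ((H.card_sylow_seven).2 S).1
    have hSz : Subgroup.zpowers a = (S : Subgroup G) :=
      Subgroup.eq_of_le_of_card_ge hS (by rw [hSc, Nat.card_zpowers, hf7])
    have hSL : (S : Subgroup G) ≤ L := by
      rw [← hSz, Subgroup.zpowers_le]
      show π a ∈ (P : Subgroup (G ⧸ K))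
      rw [← hPz]
      exact Subgroup.mem_zpowers _
    have hsup := Sylow.normalizer_sup_eq_top (S.subtype hSL)
    have hmap : ((S.subtype hSL : Subgroup L).map L.subtype) = (S : Subgroup G) := by
      simp [Sylow.coe_subtype, Subgroup.map_subgroupOf_eq_of_le hSL]
    rw [hmap] at hsup
    have hrel : L.relIndex (Subgroup.normalizer ((S : Subgroup G) : Set G)) = L.index := by
      rw [← Subgroup.relIndex_sup_right, hsup, Subgroup.relIndex_top_right]
    have h42 := hrel ▸ Subgroup.relIndex_dvd_card L (Subgroup.normalizer ((S : Subgroup G) : Set G))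
    rw [((H.card_sylow_seven).2 S).2] at h42
    have hLi : L.index = 27 := by
      rw [Subgroup.index_comap_of_surjective _ (QuotientGroup.mk'_surjective K)]
      have h := (P : Subgroup (G ⧸ K)).card_mul_index
      rw [hPc, h189] at h
      omega
    rw [hLi] at h42
    norm_num at h42

theorem seven_le (K : Subgroup G) [K.Normal] (hK : K ≠ ⊥) (a : G) (ha : orderOf a = 7) : a ∈ K := by
  haveI : Fact (Nat.Prime 7) := ⟨by norm_num⟩
  have h7 : 7 ∣ Nat.card K := by
    by_contra h
    exact hK (H.eq_bot_of_not_seven K h)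
  obtain ⟨⟨b, hbK⟩, hb⟩ := exists_prime_orderOf_dvd_card' 7 h7
  rw [Subgroup.orderOf_mk] at hb
  have hsyl : ∀ c : G, orderOf c = 7 → ∃ S : Sylow 7 G, Subgroup.zpowers c = (S : Subgroup G) := by
    intro c hc
    obtain ⟨S, hS⟩ := (IsPGroup.of_card (p := 7) (n := 1)
      (show Nat.card (Subgroup.zpowers c) = 7 ^ 1 by rw [Nat.card_zpowers, hc, pow_one])).exists_le_sylow
    exact ⟨S, Subgroup.eq_of_le_of_card_ge hS (by rw [((H.card_sylow_seven).2 S).1, Nat.card_zpowers, hc])⟩
  obtain ⟨S, hS⟩ := hsyl a ha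
  obtain ⟨T, hT⟩ := hsyl b hb
  obtain ⟨g, rfl⟩ := MulAction.exists_smul_eq G T S
  have ha' : a ∈ ((g • T : Sylow 7 G) : Subgroup G) := hS ▸ Subgroup.mem_zpowers a
  obtain ⟨c, hc, hce⟩ := ha'
  have hcK : c ∈ K := Subgroup.zpowers_le.2 hbK (hT ▸ hc)
  rw [← hce]
  exact Subgroup.Normal.conj_mem inferInstance c hcK g

/-- A nontrivial normal subgroup contains the derived group. -/
theorem commutator_le (K : Subgroup G) [K.Normal] (hK : K ≠ ⊥) :
    commutator G ≤ K ∧ K.index ∣ 6 := by
  haveI : Fact (Nat.Prime 7) := ⟨by norm_num⟩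
  obtain ⟨f, hfm, hfi, hf7, hfN⟩ := H.exists_f
  have haK := H.seven_le K hK _ hf7
  obtain ⟨S, hS⟩ := (IsPGroup.of_card (p := 7) (n := 1)
    (show Nat.card (Subgroup.zpowers (f (1, 0))) = 7 ^ 1 by rw [Nat.card_zpowers, hf7, pow_one])).exists_le_sylow
  have hSz : Subgroup.zpowers (f (1, 0)) = (S : Subgroup G) :=
    Subgroup.eq_of_le_of_card_ge hS (by rw [((H.card_sylow_seven).2 S).1, Nat.card_zpowers, hf7])
  have hSK : (S : Subgroup G) ≤ K := hSz ▸ Subgroup.zpowers_le.2 haK
  have hsup := Sylow.normalizer_sup_eq_top (S.subtype hSK)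
  have hmap : ((S.subtype hSK : Subgroup K).map K.subtype) = (S : Subgroup G) := by
    simp [Sylow.coe_subtype, Subgroup.map_subgroupOf_eq_of_le hSK]
  rw [hmap] at hsup
  set y := f (0, 1)
  have hA : ∀ i : Fin 7, f (i, 0) ∈ K := by
    intro i
    have h : ∀ k : ℕ, f (Fin.ofNat 7 k, 0) ∈ K := by
      intro k
      induction k with
      | zero =>
        have h0 : f (Fin.ofNat 7 0, 0) = 1 := by
          have h := hfm ione ione
          rw [(imul_iinv ione).2.2.1] at h
          exact left_eq_mul.1 h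
        rw [h0]; exact one_mem K
      | succ k ih =>
        have e : (Fin.ofNat 7 (k + 1), (0 : Fin 6)) = imul (Fin.ofNat 7 k, 0) (1, 0) := by
          refine Prod.ext ?_ rfl
          show Fin.ofNat 7 (k + 1) = Fin.ofNat 7 k + mult 0 * 1
          rw [show mult 0 = 1 from rfl, one_mul]
          ext
          simp [Fin.val_add, Nat.add_mod]
        rw [e, hfm]
        exact mul_mem ih haK
    simpa using h i
  have htop : ∀ g : G, ∃ k ∈ K, ∃ j : ℕ, g = k * y ^ j := by
    intro g
    have hg : g ∈ Subgroup.normalizer ((S : Subgroup G) : Set G) ⊔ K := hsup ▸ Subgroup.mem_top g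
    rw [sup_comm, ← SetLike.mem_coe, Subgroup.normal_mul] at hg
    obtain ⟨k, hk, n, hn, rfl⟩ := hg
    obtain ⟨⟨i, j⟩, rfl⟩ := hfN n (by
      rw [hSz]
      exact (Subgroup.mem_normalizer_iff.1 hn _).1 (hSz ▸ Subgroup.mem_zpowers _))
    have hy : ∀ m : ℕ, f (0, Fin.ofNat 6 m) = y ^ m := by
      intro m
      induction m with
      | zero =>
        have h := hfm ione ione
        rw [(imul_iinv ione).2.2.1] at h
        simpa [ione] using left_eq_mul.1 h
      | succ m ih =>
        have e : ((0 : Fin 7), Fin.ofNat 6 (m + 1)) = imul (0, Fin.ofNat 6 m) (0, 1) := by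
          refine Prod.ext (by simp [imul]) ?_
          show Fin.ofNat 6 (m + 1) = Fin.ofNat 6 m + 1
          ext
          simp [Fin.val_add, Nat.add_mod]
        rw [e, hfm, ih, pow_succ]
    refine ⟨k * f (i, 0), mul_mem hk (hA i), j, ?_⟩
    rw [mul_assoc, ← hy, ← hfm]
    congr 2
    refine Prod.ext (by simp [imul]) ?_
    simp [imul]
  have hgen : ∀ q : G ⧸ K, q ∈ Subgroup.zpowers (QuotientGroup.mk' K y) := by
    intro q
    obtain ⟨g, rfl⟩ := QuotientGroup.mk'_surjective K q
    obtain ⟨k, hk, j, rfl⟩ := htop g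
    rw [map_mul, map_pow, show QuotientGroup.mk' K k = 1 from (QuotientGroup.eq_one_iff k).2 hk, one_mul]
    exact pow_mem (Subgroup.mem_zpowers _) j
  refine ⟨?_, ?_⟩
  · rw [commutator_def, Subgroup.commutator_le]
    intro g _ h _
    refine (QuotientGroup.eq_one_iff _).1 ?_
    show QuotientGroup.mk' K ⁅g, h⁆ = 1
    rw [map_commutatorElement, commutatorElement_eq_one_iff_mul_comm]
    obtain ⟨i, hi⟩ := Subgroup.mem_zpowers_iff.1 (hgen (QuotientGroup.mk' K g))
    obtain ⟨j, hj⟩ := Subgroup.mem_zpowers_iff.1 (hgen (QuotientGroup.mk' K h))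
    rw [← hi, ← hj, ← _root_.zpow_add, ← _root_.zpow_add, add_comm]
  · have htopq : Subgroup.zpowers (QuotientGroup.mk' K y) = ⊤ := eq_top_iff.2 fun q _ => hgen q
    rw [Subgroup.index_eq_card, ← Subgroup.card_top (G := G ⧸ K), ← htopq, Nat.card_zpowers]
    refine orderOf_dvd_of_pow_eq_one ?_
    rw [← map_pow, show y ^ 6 = 1 from ?_, map_one]
    have h1 : ∀ n : Idx, f n = 1 → n = ione := fun n hn => hfi (by
      have h := hfm ione ione
      rw [(imul_iinv ione).2.2.1] at h
      rw [hn, left_eq_mul.1 h])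
    have hp : ∀ m : ℕ, y ^ m = f (0, Fin.ofNat 6 m) := by
      intro m
      induction m with
      | zero =>
        have h := hfm ione ione
        rw [(imul_iinv ione).2.2.1] at h
        simpa [ione] using (left_eq_mul.1 h).symm
      | succ m ih =>
        rw [pow_succ, ih, ← hfm]
        congr 1
        refine Prod.ext (by simp [imul]) ?_
        show Fin.ofNat 6 m + 1 = Fin.ofNat 6 (m + 1)
        ext
        simp [Fin.val_add, Nat.add_mod]
    rw [hp 6]
    have h := hfm ione ione
    rw [(imul_iinv ione).2.2.1] at h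
    exact left_eq_mul.1 h

theorem commutator_ne_bot : commutator G ≠ ⊥ := by
  intro h
  obtain ⟨f, hfm, hfi, hf7, hfN⟩ := H.exists_f
  have hcomm : ∀ g h' : G, g * h' = h' * g := fun g h' => commutatorElement_eq_one_iff_mul_comm.1
    (Subgroup.mem_bot.1 (h ▸ Subgroup.commutator_mem_commutator (Subgroup.mem_top g) (Subgroup.mem_top h')))
  have hall : ∀ c : G, c ∈ Subgroup.zpowers (f (1, 0)) := fun c => H.commute_seven hf7 (hcomm _ _)
  have := Subgroup.card_le_of_le (show (⊤ : Subgroup G) ≤ Subgroup.zpowers (f (1, 0)) from fun c _ => hall c)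
  rw [Subgroup.card_top, H.card, Nat.card_zpowers, hf7] at this
  omega

theorem isSimple_commutator : IsSimpleGroup ↥(commutator G) := by
  haveI : Fact (Nat.Prime 7) := ⟨by norm_num⟩
  haveI : Fact (Nat.Prime 2) := ⟨Nat.prime_two⟩
  haveI : Fact (Nat.Prime 3) := ⟨Nat.prime_three⟩
  set D := commutator G
  haveI : Nontrivial D := (Subgroup.nontrivial_iff_ne_bot D).2 H.commutator_ne_bot
  refine ⟨fun M hM => ?_⟩
  haveI := hM
  by_cases hMb : M = ⊥
  · exact Or.inl hMb
  refine Or.inr ?_
  by_cases h7 : 7 ∣ Nat.card M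
  · -- the Frattini argument in `D`
    obtain ⟨⟨⟨a, haD⟩, haM⟩, ha⟩ := exists_prime_orderOf_dvd_card' 7 h7
    rw [Subgroup.orderOf_mk, Subgroup.orderOf_mk] at ha
    have hall : ∀ b : G, orderOf b = 7 → ∀ hbD : b ∈ D, (⟨b, hbD⟩ : D) ∈ M := by
      intro b hb hbD
      have hcard : ∀ S : Sylow 7 D, Nat.card (S : Subgroup D) ≤ 7 := by
        intro S
        obtain ⟨k, hk⟩ := IsPGroup.iff_card.1 S.isPGroup'
        have h1 : k ≤ 1 := by
          by_contra hcon
          have h49 : 7 ^ 2 ∣ Nat.card G := ((pow_dvd_pow 7 (by omega : 2 ≤ k)).trans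
            (hk ▸ Subgroup.card_subgroup_dvd_card _)).trans (Subgroup.card_subgroup_dvd_card D)
          rw [H.card] at h49
          norm_num at h49
        rw [hk]
        exact (Nat.pow_le_pow_right (by norm_num) h1).trans (by norm_num)
      have hsy : ∀ c : D, orderOf c = 7 → ∃ S : Sylow 7 D, Subgroup.zpowers c = (S : Subgroup D) := by
        intro c hc
        obtain ⟨S, hS⟩ := (IsPGroup.of_card (p := 7) (n := 1)
          (show Nat.card (Subgroup.zpowers c) = 7 ^ 1 by rw [Nat.card_zpowers, hc, pow_one])).exists_le_sylow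
        exact ⟨S, Subgroup.eq_of_le_of_card_ge hS (by rw [Nat.card_zpowers, hc]; exact hcard S)⟩
      obtain ⟨S, hS⟩ := hsy ⟨a, haD⟩ (by rw [Subgroup.orderOf_mk]; exact ha)
      obtain ⟨T, hT⟩ := hsy ⟨b, hbD⟩ (by rw [Subgroup.orderOf_mk]; exact hb)
      obtain ⟨g, rfl⟩ := MulAction.exists_smul_eq D S T
      have hb' : (⟨b, hbD⟩ : D) ∈ ((g • S : Sylow 7 D) : Subgroup D) := hT ▸ Subgroup.mem_zpowers _
      obtain ⟨c, hc, hce⟩ := hb'
      have hcM : c ∈ M := Subgroup.zpowers_le.2 haM (hS ▸ hc)
      rw [← hce]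
      exact hM.conj_mem c hcM g
    -- the subgroup generated by all elements of order 7
    let L : Subgroup G := Subgroup.closure {b : G | orderOf b = 7}
    haveI : L.Normal := by
      refine ⟨fun n hn g => ?_⟩
      induction hn using Subgroup.closure_induction with
      | mem x hx => exact Subgroup.subset_closure (((MulAut.conj g).orderOf_eq x).trans hx)
      | one => simp
      | mul x y _ _ hx hy => simpa [mul_assoc] using mul_mem hx hy
      | inv x _ hx => simpa [mul_assoc] using inv_mem hx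
    have hLD : L ≤ D := (Subgroup.closure_le _).2 fun b hb => H.seven_le D H.commutator_ne_bot b hb
    have hLM : L ≤ M.map D.subtype :=
      (Subgroup.closure_le _).2 fun b hb => ⟨_, hall b hb (hLD (Subgroup.subset_closure hb)), rfl⟩
    have hLb : L ≠ ⊥ := fun h => by
      have h1 : a ∈ L := Subgroup.subset_closure ha
      rw [h, Subgroup.mem_bot] at h1
      rw [h1, orderOf_one] at ha
      norm_num at ha
    refine eq_top_iff.2 fun d _ => ?_
    obtain ⟨x, hx, hxe⟩ := hLM ((H.commutator_le L hLb).1 d.2)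
    rwa [← Subtype.ext hxe]
  · -- a normal subgroup of order prime to 7
    exfalso
    set M' := M.map D.subtype
    have hM'c : Nat.card M' = Nat.card M := Subgroup.card_map_of_injective D.subtype_injective
    -- 3-part
    obtain ⟨f, hfm, hfi, hf7, hfN⟩ := H.exists_f
    have hfD : f (1, 0) ∈ D := H.seven_le D H.commutator_ne_bot _ hf7
    have h3 : ¬ 3 ∣ Nat.card M := by
      intro h3
      obtain ⟨Q⟩ : Nonempty (Sylow 3 M) := inferInstance
      have hsup := Sylow.normalizer_sup_eq_top Q
      set N3 := Subgroup.normalizer (((Q : Subgroup M).map M.subtype : Subgroup D) : Set D)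
      have h1 : M.relIndex N3 = M.index := by
        rw [← Subgroup.relIndex_sup_right, hsup, Subgroup.relIndex_top_right]
      have h2 : M.index ∣ Nat.card N3 := h1 ▸ Subgroup.relIndex_dvd_card M N3
      have h7D : 7 ∣ Nat.card M * M.index := by
        rw [M.card_mul_index, ← hf7, ← Subgroup.orderOf_mk _ hfD]
        exact orderOf_dvd_natCard _
      obtain ⟨⟨a, haN⟩, ha⟩ := exists_prime_orderOf_dvd_card' 7
        (((Nat.Prime.dvd_mul (by norm_num)).1 h7D).resolve_left h7 |>.trans h2)
      rw [Subgroup.orderOf_mk] at ha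
      set Q' := ((Q : Subgroup M).map M.subtype).map D.subtype
      have hQ'c : Nat.card Q' = Nat.card (Q : Subgroup M) := by
        rw [Subgroup.card_map_of_injective D.subtype_injective,
          Subgroup.card_map_of_injective M.subtype_injective]
      have hmod := card_modEq_one (show orderOf (a : G) = 7 by rw [Subgroup.orderOf_coe]; exact ha) Q' (by
          rintro _ ⟨q, hq, rfl⟩
          exact ⟨a * q * a⁻¹, (Subgroup.mem_normalizer_iff.1 haN q).1 hq, rfl⟩)
        fun q hq hcomm => H.eq_one_of_fixed (by rw [Subgroup.orderOf_coe]; exact ha) hcomm fun hd => by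
          have := hd.trans ((Subgroup.orderOf_mk q hq).symm ▸ orderOf_dvd_natCard (⟨q, hq⟩ : Q'))
          rw [hQ'c] at this
          exact h7 (this.trans (Subgroup.card_subgroup_dvd_card _))
      obtain ⟨k, hk⟩ := (IsPGroup.iff_card).1 Q.isPGroup'
      have hk3 : k ≤ 3 := by
        by_contra hcon
        have h81 : 3 ^ 4 ∣ Nat.card G := (pow_dvd_pow 3 (by omega : 4 ≤ k)).trans
          (hk ▸ hQ'c ▸ Subgroup.card_subgroup_dvd_card Q')
        rw [H.card] at h81
        norm_num at h81
      have hk0 : k ≠ 0 := by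
        intro h0
        have h3' := Q.dvd_card_of_dvd_card h3
        rw [hk, h0] at h3'
        norm_num at h3'
      rw [hQ'c, hk] at hmod
      interval_cases k <;> simp_all (config := { decide := true }) [Nat.ModEq]
    have h2g : IsPGroup 2 M := by
      have hdvd : Nat.card M ∣ 2 ^ 6 * (3 ^ 3 * 7) := by
        have := (Subgroup.card_subgroup_dvd_card M).trans (Subgroup.card_subgroup_dvd_card D)
        rw [H.card] at this
        simpa using this
      have := Nat.Coprime.dvd_of_dvd_mul_right
        (Nat.Coprime.mul_right (((Nat.prime_three.coprime_iff_not_dvd).2 h3).symm.pow_right 3)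
          (((Nat.Prime.coprime_iff_not_dvd (by norm_num)).2 h7).symm)) hdvd
      obtain ⟨k, -, hk⟩ := (Nat.dvd_prime_pow Nat.prime_two).1 this
      exact IsPGroup.of_card hk
    -- the intersection of the Sylow 2-subgroups of `D` is characteristic
    set R : Subgroup D := ⨅ P : Sylow 2 D, (P : Subgroup D)
    have hMR : M ≤ R := le_iInf fun P => by
      obtain ⟨P₀, hP₀⟩ := h2g.exists_le_sylow
      obtain ⟨g, rfl⟩ := MulAction.exists_smul_eq D P₀ P
      intro x hx
      exact ⟨g⁻¹ * x * g, hP₀ (by simpa using hM.conj_mem x hx g⁻¹), by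
        show g * (g⁻¹ * x * g) * g⁻¹ = x
        group⟩
    haveI hRc : R.Characteristic := Subgroup.characteristic_iff_map_le.2 fun φ => le_iInf fun P => by
      have hle : R ≤ (P.comapOfInjective φ.toMonoidHom φ.injective
          (by rw [MonoidHom.range_eq_top.2 φ.surjective]; exact le_top) : Subgroup D) :=
        iInf_le (fun Q : Sylow 2 D => (Q : Subgroup D)) _
      rw [Subgroup.map_le_iff_le_comap]
      exact hle
    haveI : (R.map D.subtype).Normal := ConjAct.normal_of_characteristic_of_normal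
    obtain ⟨P⟩ : Nonempty (Sylow 2 D) := inferInstance
    have h7R : ¬ 7 ∣ Nat.card (R.map D.subtype) := by
      rw [Subgroup.card_map_of_injective D.subtype_injective]
      intro h
      obtain ⟨k, hk⟩ := IsPGroup.iff_card.1 P.isPGroup'
      have h' := h.trans (Subgroup.card_dvd_of_le (iInf_le (fun Q : Sylow 2 D => (Q : Subgroup D)) P))
      rw [hk] at h'
      have := (Nat.prime_dvd_prime_iff_eq (by norm_num) Nat.prime_two).1
        ((show Nat.Prime 7 by norm_num).dvd_of_dvd_pow h')
      omega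
    have hR := H.eq_bot_of_not_seven _ h7R
    rw [Subgroup.map_eq_bot_iff_of_injective _ D.subtype_injective] at hR
    exact hMb (eq_bot_iff.2 (hR ▸ hMR))

theorem index_commutator : (commutator G).index = 1 ∨ (commutator G).index = 2 := by
  haveI := H.isSimple_commutator
  have h6 := (H.commutator_le _ H.commutator_ne_bot).2
  have hc := (commutator G).card_mul_index
  rw [H.card] at hc
  have hmem : (commutator G).index ∈ Nat.divisors 6 := Nat.mem_divisors.2 ⟨h6, by norm_num⟩
  rw [show Nat.divisors 6 = {1, 2, 3, 6} by decide +kernel] at hmem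
  simp only [Finset.mem_insert, Finset.mem_singleton] at hmem
  rcases hmem with h | h | h | h
  · exact Or.inl h
  · exact Or.inr h
  · exact absurd (show Nat.card ↥(commutator G) = 4032 by rw [h] at hc; omega) Cfsg.Agent.S0976.result
  · exact absurd (show Nat.card ↥(commutator G) = 2016 by rw [h] at hc; omega) Cfsg.Agent.S1017.result

end Hyp

end Cfsg.Agent.G22Rec
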