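import Cfsg.Agent.Lib.G22Rec.Perfect

/-!
The principal block of the derived group of order 6048.
-/

set_option autoImplicit false
set_option linter.unusedSectionVars false
set_option linter.style.haveILetI false
set_option maxHeartbeats 1000000

namespace Cfsg.Agent.G22Rec

open Cfsg Cfsg.Agent.Char Cfsg.Agent.Blocks Cfsg.Agent.SmallN Cfsg.Agent.BrauerPairs
open scoped ComplexConjugate commutatorElement

universe u

theorem half_deg : ∀ d < 78, d ∣ 6048 → (d % 7 = 1 ∨ d % 7 = 6) →
    d = 1 ∨ d = 6 ∨ d = 8 ∨ d = 27 ∨ d = 36 ∨ d = 48 := by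
  decide +kernel

theorem half_exc : ∀ d < 55, d ∣ 6048 → (d % 7 = 3 ∨ d % 7 = 4) →
    d = 3 ∨ d = 4 ∨ d = 18 ∨ d = 24 ∨ d = 32 := by
  decide +kernel

theorem half_solve : ∀ b ∈ ([-6, 8, -27, 36, -48] : List ℤ), ∀ c ∈ ([-6, 8, -27, 36, -48] : List ℤ),
    ∀ t ∈ ([-3, 4, 18, -24, 32] : List ℤ), 1 + b + c + t = 0 →
      (b = -6 ∧ c ≠ -6 ∧ (t = -3 ∨ t = 32)) ∨ (c = -6 ∧ b ≠ -6 ∧ (t = -3 ∨ t = 32)) ∨
        (b = 8 ∧ c = -27 ∧ t = 18) ∨ (b = -27 ∧ c = 8 ∧ t = 18) := by
  decide +kernel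

open scoped Classical

variable {K : Type u} [Group K] [Fintype K]

theorem real_of_unique {χ : IrrCharacter K}
    (huniq : ∀ ψ : IrrCharacter K, charDegree (ψ : K → ℂ) = charDegree (χ : K → ℂ) → ψ = χ) (g : K) :
    conj ((χ : K → ℂ) g) = (χ : K → ℂ) g := by
  let ψ : IrrCharacter K := ⟨fun h => conj ((χ : K → ℂ) h), IsIrrCharacter.conj χ.2⟩
  have hd : charDegree (ψ : K → ℂ) = charDegree (χ : K → ℂ) := by
    have h : ((charDegree (ψ : K → ℂ) : ℕ) : ℂ) = (charDegree (χ : K → ℂ) : ℂ) := by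
      rw [← irr_one_eq_charDegree]
      show conj ((χ : K → ℂ) 1) = _
      rw [irr_one_eq_charDegree, Complex.conj_natCast]
    exact_mod_cast h
  exact congrFun (congrArg (fun φ : IrrCharacter K => (φ : K → ℂ)) (huniq ψ hd)) g

/-- Degrees `1, 8, 27` and `18, 18` are impossible. -/
theorem no_case_B [IsSimpleGroup K] (hperf : commutator K = ⊤) (hK : Nat.card K = 6048) {a : K}
    (ha : a ≠ 1) {V : Subgroup K} {X Y : Finset (IrrCharacter K)} {δ : ℤ} {sg : IrrCharacter K → ℤ}
    (B : PBlock 7 (Subgroup.zpowers a) V 3 X Y δ sg) (hV : Nat.card V = 1) (hδ : δ = 1)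
    {b c θ : IrrCharacter K} (hX : X = {principal K, b, c}) (hpb : principal K ≠ b)
    (hpc : principal K ≠ c) (hbc : b ≠ c) (hb : charDegree (b : K → ℂ) = 8) (hbs : sg b = 1)
    (hc : charDegree (c : K → ℂ) = 27) (hcs : sg c = -1) (hθ : θ ∈ Y) (hθd : charDegree (θ : K → ℂ) = 18) :
    False := by
  haveI : Fact (Nat.Prime 3) := ⟨Nat.prime_three⟩
  obtain ⟨Q⟩ : Nonempty (Sylow 3 K) := inferInstance
  have hQ : Nat.card (Q : Subgroup K) = 27 :=
    (Small.sylow_card (k := 3) (m := 224) (by rw [hK]; norm_num) (by norm_num) Q).trans (by norm_num)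
  haveI : Nontrivial (Q : Subgroup K) := Finite.one_lt_card_iff_nontrivial.1 (by rw [hQ]; norm_num)
  have hZ : 3 ∣ Nat.card (Subgroup.center (Q : Subgroup K)) := by
    haveI := IsPGroup.center_nontrivial Q.isPGroup'
    obtain ⟨k, hk⟩ := IsPGroup.iff_card.1 (Q.isPGroup'.to_subgroup (Subgroup.center (Q : Subgroup K)))
    rcases k with _ | k
    · exfalso
      have h1 : 1 < Nat.card (Subgroup.center (Q : Subgroup K)) := Finite.one_lt_card
      omega
    · exact ⟨3 ^ k, by rw [hk]; ring⟩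
  obtain ⟨⟨⟨z, hzQ⟩, hzc⟩, hzo⟩ := exists_prime_orderOf_dvd_card' 3 hZ
  rw [Subgroup.orderOf_mk, Subgroup.orderOf_mk] at hzo
  set C := Nat.card (Subgroup.centralizer ({z} : Set K))
  have h27 : 27 ∣ C := by
    rw [← hQ]
    refine Subgroup.card_dvd_of_le fun q hq => ?_
    rw [Subgroup.mem_centralizer_singleton_iff]
    exact congrArg Subtype.val (Subgroup.mem_center_iff.1 hzc ⟨q, hq⟩)
  have hidx : C * (Subgroup.centralizer ({z} : Set K)).index = 6048 := by
    rw [Subgroup.card_mul_index, hK]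
  have hθdeg : ∀ ψ ∈ Y, charDegree (ψ : K → ℂ) = 18 := fun ψ hψ => by
    have h := B.deg_Y hψ hθ
    rw [irr_one_eq_charDegree, irr_one_eq_charDegree] at h
    rw [← hθd]
    exact_mod_cast h
  have huniq : ∀ χ : IrrCharacter K, (χ = b ∨ χ = c) → ∀ ψ : IrrCharacter K,
      charDegree (ψ : K → ℂ) = charDegree (χ : K → ℂ) → ψ = χ := by
    intro χ hχ ψ hψ
    have h7 : ¬ 7 ∣ charDegree (ψ : K → ℂ) := by
      rw [hψ]; rcases hχ with rfl | rfl
      · rw [hb]; norm_num
      · rw [hc]; norm_num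
    rcases deg_not_dvd B hV ψ h7 with h | h
    · rw [hX] at h
      simp only [Finset.mem_insert, Finset.mem_singleton] at h
      rcases h with rfl | rfl | rfl
      · have hp1 : charDegree (principal K : K → ℂ) = 1 := by simp [Cfsg.charDegree, principal]
        rcases hχ with rfl | rfl <;> omega
      · rcases hχ with rfl | rfl
        · rfl
        · omega
      · rcases hχ with rfl | rfl
        · omega
        · rfl
    · have := hθdeg ψ h
      rcases hχ with rfl | rfl <;> omega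
  obtain ⟨u, hu, hu1, hu2, hu3⟩ := value_three (IsIrrCharacter.isCharacter b.2) hzo
    (irr_one_eq_charDegree b) (real_of_unique (huniq b (Or.inl rfl)) z)
  obtain ⟨v, hv, hv1, hv2, hv3⟩ := value_three (IsIrrCharacter.isCharacter c.2) hzo
    (irr_one_eq_charDegree c) (real_of_unique (huniq c (Or.inr rfl)) z)
  rw [hb] at hu1 hu2 hu3
  rw [hc] at hv1 hv2 hv3
  have hz1 : z ≠ 1 := fun h => by rw [h, orderOf_one] at hzo; norm_num at hzo
  have hu8 : u ≠ 8 := fun h => hz1 (faithful_of_simple hperf (Ne.symm hpb) (by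
    rw [hu, h, irr_one_eq_charDegree, hb]; norm_num))
  have hv27 : v ≠ 27 := fun h => hz1 (faithful_of_simple hperf (Ne.symm hpc) (by
    rw [hv, h, irr_one_eq_charDegree, hc]; norm_num))
  have hv0 : v = 0 := by
    have hint := IsIrrCharacter.isIntegral_centralChar c.2 z
    rw [hv, irr_one_eq_charDegree, hc] at hint
    obtain ⟨k, hk⟩ := exists_int_of_isIntegral
      (q := (((Subgroup.centralizer ({z} : Set K)).index : ℚ) * (v : ℚ) / 27)) (by push_cast at hint ⊢; exact hint)
    have hk' : ((Subgroup.centralizer ({z} : Set K)).index : ℤ) * v = 27 * k := by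
      have : ((Subgroup.centralizer ({z} : Set K)).index : ℚ) * (v : ℚ) = 27 * k := by
        rw [← hk]; ring
      exact_mod_cast this
    obtain ⟨m, hm⟩ := h27
    have hz : (C : ℤ) * ((Subgroup.centralizer ({z} : Set K)).index : ℤ) = 6048 := by exact_mod_cast hidx
    have hm' : (C : ℤ) = 27 * m := by exact_mod_cast hm
    have : 224 * v = 27 * ((m : ℤ) * k) := by
      have : 27 * (224 * v) = 27 * (27 * ((m : ℤ) * k)) := by
        linear_combination (C : ℤ) * hk' - v * hz + 27 * k * hm'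
      linarith
    omega
  have hp : principal K ∈ X := hX ▸ Finset.mem_insert_self _ _
  have h7z : ¬ 7 ∣ orderOf z := by rw [hzo]; norm_num
  have ht : (θ : K → ℂ) z = ((-1 - u : ℤ) : ℂ) := by
    have h := B.relation z h7z θ hθ
    rw [hX, Finset.sum_insert (by simp [hpb, hpc]), Finset.sum_pair hbc, B.sign_principal hp, hbs, hcs, hδ,
      hu, hv, hv0, show ((principal K : IrrCharacter K) : K → ℂ) z = 1 from rfl] at h
    push_cast at h ⊢
    linear_combination h
  have h := pairsCount_eq z a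
  rw [hK, Finset.sum_congr rfl (g := fun χ : IrrCharacter K =>
    ((χ : K → ℂ) z ^ 2 / (χ : K → ℂ) 1) * conj ((χ : K → ℂ) a)) fun χ _ => by ring,
    sum_block_conj B hV ha, hX, Finset.sum_insert (by simp [hpb, hpc]), Finset.sum_pair hbc,
    B.sign_principal hp, hbs, hcs, hu, hv, hv0, irr_one_eq_charDegree b, irr_one_eq_charDegree c, hb, hc,
    show ((principal K : IrrCharacter K) : K → ℂ) z = 1 from rfl,
    show ((principal K : IrrCharacter K) : K → ℂ) 1 = 1 from rfl,
    Finset.sum_congr rfl fun ψ hψ => by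
      rw [B.agree ψ hψ θ hθ z h7z, ht, irr_one_eq_charDegree, hθdeg ψ hψ],
    ← Finset.mul_sum, ← map_sum, B.col_Y hV (Subgroup.mem_zpowers a) ha, hδ] at h
  obtain ⟨m, hm⟩ := h27
  have hCi : (C : ℂ) * ((Subgroup.centralizer ({z} : Set K)).index : ℂ) = 6048 := by exact_mod_cast hidx
  have hE : ((pairsCount z a : ℂ)) * ((C : ℂ) * C) =
      6048 + 756 * (u : ℂ) ^ 2 + 336 * (-1 - (u : ℂ)) ^ 2 := by
    have h' : (6048 : ℂ) * (pairsCount z a : ℂ) * ((C : ℂ) * C) =
        ((C : ℂ) * ((Subgroup.centralizer ({z} : Set K)).index : ℂ)) ^ 2 *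
          (1 + (u : ℂ) ^ 2 / 8 + (-1 - (u : ℂ)) ^ 2 / 18) := by
      push_cast at h
      simp only [map_one] at h
      linear_combination ((C : ℂ) * C) * h
    rw [hCi] at h'
    linear_combination h' / 6048
  have hE' : (pairsCount z a : ℤ) * ((C : ℤ) * C) = 6048 + 756 * u ^ 2 + 336 * (-1 - u) ^ 2 := by
    exact_mod_cast hE
  have hm' : (C : ℤ) = 27 * m := by exact_mod_cast hm
  have hM : (pairsCount z a : ℤ) * ((C : ℤ) * C) = 729 * ((pairsCount z a : ℤ) * (m * m)) := by
    rw [hm']; ring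
  rw [hM] at hE'
  have hcases : u = -4 ∨ u = -1 ∨ u = 2 ∨ u = 5 := by omega
  generalize (pairsCount z a : ℤ) * (m * m) = M at hE'
  rcases hcases with rfl | rfl | rfl | rfl <;> norm_num at hE' <;> omega

/-- The character of degree 6. -/
theorem exists_phi [IsSimpleGroup K] (hK : Nat.card K = 6048) {a : K} (ha : orderOf a = 7)
    (hC : ∀ c : K, a * c = c * a → c ∈ Subgroup.zpowers a) :
    ∃ φ : IrrCharacter K, charDegree (φ : K → ℂ) = 6 ∧
      (∀ y ∈ Subgroup.zpowers a, y ≠ 1 → (φ : K → ℂ) y = -1) ∧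
      ∀ ψ : IrrCharacter K, charDegree (ψ : K → ℂ) = 6 → ψ = φ := by
  haveI : Fact (Nat.Prime 7) := ⟨by norm_num⟩
  have ha1 : a ≠ 1 := fun h => by rw [h, orderOf_one] at ha; norm_num at ha
  have h49 : ¬ 49 ∣ Nat.card K := by rw [hK]; norm_num
  have hperf : commutator K = ⊤ := by
    refine (IsSimpleGroup.eq_bot_or_eq_top_of_normal _ inferInstance).resolve_left fun h => ?_
    have hle : (⊤ : Subgroup K) ≤ Subgroup.zpowers a := fun c _ => hC c
      (commutatorElement_eq_one_iff_mul_comm.1 (Subgroup.mem_bot.1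
        (h ▸ Subgroup.commutator_mem_commutator (Subgroup.mem_top a) (Subgroup.mem_top c))))
    have := Subgroup.card_le_of_le hle
    rw [Subgroup.card_top, hK, Nat.card_zpowers, ha] at this
    omega
  obtain ⟨V, e, X, Y, δ, sg, B, hV⟩ := exists_block ha h49 hC
  have he : e = 3 := by
    obtain ⟨S, hS⟩ := (IsPGroup.of_card (p := 7) (n := 1)
      (show Nat.card (Subgroup.zpowers a) = 7 ^ 1 by rw [Nat.card_zpowers, ha, pow_one])).exists_le_sylow
    have hSc := (Small.sylow_card (p := 7) (k := 1) (m := 864) (by rw [hK]; norm_num) (by norm_num) S).trans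
      (pow_one 7)
    have hSz : Subgroup.zpowers a = (S : Subgroup K) :=
      Subgroup.eq_of_le_of_card_ge hS (by rw [hSc, Nat.card_zpowers, ha])
    have hmem := Small.sylow_number_mem (p := 7) (k := 1) (m := 864) (G := K) (by rw [hK]; norm_num) (by norm_num)
    have hmul := Small.card_normalizer_mul S
    rw [← hSz, B.cardN, hV, hK] at hmul
    obtain ⟨hn, hn7⟩ := Finset.mem_filter.1 hmem
    have he6 : e ∣ 6 := ⟨Y.card, by have := B.cardY; rw [mul_comm]; omega⟩
    have hle : e ≤ 6 := Nat.le_of_dvd (by norm_num) he6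
    interval_cases e <;> omega
  subst he
  have hY : Y.card = 2 := by have := B.cardY; omega
  obtain ⟨θ, hθ⟩ := B.nonempty
  have hp : principal K ∈ X := B.prin.resolve_right fun h => by
    have := B.single h
    rw [this, Finset.card_singleton] at hY
    omega
  obtain ⟨b, c, hbc, hbcX⟩ := Finset.card_eq_two.1
    (show (X.erase (principal K)).card = 2 by rw [Finset.card_erase_of_mem hp, B.cardX])
  have hbm : b ∈ X.erase (principal K) := hbcX ▸ by simp
  have hcm : c ∈ X.erase (principal K) := hbcX ▸ by simp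
  obtain ⟨hbp, hbX⟩ := Finset.mem_erase.1 hbm
  obtain ⟨hcp, hcX⟩ := Finset.mem_erase.1 hcm
  have hX : X = {principal K, b, c} := by rw [← Finset.insert_erase hp, hbcX]
  have hp1 : charDegree (principal K : K → ℂ) = 1 := by simp [Cfsg.charDegree, principal]
  have hsq := sum_deg_sq_le (X ∪ Y)
  rw [Finset.sum_union B.disj, hK, hX, Finset.sum_insert (by simp [hbp.symm, hcp.symm]),
    Finset.sum_pair hbc, hp1,
    Finset.sum_congr rfl (g := fun _ => charDegree (θ : K → ℂ) ^ 2) fun ψ hψ => by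
      have h := B.deg_Y hψ hθ
      rw [irr_one_eq_charDegree, irr_one_eq_charDegree] at h
      rw [Nat.cast_inj.1 h],
    Finset.sum_const, hY, smul_eq_mul] at hsq
  have hXdeg : ∀ χ ∈ X, χ ≠ principal K →
      (sg χ * (charDegree (χ : K → ℂ) : ℤ)) ∈ ([-6, 8, -27, 36, -48] : List ℤ) := by
    intro χ hχ hne
    have hd : charDegree (χ : K → ℂ) ∣ 6048 := hK ▸ charDegree_dvd_card χ
    have hlt : charDegree (χ : K → ℂ) < 78 := by
      have h := sum_deg_sq_le ({χ} : Finset (IrrCharacter K))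
      rw [Finset.sum_singleton, hK] at h
      nlinarith
    have hm : (charDegree (χ : K → ℂ) : ℤ) % 7 = sg χ % 7 := B.modX χ hχ
    have h1 : charDegree (χ : K → ℂ) ≠ 1 := fun h => hne (eq_principal_of_deg_one hperf h)
    rcases B.signX χ hχ with h | h <;> rw [h] at hm ⊢ <;>
      rcases half_deg _ hlt hd (by omega) with h' | h' | h' | h' | h' | h' <;> rw [h'] at hm h1 ⊢ <;>
      first | omega | simp
  have hYdeg : δ * (charDegree (θ : K → ℂ) : ℤ) ∈ ([-3, 4, 18, -24, 32] : List ℤ) := by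
    have hd : charDegree (θ : K → ℂ) ∣ 6048 := hK ▸ charDegree_dvd_card θ
    have hm : (charDegree (θ : K → ℂ) : ℤ) % 7 = (-(δ * 3)) % 7 := B.modY θ hθ
    have hlt : charDegree (θ : K → ℂ) < 55 := by nlinarith
    rcases B.sign with h | h <;> rw [h] at hm ⊢ <;>
      rcases half_exc _ hlt hd (by omega) with h' | h' | h' | h' | h' <;> rw [h'] at hm ⊢ <;>
      first | omega | simp
  have hrel := B.relation_one hθ
  rw [hX, Finset.sum_insert (by simp [hbp.symm, hcp.symm]), Finset.sum_pair hbc, B.sign_principal hp, hp1]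
    at hrel
  have hsol := half_solve _ (hXdeg b hbX hbp) _ (hXdeg c hcX hcp) _ hYdeg (by push_cast at hrel; linarith)
  have hfin : ∀ b c : IrrCharacter K, b ∈ X → c ∈ X → X = {principal K, b, c} →
      sg b * (charDegree (b : K → ℂ) : ℤ) = -6 → sg c * (charDegree (c : K → ℂ) : ℤ) ≠ -6 →
      (δ * (charDegree (θ : K → ℂ) : ℤ) = -3 ∨ δ * (charDegree (θ : K → ℂ) : ℤ) = 32) →
      ∃ φ : IrrCharacter K, charDegree (φ : K → ℂ) = 6 ∧
        (∀ y ∈ Subgroup.zpowers a, y ≠ 1 → (φ : K → ℂ) y = -1) ∧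
        ∀ ψ : IrrCharacter K, charDegree (ψ : K → ℂ) = 6 → ψ = φ := by
    intro b c hbX hcX hX hb hc hθ'
    have hsb : sg b = -1 ∧ charDegree (b : K → ℂ) = 6 := by
      rcases B.signX b hbX with h | h <;> rw [h] at hb
      · omega
      · exact ⟨h, by omega⟩
    refine ⟨b, hsb.2, fun y hy hy1 => by rw [B.valX b hbX y hy hy1, hsb.1]; norm_num, fun ψ hψ => ?_⟩
    rcases deg_not_dvd B hV ψ (by rw [hψ]; norm_num) with h | h
    · rw [hX] at h
      simp only [Finset.mem_insert, Finset.mem_singleton] at h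
      rcases h with rfl | rfl | rfl
      · omega
      · rfl
      · exfalso
        have hm : (charDegree (ψ : K → ℂ) : ℤ) % 7 = sg ψ % 7 := B.modX ψ hcX
        rcases B.signX ψ hcX with h' | h' <;> rw [h'] at hm hc <;> omega
    · exfalso
      have := B.deg_Y h hθ
      rw [irr_one_eq_charDegree, irr_one_eq_charDegree] at this
      have h' : charDegree (ψ : K → ℂ) = charDegree (θ : K → ℂ) := by exact_mod_cast this
      rcases B.sign with hs | hs <;> rw [hs] at hθ' <;> omega
  have hX' : X = {principal K, c, b} := by rw [hX, Finset.pair_comm]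
  have hB : ∀ b c : IrrCharacter K, b ∈ X → c ∈ X → X = {principal K, b, c} → principal K ≠ b →
      principal K ≠ c → b ≠ c → sg b * (charDegree (b : K → ℂ) : ℤ) = 8 →
      sg c * (charDegree (c : K → ℂ) : ℤ) = -27 → δ * (charDegree (θ : K → ℂ) : ℤ) = 18 → False := by
    intro b c hbX hcX hX hpb hpc hbc hb hc ht
    have h1 : sg b = 1 ∧ charDegree (b : K → ℂ) = 8 := by
      rcases B.signX b hbX with h | h <;> rw [h] at hb <;> constructor <;> omega
    have h2 : sg c = -1 ∧ charDegree (c : K → ℂ) = 27 := by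
      rcases B.signX c hcX with h | h <;> rw [h] at hc <;> constructor <;> omega
    have h3 : δ = 1 ∧ charDegree (θ : K → ℂ) = 18 := by
      rcases B.sign with h | h <;> rw [h] at ht <;> constructor <;> omega
    exact no_case_B hperf hK ha1 B hV h3.1 hX hpb hpc hbc h1.2 h1.1 h2.2 h2.1 hθ h3.2
  rcases hsol with ⟨h1, h2, h3⟩ | ⟨h1, h2, h3⟩ | ⟨h1, h2, h3⟩ | ⟨h1, h2, h3⟩
  · exact hfin b c hbX hcX hX h1 h2 h3
  · exact hfin c b hcX hbX hX' h1 h2 h3
  · exact (hB b c hbX hcX hX hbp.symm hcp.symm hbc h1 h2 h3).elim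
  · exact (hB c b hcX hbX hX' hcp.symm hbp.symm hbc.symm h2 h1 h3).elim

end Cfsg.Agent.G22Rec
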