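import Cfsg.Agent.Lib.G22Rec.Derived
import Cfsg.Agent.Lib.SmallN.ThreePrimes.Block
import Cfsg.Agent.Lib.SmallN.Tools
import Cfsg.Agent.Lib.SmallN.Props
import Cfsg.Agent.Lib.SmallN.ThreePrimes.Bound
import Cfsg.Agent.Lib.Char.Degree

/-!
Character values on `7 : 6` and on elements of order 3.
-/

set_option autoImplicit false
set_option linter.unusedSectionVars false
set_option linter.style.haveILetI false

namespace Cfsg.Agent.G22Rec

open Cfsg Cfsg.Agent.Char Cfsg.Agent.Blocks Cfsg.Agent.SmallN Cfsg.Agent.BrauerPairs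
open scoped ComplexConjugate Classical

universe u

variable {G : Type u} [Group G] [Fintype G]

theorem conj_exists : ∀ (i : Fin 7) (j : Fin 6), j ≠ 0 →
    ∃ k : Fin 7, imul (imul (k, 0) (0, j)) (iinv (k, 0)) = (i, j) := by
  decide +kernel

theorem fpow_idx : ∀ (i : Fin 7) (j : Fin 6), imul (i, 0) (1, 0) = (i + 1, 0) ∧
    imul (0, j) (i, 0) = (mult j * i, j) := by
  decide +kernel

theorem mem_normalizer_of_forall_conj {g : G} {A : Subgroup G} (h : ∀ y ∈ A, g * y * g⁻¹ ∈ A) :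
    g ∈ Subgroup.normalizer (A : Set G) := by
  have hmap : A.map (MulAut.conj g).toMonoidHom = A :=
    Subgroup.eq_of_le_of_card_ge (by rintro _ ⟨y, hy, rfl⟩; exact h y hy)
      (le_of_eq (Nat.card_congr (A.equivMapOfInjective _ (MulAut.conj g).injective).toEquiv))
  refine Subgroup.mem_normalizer_iff.2 fun y => ⟨h y, fun hy => ?_⟩
  rw [← hmap] at hy
  obtain ⟨z, hz, e⟩ := hy
  obtain rfl : z = y := (MulAut.conj g).injective e
  exact hz

/-- A character takes integral values on an involution. -/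
theorem value_two {H : Type u} [Group H] [Fintype H] {χ : H → ℂ} (hχ : IsCharacter H χ)
    {x : H} (hx : orderOf x = 2) {k : ℕ} (hk : χ 1 = k) : ∃ m : ℕ, χ x = 2 * (m : ℂ) - k := by
  haveI : Fintype (Subgroup.zpowers x) := Fintype.ofFinite _
  obtain ⟨m, hm⟩ := sum_nat (IsCharacter.restrict hχ (Subgroup.zpowers x))
  refine ⟨m, ?_⟩
  have hne : (⟨x, Subgroup.mem_zpowers x⟩ : Subgroup.zpowers x) ≠ 1 := fun h => by
    rw [show x = 1 from congrArg Subtype.val h, orderOf_one] at hx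
    norm_num at hx
  have huniv : (Finset.univ : Finset (Subgroup.zpowers x)) = {1, ⟨x, Subgroup.mem_zpowers x⟩} := by
    refine (Finset.eq_univ_of_card _ ?_).symm
    rw [Finset.card_pair hne.symm, ← Nat.card_eq_fintype_card, Nat.card_zpowers, hx]
  rw [huniv, Finset.sum_pair hne.symm, Nat.card_zpowers, hx] at hm
  simp only [OneMemClass.coe_one, hk] at hm
  push_cast at hm
  linear_combination hm

section Model

variable {f : Idx → G} (hf : ∀ n m, f (imul n m) = f n * f m)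
include hf

theorem f_ione : f ione = 1 := by
  have h := hf ione ione
  rw [(imul_iinv ione).2.2.1] at h
  exact left_eq_mul.1 h

theorem f_iinv (n : Idx) : f (iinv n) = (f n)⁻¹ :=
  eq_inv_of_mul_eq_one_left (by rw [← hf, (imul_iinv n).2.1, f_ione hf])

theorem f_row (i : Fin 7) : f (i, 0) = f (1, 0) ^ (i : ℕ) := by
  have h : ∀ k : ℕ, f (Fin.ofNat 7 k, 0) = f (1, 0) ^ k := by
    intro k
    induction k with
    | zero => rw [pow_zero]; exact f_ione hf
    | succ k ih =>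
      rw [pow_succ, ← ih, ← hf, (fpow_idx _ 0).1]
      congr 2
      ext
      simp [Fin.val_add, Nat.add_mod]
  simpa using h i

theorem mem_A (y : G) (hy : y ∈ Subgroup.zpowers (f (1, 0))) (h7 : orderOf (f (1, 0)) = 7) :
    ∃ k : Fin 7, y = f (k, 0) := by
  obtain ⟨k, rfl⟩ := Subgroup.mem_zpowers_iff.1 hy
  refine ⟨Fin.ofNat 7 ((k % 7).toNat), ?_⟩
  have h : 0 ≤ k % 7 := Int.emod_nonneg _ (by norm_num)
  rw [f_row hf (Fin.ofNat 7 _), Fin.val_ofNat, Nat.mod_eq_of_lt (by omega), ← zpow_natCast, Int.toNat_of_nonneg h]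
  have := zpow_mod_orderOf (f (1, 0)) k
  rw [h7] at this
  exact_mod_cast this.symm

theorem row_isConj {i : Fin 7} {j : Fin 6} (hj : j ≠ 0) : IsConj (f (0, j)) (f (i, j)) := by
  obtain ⟨k, hk⟩ := conj_exists i j hj
  refine isConj_iff.2 ⟨f (k, 0), ?_⟩
  rw [← f_iinv hf, ← hf, ← hf, hk]

theorem mem_normalizer_A (n : Idx) (h7 : orderOf (f (1, 0)) = 7) :
    f n ∈ Subgroup.normalizer (Subgroup.zpowers (f (1, 0)) : Set G) := by
  have key : ∀ (m : Idx) (k : Fin 7), ∃ l : Fin 7, imul (imul m (k, 0)) (iinv m) = (l, 0) := by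
    decide +kernel
  refine mem_normalizer_of_forall_conj ?_
  intro y hy
  obtain ⟨k, rfl⟩ := mem_A hf y hy h7
  obtain ⟨l, hl⟩ := key n k
  rw [← f_iinv hf, ← hf, ← hf, hl, f_row hf l]
  exact pow_mem (Subgroup.mem_zpowers _) _

/-- The sum over a coset of `⟨a⟩` outside it. -/
theorem fixFun_eq {χ : G → ℂ} (hχ : IsCharacter G χ) (h7 : orderOf (f (1, 0)) = 7) {j : Fin 6}
    (hj : j ≠ 0) (Q : Subgroup G) (hx : f (0, j) ∈ Q) :
    fixFun (Subgroup.zpowers (f (1, 0))) Q χ ⟨f (0, j), hx⟩ = χ (f (0, j)) := by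
  have hc : Nat.card (Subgroup.zpowers (f (1, 0))) = 7 := by rw [Nat.card_zpowers, h7]
  rw [fixFun, Finset.sum_congr rfl (g := fun _ => χ (f (0, j))) fun y _ => ?_, Finset.sum_const,
    Finset.card_univ, ← Nat.card_eq_fintype_card, nsmul_eq_mul, hc]
  · push_cast
    ring
  · obtain ⟨k, hk⟩ := mem_A hf (y : G) y.2 h7
    show χ (f (0, j) * (y : G)) = _
    rw [hk, ← hf, (fpow_idx k j).2]
    obtain ⟨c, hc'⟩ := isConj_iff.1 (row_isConj hf (i := mult j * k) hj)
    rw [← hc']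
    exact (isClassFunction_iff.1 (IsCharacter.isClassFunction hχ)) _ _ (isConj_iff.2 ⟨c, rfl⟩ : IsConj (f (0, j)) _).symm

/-- The dimension of the fixed space of `⟨a⟩`. -/
theorem fixFun_one {χ : G → ℂ} (h7 : orderOf (f (1, 0)) = 7) (Q : Subgroup G) {d s : ℤ}
    (hd : χ 1 = d) (hs : ∀ y ∈ Subgroup.zpowers (f (1, 0)), y ≠ 1 → χ y = s) :
    (7 : ℂ) * fixFun (Subgroup.zpowers (f (1, 0))) Q χ 1 = ((d + 6 * s : ℤ) : ℂ) := by
  have hc : Nat.card (Subgroup.zpowers (f (1, 0))) = 7 := by rw [Nat.card_zpowers, h7]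
  rw [fixFun, hc, ← mul_assoc]
  norm_num
  rw [← Finset.add_sum_erase _ _ (Finset.mem_univ (1 : Subgroup.zpowers (f (1, 0)))), OneMemClass.coe_one,
    hd]
  have hsum : ∀ y ∈ Finset.univ.erase (1 : Subgroup.zpowers (f (1, 0))), χ (y : G) = (s : ℂ) :=
    fun y hy => hs y y.2 fun h => Finset.ne_of_mem_erase hy (Subtype.ext h)
  rw [Finset.sum_congr rfl hsum,
    Finset.sum_const, Finset.card_erase_of_mem (Finset.mem_univ _), Finset.card_univ,
    ← Nat.card_eq_fintype_card, hc, nsmul_eq_mul]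
  norm_num

/-- A character without fixed space vanishes off `⟨a⟩`. -/
theorem value_zero {χ : G → ℂ} (hχ : IsCharacter G χ) (h7 : orderOf (f (1, 0)) = 7) (hd : χ 1 = 6)
    (hs : ∀ y ∈ Subgroup.zpowers (f (1, 0)), y ≠ 1 → χ y = -1) (n : Idx) (hn : n.2 ≠ 0) :
    χ (f n) = 0 := by
  obtain ⟨i, j⟩ := n
  set Q := Subgroup.normalizer (Subgroup.zpowers (f (1, 0)) : Set G)
  have hc := isCharacter_fixFun (Subgroup.zpowers (f (1, 0))) Q le_rfl hχ
  have h1 := fixFun_one hf h7 Q (χ := χ) (d := 6) (s := -1) (by rw [hd]; norm_num)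
    (fun y hy hy1 => by rw [hs y hy hy1]; norm_num)
  norm_num at h1
  have h0 := IsCharacter.eq_zero_of_one hc h1
  have hx := mem_normalizer_A hf (0, j) h7
  have h := fixFun_eq hf hχ h7 hn Q hx
  rw [h0, Pi.zero_apply] at h
  obtain ⟨c, hc'⟩ := isConj_iff.1 (row_isConj hf (i := i) hn)
  rw [← hc', h]
  exact ((isClassFunction_iff.1 (IsCharacter.isClassFunction hχ)) _ _ (isConj_iff.2 ⟨c, rfl⟩ : IsConj (f (0, j)) _).symm)

/-- The value at the involution of `7 : 6`. -/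
theorem value_invol {χ : G → ℂ} (hχ : IsCharacter G χ) (h7 : orderOf (f (1, 0)) = 7)
    (hx2 : orderOf (f (0, 3)) = 2) {d : ℕ} {s : ℤ} (hd : χ 1 = d)
    (hs : ∀ y ∈ Subgroup.zpowers (f (1, 0)), y ≠ 1 → χ y = s) :
    ∃ v : ℤ, χ (f (0, 3)) = v ∧ 7 * v ≤ d + 6 * s ∧ -(7 * v) ≤ d + 6 * s ∧ v % 2 = (d : ℤ) % 2 := by
  set Q := Subgroup.normalizer (Subgroup.zpowers (f (1, 0)) : Set G)
  haveI : Fintype Q := Fintype.ofFinite _
  have hc := isCharacter_fixFun (Subgroup.zpowers (f (1, 0))) Q le_rfl hχ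
  have h1 := fixFun_one hf h7 Q (χ := χ) (d := (d : ℤ)) (s := s) (by rw [hd]; norm_num) hs
  obtain ⟨L, hL⟩ := IsCharacter.exists_degree hc
  rw [hL] at h1
  have hLz : 7 * (L : ℤ) = (d : ℤ) + 6 * s := by exact_mod_cast h1
  have hx := mem_normalizer_A hf (0, 3) h7
  have hxo : orderOf (⟨f (0, 3), hx⟩ : Q) = 2 := by rw [Subgroup.orderOf_mk, hx2]
  obtain ⟨m, hm⟩ := value_two hc hxo hL
  rw [fixFun_eq hf hχ h7 (by decide) Q hx] at hm
  refine ⟨2 * m - L, by rw [hm]; push_cast; ring, ?_, ?_, ?_⟩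
  · have hn := SmallN.norm_le_one hc hL ⟨f (0, 3), hx⟩
    rw [fixFun_eq hf hχ h7 (by decide) Q hx, hm] at hn
    have e : (2 * (m : ℂ) - L) = (((2 * (m : ℤ) - L : ℤ) : ℝ) : ℂ) := by push_cast; ring
    rw [e, Complex.norm_real, Real.norm_eq_abs] at hn
    have := (abs_le.1 hn).2
    have h' : (2 * (m : ℤ) - L) ≤ L := by exact_mod_cast this
    omega
  · omega
  · omega

end Model

/-- A real value at an element of order 3. -/
theorem value_three {χ : G → ℂ} (hχ : IsCharacter G χ) {g : G} (hg : orderOf g = 3) {d : ℕ}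
    (hd : χ 1 = d) (hreal : conj (χ g) = χ g) :
    ∃ v : ℤ, χ g = v ∧ -(d : ℤ) ≤ 2 * v ∧ v ≤ d ∧ (d - v) % 3 = 0 := by
  haveI : Fintype (Subgroup.zpowers g) := Fintype.ofFinite _
  obtain ⟨m, hm⟩ := sum_nat (IsCharacter.restrict hχ (Subgroup.zpowers g))
  have hgm : g ∈ Subgroup.zpowers g := Subgroup.mem_zpowers g
  let a : Subgroup.zpowers g := ⟨g, hgm⟩
  have ha : orderOf a = 3 := by rw [Subgroup.orderOf_mk, hg]
  have huniv : (Finset.univ : Finset (Subgroup.zpowers g)) = {1, a, a⁻¹} := by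
    refine (Finset.eq_univ_of_card _ ?_).symm
    have h1 : a ≠ 1 := fun h => by rw [h, orderOf_one] at ha; norm_num at ha
    have h2 : a ≠ a⁻¹ := fun h => by
      have : a ^ 2 = 1 := by rw [sq]; nth_rw 2 [h]; exact mul_inv_cancel a
      have := orderOf_dvd_of_pow_eq_one this
      rw [ha] at this
      norm_num at this
    rw [← Nat.card_eq_fintype_card, Nat.card_zpowers, hg]
    rw [Finset.card_insert_of_notMem (by simp [h1.symm, eq_comm (a := (1 : Subgroup.zpowers g)), h1]),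
      Finset.card_pair h2]
  rw [huniv, Nat.card_zpowers, hg] at hm
  have h1 : a ≠ 1 := fun h => by rw [h, orderOf_one] at ha; norm_num at ha
  have h2 : a ≠ a⁻¹ := fun h => by
    have : a ^ 2 = 1 := by rw [sq]; nth_rw 2 [h]; exact mul_inv_cancel a
    have := orderOf_dvd_of_pow_eq_one this
    rw [ha] at this
    norm_num at this
  rw [Finset.sum_insert (by simp [h1.symm, h1]), Finset.sum_pair h2] at hm
  simp only [OneMemClass.coe_one, InvMemClass.coe_inv, a, hd, IsCharacter.inv hχ, hreal] at hm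
  push_cast at hm
  have h3 : (2 : ℂ) * χ g = ((3 * (m : ℤ) - d : ℤ) : ℂ) := by push_cast; linear_combination hm
  have hint : IsIntegral ℤ (χ g) := by
    obtain ⟨n, ρ, rfl⟩ := id hχ
    exact isIntegral_char ρ g
  have hq : χ g = (((3 * (m : ℤ) - d : ℤ) / 2 : ℚ) : ℂ) := by push_cast; push_cast at h3; linear_combination h3 / 2
  obtain ⟨v, hv⟩ := exists_int_of_isIntegral (hq ▸ hint)
  refine ⟨v, by rw [hq, hv]; norm_cast, ?_⟩
  have hv2 : 2 * v = 3 * (m : ℤ) - d := by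
    have : ((3 * (m : ℤ) - d : ℤ) : ℚ) = 2 * v := by rw [← hv]; push_cast; ring
    exact_mod_cast this.symm
  have hn := SmallN.norm_le_one hχ hd g
  rw [hq, hv, show (((v : ℤ) : ℚ) : ℂ) = ((v : ℝ) : ℂ) by norm_cast, Complex.norm_real, Real.norm_eq_abs] at hn
  have hvd : v ≤ (d : ℤ) := by exact_mod_cast (abs_le.1 hn).2
  omega

end Cfsg.Agent.G22Rec
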