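import Cfsg.Agent.Lib.G22Rec.Six
import Cfsg.Agent.Lib.G22Rec.CertZ

/-!
Groups of order 12096 without elements of order 9, 14 or 21 are isomorphic.
-/

set_option autoImplicit false
set_option linter.unusedSectionVars false
set_option linter.style.haveILetI false
set_option maxHeartbeats 1000000
set_option maxRecDepth 8000

namespace Cfsg.Agent.G22Rec

universe u v

theorem zipAll_mem {α β : Type} {p : α → β → Bool} : ∀ {l : List α} {m : List β},
    zipAll p l m = true → ∀ a ∈ l, ∃ b, p a b = true
  | [], _, _, _, ha => absurd ha List.not_mem_nil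
  | a :: as, [], h, _, _ => by simp [zipAll] at h
  | a :: as, b :: bs, h, x, hx => by
    simp only [zipAll, Bool.and_eq_true] at h
    rcases List.mem_cons.1 hx with rfl | hx
    · exact ⟨b, h.1⟩
    · exact zipAll_mem h.2 x hx

theorem zipAll_getD {α β : Type} {p : α → β → Bool} (d : α) (d' : β) : ∀ {l : List α} {m : List β},
    zipAll p l m = true → ∀ k < l.length, p (l.getD k d) (m.getD k d') = true
  | [], _, _, k, hk => absurd hk (Nat.not_lt_zero k)
  | a :: as, [], h, _, _ => by simp [zipAll] at h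
  | a :: as, b :: bs, h, k, hk => by
    simp only [zipAll, Bool.and_eq_true] at h
    rcases k with _ | k
    · simpa using h.1
    · simpa using zipAll_getD d d' h.2 k (by simpa using hk)

theorem appC_zero : ∀ l : List ℕ, appC l 0 = 0
  | [] => rfl
  | c :: cs => by simp [appC, appC_zero cs]; rfl

theorem appC_one : ∀ l : List ℕ, appC l 1 = l.getD 0 0
  | [] => rfl
  | c :: cs => by simp [appC, appC_zero]

theorem checkX_spec {u : List ℕ} {k d : ℕ} {w : List ℕ} (h : checkX u (k, d, w) = true) :
    badC (evalW [aC, yC, u] w) d = true ∨ evalW [aC, yC, u] w = u0C ∨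
      (evalW [aC, yC, u] w = t0C ∧ u ∈ dList) ∨ (u ∈ nList ∧ u ∈ dList) := by
  unfold checkX at h
  split at h
  · rename_i heq
    simp only [Prod.mk.injEq] at heq
    obtain ⟨-, rfl, rfl⟩ := heq
    exact Or.inl h
  · rename_i heq
    simp only [Prod.mk.injEq] at heq
    obtain ⟨-, -, rfl⟩ := heq
    exact Or.inr (Or.inl (beq_iff_eq.1 h))
  · rename_i heq
    simp only [Prod.mk.injEq] at heq
    obtain ⟨-, -, rfl⟩ := heq
    rw [Bool.and_eq_true, beq_iff_eq, List.contains_iff_mem] at h
    exact Or.inr (Or.inr (Or.inl h))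
  · rw [Bool.and_eq_true, List.contains_iff_mem, List.contains_iff_mem] at h
    exact Or.inr (Or.inr (Or.inr h))

theorem checkD_spec {u : List ℕ} {k : ℕ} {w : List ℕ} (h : checkD u (k, w) = true) :
    (u = idC ∨ u = xC ∨ mulC u u ≠ idC) ∨
      mulC (evalW [aC, yC, t0C] w) t0C = mulC u (evalW [aC, yC, t0C] w) ∨
      mulC (evalW [aC, yC, t0C] w) xC = mulC u (evalW [aC, yC, t0C] w) := by
  unfold checkD at h
  split at h
  · simp only [Bool.or_eq_true, beq_iff_eq, Bool.not_eq_true', beq_eq_false_iff_ne, or_assoc] at h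
    exact Or.inl h
  · rename_i heq
    simp only [Prod.mk.injEq] at heq
    obtain ⟨-, rfl⟩ := heq
    exact Or.inr (Or.inl (beq_iff_eq.1 h))
  · rename_i heq
    simp only [Prod.mk.injEq] at heq
    obtain ⟨-, rfl⟩ := heq
    exact Or.inr (Or.inr (beq_iff_eq.1 h))

theorem checkRep_spec {r : List ℕ} {e : ℕ × ℕ × List ℕ} (h : checkRep r e = true) (hk : e.1 < 2) :
    badC (evalW [aC, yC, t0C, r] e.2.2) e.2.1 = true ∨ evalW [aC, yC, t0C, r] e.2.2 = u0C := by
  unfold checkRep at h
  split at h
  · exact Or.inl h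
  · exact Or.inr (beq_iff_eq.1 h)
  · rename_i k' d' w' h0 h1
    rcases k' with _ | _ | k'
    · exact (h0 rfl).elim
    · exact (h1 rfl).elim
    · simp only at hk; omega

/-- The model group, as a set of matrices. -/
def modelSet : Set (List ℕ) :=
  {u | ∃ t ∈ transW, ∃ s ∈ stabW, u = mulC (evalW [aC, yC, u0C] t) (evalW [aC, yC, u0C] s)}

theorem rho_a_ne_one : (rho (1, 0)).map (Int.cast : ℤ → ZMod 2) ≠ 1 := by
  decide +kernel

theorem f_invol : ∀ n : Idx, imul n n = ione → imul n (0, 3) = imul (0, 3) n →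
    n = ione ∨ n = (0, 3) := by
  decide +kernel

variable {G : Type u} [Group G] [Fintype G]

open scoped Classical in
theorem Hyp.exists_code (H : Hyp G) : ∃ c : G → List ℕ, Function.Injective c ∧
    (∀ g h, c (g * h) = mulC (c g) (c h)) ∧ Set.range c = modelSet := by
  obtain ⟨f, R, hf, hinj, h7, hN, hθ, hR⟩ := H.exists_six
  set Φ := redHom hf hθ hR with hΦ
  have hΦinj : Function.Injective Φ := by
    rw [← MonoidHom.ker_eq_bot_iff]
    by_contra hne
    have h := H.seven_le Φ.ker hne _ h7
    rw [MonoidHom.mem_ker, redHom_f] at h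
    exact rho_a_ne_one h
  let c : G → List ℕ := fun g => codeM (Φ g)
  have hcinj : Function.Injective c := codeM_injective.comp hΦinj
  have hcm : ∀ g h, c (g * h) = mulC (c g) (c h) := fun g h => by
    show codeM (Φ (g * h)) = _
    rw [map_mul, codeM_mul]
  have hc1 : c 1 = idC := by
    show codeM (Φ 1) = _
    rw [map_one, codeM_one]
  have hca : c (f (1, 0)) = aC := by show codeM _ = _; rw [redHom_f, gens_ok.1]
  have hcy : c (f (0, 1)) = yC := by show codeM _ = _; rw [redHom_f, gens_ok.2.1]
  have hcx : c (f (0, 3)) = xC := by show codeM _ = _; rw [redHom_f, gens_ok.2.2]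
  have hpow : ∀ g k, c (g ^ k) = powC (c g) k := by
    intro g k
    induction k with
    | zero => rw [pow_zero, hc1]; rfl
    | succ k ih => rw [pow_succ', hcm, ih]; rfl
  let InR : List ℕ → Prop := fun u => ∃ g, c g = u
  have heval : ∀ (gens : List (List ℕ)), (∀ u ∈ gens, InR u) → ∀ w, InR (evalW gens w) := by
    intro gens hg w
    induction w with
    | nil => exact ⟨1, hc1⟩
    | cons i w ih =>
      obtain ⟨h, hh⟩ := ih
      have hi : InR (gens.getD i idC) := by
        rcases Nat.lt_or_ge i gens.length with hi | hi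
        · rw [List.getD_eq_getElem _ _ hi]; exact hg _ (List.getElem_mem hi)
        · rw [List.getD_eq_default _ _ hi]; exact ⟨1, hc1⟩
      obtain ⟨g, hg'⟩ := hi
      exact ⟨g * h, by rw [hcm, hg', hh]; rfl⟩
  have hbad : ∀ (u : List ℕ) (d : ℕ), badC u d = true → InR u → False := by
    rintro _ d hb ⟨g, rfl⟩
    simp only [badC, Bool.and_eq_true, List.any_eq_true, Nat.beq_eq, beq_iff_eq, List.all_eq_true,
      List.mem_range, Bool.or_eq_true, Bool.not_eq_true', beq_eq_false_iff_ne] at hb
    obtain ⟨⟨⟨b, hb1, rfl⟩, hid⟩, hmin⟩ := hb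
    have hpos : 0 < b := by
      simp only [badOrders, List.mem_cons, List.not_mem_nil, or_false] at hb1
      omega
    have ho : orderOf g = b := (orderOf_eq_iff hpos).2
      ⟨hcinj (by rw [hpow, hid, hc1]), fun k hk hk0 h => by
        rcases hmin k hk with h' | h'
        · omega
        · exact h' (by rw [← hpow, h, hc1])⟩
    obtain ⟨h9, h14, -⟩ := H.not_dvd g
    have h5 := H.not_five_dvd g
    rw [ho] at h9 h14 h5
    simp only [badOrders, List.mem_cons, List.not_mem_nil, or_false] at hb1
    rcases hb1 with rfl | rfl | rfl | rfl | rfl <;> omega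
  have hnl : ∀ g, c g ∈ nList → g ∈ Set.range f := by
    intro g hg
    obtain ⟨n, hn⟩ := nList_ok _ hg
    refine ⟨n, hcinj ?_⟩
    rw [hn]
    show codeM _ = _
    rw [redHom_f]
  have hb := bases_ok
  simp only [Bool.and_eq_true, List.all_eq_true, beq_iff_eq, Nat.blt_eq] at hb
  obtain ⟨⟨⟨hbx, hbz⟩, hcoefx⟩, hcoefz⟩ := hb
  set x := f (0, 3) with hxdef
  have hCx : ∀ g, g * x = x * g → InR u0C ∨ (c g ∈ dList ∧ (c g ∈ nList ∨ InR t0C)) := by
    intro g hg
    have hmem := mem_centralC (Z := Φ x) (bs := baseX) (coef := coefX) (redHom_form hf hθ hR g)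
      (by rw [← map_mul, hg, map_mul]) hbx (by rw [show codeM (Φ x) = xC from hcx]; exact hcoefx)
    rw [show codeM (Φ x) = xC from hcx] at hmem
    obtain ⟨⟨k, d, w⟩, hw⟩ := zipAll_mem certX_ok (c g) hmem
    have hgens : ∀ u ∈ [aC, yC, c g], InR u := by
      simp only [List.mem_cons, List.not_mem_nil, or_false]
      rintro u (rfl | rfl | rfl)
      exacts [⟨_, hca⟩, ⟨_, hcy⟩, ⟨_, rfl⟩]
    have hev := heval _ hgens w
    rcases checkX_spec hw with h | h | h | h
    · exact (hbad _ _ h hev).elim
    · exact Or.inl (h ▸ hev)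
    · exact Or.inr ⟨h.2, Or.inr (h.1 ▸ hev)⟩
    · exact Or.inr ⟨h.2, Or.inl h.1⟩
  have hU : InR u0C := by
    by_contra hU
    haveI : Fact (Nat.Prime 2) := ⟨Nat.prime_two⟩
    have hCD : ∀ g, g * x = x * g → c g ∈ dList := fun g hg => ((hCx g hg).resolve_left hU).1
    have hx2 : x * x = 1 := by rw [hxdef, ← hf, (f_idx_three 0).1, f_ione hf]
    have hx1 : x ≠ 1 := fun h => absurd (hinj (h.trans (f_ione hf).symm)) (by decide)
    have hcard : ∀ (s : Finset G) (l : List (List ℕ)), (∀ g ∈ s, c g ∈ l) → s.card ≤ l.length := by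
      intro s l hs
      refine le_trans ?_ (List.toFinset_card_le l)
      exact Finset.card_le_card_of_injOn c (fun g hg => List.mem_toFinset.2 (hs g hg)) hcinj.injOn
    obtain ⟨P, hP⟩ := (IsPGroup.of_card (p := 2) (n := 1) (show Nat.card (Subgroup.zpowers x) = 2 ^ 1 by
      rw [Nat.card_zpowers, pow_one]
      exact orderOf_eq_prime (by rw [sq, hx2]) hx1)).exists_le_sylow
    have hxP : x ∈ (P : Subgroup G) := hP (Subgroup.mem_zpowers x)
    have hPc : Nat.card (P : Subgroup G) = 64 :=
      (Small.sylow_card (k := 6) (m := 189) (by rw [H.card]; norm_num) (by norm_num) P).trans (by norm_num)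
    haveI : Nontrivial (P : Subgroup G) := Finite.one_lt_card_iff_nontrivial.1 (by rw [hPc]; norm_num)
    haveI := IsPGroup.center_nontrivial P.isPGroup'
    have hZ : 2 ∣ Nat.card (Subgroup.center (P : Subgroup G)) := by
      obtain ⟨k, hk⟩ := IsPGroup.iff_card.1 (P.isPGroup'.to_subgroup (Subgroup.center (P : Subgroup G)))
      rcases k with _ | k
      · exfalso
        have h1 : 1 < Nat.card (Subgroup.center (P : Subgroup G)) := Finite.one_lt_card
        omega
      · exact ⟨2 ^ k, by rw [hk]; ring⟩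
    obtain ⟨⟨⟨z, hzP⟩, hzc⟩, hzo⟩ := exists_prime_orderOf_dvd_card' 2 hZ
    rw [Subgroup.orderOf_mk, Subgroup.orderOf_mk] at hzo
    have hzP' : ∀ p ∈ (P : Subgroup G), p * z = z * p := fun p hp =>
      congrArg Subtype.val (Subgroup.mem_center_iff.1 hzc ⟨p, hp⟩)
    have hzx : z * x = x * z := (hzP' x hxP).symm
    have hzz : z * z = 1 := by rw [← sq, ← hzo, pow_orderOf_eq_one]
    -- sixty-four elements commuting with a conjugate of `z`
    have h64 : ∀ h w : G, h * w = z * h →
        ∃ s : Finset G, 64 ≤ s.card ∧ ∀ g ∈ s, g * w = w * g := by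
      intro h w hw
      refine ⟨(Finset.univ.filter fun p : G => p ∈ (P : Subgroup G)).image fun p => h⁻¹ * p * h, ?_, ?_⟩
      · rw [Finset.card_image_of_injective _ (fun a b e => by simpa using e), ← Fintype.card_subtype,
          ← Nat.card_eq_fintype_card]
        exact le_of_eq hPc.symm
      · intro g hg
        obtain ⟨p, hp, rfl⟩ := Finset.mem_image.1 hg
        have hw' : w = h⁻¹ * z * h := by rw [mul_assoc, ← hw, inv_mul_cancel_left]
        have hpz := hzP' p (Finset.mem_filter.1 hp).2
        calc h⁻¹ * p * h * w = h⁻¹ * (p * z) * h := by rw [hw']; group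
          _ = h⁻¹ * (z * p) * h := by rw [hpz]
          _ = w * (h⁻¹ * p * h) := by rw [hw']; group
    have hsmall : ∀ s : Finset G, (∀ g ∈ s, g * x = x * g) → s.card ≤ 12 := fun s hs =>
      (hcard s dList fun g hg => hCD g (hs g hg)).trans lengths_ok.1.le
    -- the centralizer of the cube leaves `7 : 6`
    have hT : InR t0C := by
      have hex : ∃ g, g * x = x * g ∧ g ∉ Set.range f := by
        by_cases hz : z ∈ Set.range f
        · obtain ⟨n, rfl⟩ := hz
          have hn : n = ione ∨ n = (0, 3) := f_invol n (hinj (by rw [hf, hzz, f_ione hf]))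
            (hinj (by rw [hf, hf]; exact hzx))
          rcases hn with rfl | rfl
          · rw [f_ione hf, orderOf_one] at hzo
            norm_num at hzo
          · obtain ⟨s, hs, hs'⟩ := h64 1 x (by rw [one_mul, mul_one])
            have := hsmall s hs'
            omega
        · exact ⟨z, hzx, hz⟩
      obtain ⟨g, hg, hgf⟩ := hex
      exact (((hCx g hg).resolve_left hU).2).resolve_left fun h => hgf (hnl g h)
    obtain ⟨h0, hh0⟩ := hT
    have hgens : ∀ u ∈ [aC, yC, t0C], InR u := by
      simp only [List.mem_cons, List.not_mem_nil, or_false]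
      rintro u (rfl | rfl | rfl)
      exacts [⟨_, hca⟩, ⟨_, hcy⟩, ⟨_, hh0⟩]
    obtain ⟨⟨k, w⟩, hw⟩ := zipAll_mem dCert_ok (c z) (hCD z hzx)
    obtain ⟨h, hh⟩ := heval _ hgens w
    rcases checkD_spec hw with hw | hw | hw
    · rcases hw with hw | hw | hw
      · rw [hcinj (hw.trans hc1.symm), orderOf_one] at hzo
        norm_num at hzo
      · obtain ⟨s, hs, hs'⟩ := h64 1 x (by rw [one_mul, mul_one, hcinj (hw.trans hcx.symm)])
        have := hsmall s hs'
        omega
      · exact hw (by rw [← hcm, hzz, hc1])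
    · obtain ⟨s, hs, hs'⟩ := h64 h h0 (hcinj (by rw [hcm, hcm, hh, hh0, hw]))
      have hCz : ∀ g, g * h0 = h0 * g → c g ∈ clList := by
        intro g hg
        have hmem := mem_centralC (Z := Φ h0) (bs := baseZ) (coef := coefZ) (redHom_form hf hθ hR g)
          (by rw [← map_mul, hg, map_mul]) hbz (by rw [show codeM (Φ h0) = t0C from hh0]; exact hcoefz)
        rw [show codeM (Φ h0) = t0C from hh0] at hmem
        obtain ⟨⟨i, r, j⟩, hz'⟩ := zipAll_mem certZ_ok (c g) hmem
        simp only [checkZ, Bool.and_eq_true, beq_iff_eq, Nat.blt_eq, Bool.or_eq_true,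
          List.contains_iff_mem] at hz'
        obtain ⟨⟨⟨⟨heq, hi⟩, hj⟩, hr⟩, hor⟩ := hz'
        refine hor.resolve_left fun hk => ?_
        have hCL : ∀ i < clList.length, InR (clList.getD i idC) := fun i hi => by
          have h := zipAll_getD idC [] clWords_ok i hi
          rw [beq_iff_eq] at h
          exact h ▸ heval _ hgens _
        obtain ⟨l, hl⟩ := hCL i hi
        obtain ⟨l', hl'⟩ := hCL j hj
        have hrep : InR (repList.getD r idC) := ⟨l * g * l', by rw [hcm, hcm, hl, hl', heq]⟩
        have hgens' : ∀ u ∈ [aC, yC, t0C, repList.getD r idC], InR u := by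
          simp only [List.mem_cons, List.not_mem_nil, or_false]
          rintro u (rfl | rfl | rfl | rfl)
          exacts [⟨_, hca⟩, ⟨_, hcy⟩, ⟨_, hh0⟩, hrep]
        have hck := zipAll_getD idC ((0, 0, []) : ℕ × ℕ × List ℕ) repCert_ok r hr
        rcases checkRep_spec hck hk with h' | h'
        · exact hbad _ _ h' (heval _ hgens' _)
        · exact hU (h' ▸ heval _ hgens' _)
      have := (hcard s clList fun g hg => hCz g (hs' g hg)).trans lengths_ok.2.le
      omega
    · obtain ⟨s, hs, hs'⟩ := h64 h x (hcinj (by rw [hcm, hcm, hh, hcx, hw]))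
      have := hsmall s hs'
      omega
  obtain ⟨hu, hhu⟩ := hU
  have hgens : ∀ u ∈ [aC, yC, u0C], InR u := by
    simp only [List.mem_cons, List.not_mem_nil, or_false]
    rintro u (rfl | rfl | rfl)
    exacts [⟨_, hca⟩, ⟨_, hcy⟩, ⟨_, hhu⟩]
  choose el hel using heval _ hgens
  refine ⟨c, hcinj, hcm, ?_⟩
  have ht := trans_ok
  simp only [transOK, Bool.and_eq_true, Nat.beq_eq, decide_eq_true_eq, List.length_map] at ht
  have hs := stab_ok
  simp only [stabOK, Bool.and_eq_true, Nat.beq_eq, List.all_eq_true, decide_eq_true_eq,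
    List.length_map] at hs
  obtain ⟨⟨hsl, hsfix⟩, hsn⟩ := hs
  let F : List ℕ × List ℕ → G := fun p => el p.1 * el p.2
  have hFinj : Set.InjOn F ↑(transW.toFinset ×ˢ stabW.toFinset) := by
    rintro ⟨t, s⟩ hp ⟨t', s'⟩ hp' he
    simp only [Finset.coe_product, Set.mem_prod, Finset.mem_coe, List.mem_toFinset] at hp hp'
    have hcol : ∀ t s, s ∈ stabW → (c (el t * el s)).getD 0 0 = (evalW [aC, yC, u0C] t).getD 0 0 := by
      intro t s hs
      rw [← appC_one]
      show appC (codeM (Φ (el t * el s))) 1 = _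
      rw [map_mul, appC_mulC _ _ (by norm_num), show codeM (Φ (el s)) = evalW [aC, yC, u0C] s from hel s,
        appC_one (evalW [aC, yC, u0C] s), hsfix _ (List.mem_map.2 ⟨s, hs, rfl⟩),
        show codeM (Φ (el t)) = evalW [aC, yC, u0C] t from hel t, appC_one]
    have he' : el t * el s = el t' * el s' := he
    have h0 := hcol t s hp.2
    rw [he', hcol t' s' hp'.2] at h0
    obtain rfl : t = t' := List.inj_on_of_nodup_map ht.2 hp.1 hp'.1 h0.symm
    have h2 : el s = el s' := mul_left_cancel he'
    obtain rfl : s = s' := List.inj_on_of_nodup_map hsn hp.2 hp'.2 (by rw [← hel s, ← hel s', h2])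
    rfl
  have hFcard : (transW.toFinset ×ˢ stabW.toFinset).card = 12096 := by
    rw [Finset.card_product, List.toFinset_card_of_nodup (List.Nodup.of_map _ ht.2),
      List.toFinset_card_of_nodup (List.Nodup.of_map _ hsn), ht.1, hsl]
  have hsurj : (transW.toFinset ×ˢ stabW.toFinset).image F = Finset.univ :=
    Finset.eq_univ_of_card _ (by
      rw [Finset.card_image_of_injOn hFinj, hFcard, ← Nat.card_eq_fintype_card, H.card])
  refine Set.Subset.antisymm ?_ ?_
  · rintro _ ⟨g, rfl⟩
    obtain ⟨⟨t, s⟩, hp, rfl⟩ := Finset.mem_image.1 (hsurj.symm ▸ Finset.mem_univ g)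
    simp only [Finset.mem_product, List.mem_toFinset] at hp
    exact ⟨t, hp.1, s, hp.2, by rw [hcm, hel, hel]⟩
  · rintro _ ⟨t, -, s, -, rfl⟩
    exact ⟨el t * el s, by rw [hcm, hel, hel]⟩

theorem Hyp.nonempty_mulEquiv {K : Type v} [Group K] [Fintype K] (H : Hyp G) (H' : Hyp K) :
    Nonempty (G ≃* K) := by
  obtain ⟨c, hc, hcm, hcr⟩ := H.exists_code
  obtain ⟨c', hc', hcm', hcr'⟩ := H'.exists_code
  have hex : ∀ g, ∃ k, c' k = c g := fun g => by
    have : c g ∈ Set.range c' := by rw [hcr', ← hcr]; exact Set.mem_range_self g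
    exact this
  choose e he using hex
  have hmul : ∀ g h, e (g * h) = e g * e h := fun g h => hc' (by rw [hcm', he, he, he, hcm])
  have hbij : Function.Bijective e := by
    refine ⟨fun g h heq => hc ?_, fun k => ?_⟩
    · rw [← he, heq, he]
    · have : c' k ∈ Set.range c := by rw [hcr, ← hcr']; exact Set.mem_range_self k
      obtain ⟨g, hg⟩ := this
      exact ⟨g, hc' (by rw [he, hg])⟩
  exact ⟨MulEquiv.ofBijective (MonoidHom.mk' e hmul) hbij⟩

end Cfsg.Agent.G22Rec
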