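import Mathlib.LinearAlgebra.Matrix.Determinant.Basic
import Mathlib.LinearAlgebra.Matrix.Trace
import Mathlib.Data.ZMod.Basic
import Mathlib.Data.Fintype.BigOperators

/-!
The group `7 : 6` and its faithful irreducible representation of degree 6 over the integers.
-/

set_option autoImplicit false
set_option maxRecDepth 100000

namespace Cfsg.Agent.G22Rec

open Matrix

/-- The pair `(i, j)` stands for `a ^ i * y ^ j` where `y * a * y⁻¹ = a ^ 3`. -/
abbrev Idx : Type := Fin 7 × Fin 6

/-- The multiplier of `y ^ j`. -/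
def mult (j : Fin 6) : Fin 7 := ![1, 3, 2, 6, 4, 5] j

/-- The product. -/
def imul (n m : Idx) : Idx := (n.1 + mult n.2 * m.1, n.2 + m.2)

/-- The inverse. -/
def iinv (n : Idx) : Idx := (-(mult (-n.2) * n.1), -n.2)

/-- The neutral element. -/
def ione : Idx := (0, 0)

/-- The representation on `ζ, ζ², …, ζ⁶`. -/
def rho (n : Idx) : Matrix (Fin 6) (Fin 6) ℤ := Matrix.of fun r c =>
  let t : Fin 7 := mult n.2 * c.succ + n.1
  if t = 0 then -1 else if t = r.succ then 1 else 0

/-- The character of `rho`. -/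
def theta (n : Idx) : ℤ := if n.2 = 0 then (if n.1 = 0 then 6 else -1) else 0

theorem imul_iinv : ∀ n : Idx, imul n (iinv n) = ione ∧ imul (iinv n) n = ione ∧
    imul n ione = n ∧ imul ione n = n ∧ iinv (iinv n) = n := by
  decide +kernel

theorem mult_add : ∀ a b : Fin 6, mult (a + b) = mult a * mult b := by
  decide +kernel

theorem imul_assoc (n m k : Idx) : imul (imul n m) k = imul n (imul m k) := by
  refine Prod.ext ?_ (add_assoc _ _ _)
  show n.1 + mult n.2 * m.1 + mult (n.2 + m.2) * k.1 = n.1 + mult n.2 * (m.1 + mult m.2 * k.1)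
  rw [mult_add]
  grind

theorem iinv_imul : ∀ n m : Idx, iinv (imul n m) = imul (iinv m) (iinv n) := by
  decide +kernel

theorem rho_one : rho ione = 1 := by
  decide +kernel

theorem rho_rel :
    (∀ i k : Fin 7, rho (i, 0) * rho (k, 0) = rho (i + k, 0)) ∧
      (∀ j l : Fin 6, rho (0, j) * rho (0, l) = rho (0, j + l)) ∧
      (∀ (j : Fin 6) (k : Fin 7), rho (0, j) * rho (k, 0) = rho (mult j * k, 0) * rho (0, j)) ∧
      ∀ (i : Fin 7) (j : Fin 6), rho (i, j) = rho (i, 0) * rho (0, j) := by
  decide +kernel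

theorem rho_mul (n m : Idx) : rho n * rho m = rho (imul n m) := by
  obtain ⟨hA, hY, hYA, hsplit⟩ := rho_rel
  obtain ⟨i, j⟩ := n
  obtain ⟨k, l⟩ := m
  rw [imul, hsplit i j, hsplit k l, hsplit (i + mult j * k) (j + l), ← hA, ← hY]
  simp only [mul_assoc]
  rw [← mul_assoc (rho (0, j)), hYA, mul_assoc]

theorem trace_rho : ∀ n : Idx, (rho n).trace = theta n := by
  decide +kernel

theorem rho_orth : ∀ r c k l : Fin 6,
    ∑ n : Idx, rho n r c * rho (iinv n) k l = if r = l ∧ c = k then 7 else 0 := by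
  decide +kernel

theorem theta_conv : ∀ (m : Idx) (r c : Fin 6),
    ∑ n : Idx, theta (imul m (iinv n)) * rho n r c = 7 * rho m r c := by
  decide +kernel

/-- The invariant alternating form modulo two. -/
def formJ : Matrix (Fin 6) (Fin 6) (ZMod 2) := Matrix.of fun r c => if r = c then 0 else 1

theorem rho_formJ : ∀ n : Idx,
    ((rho (iinv n)).map (Int.cast : ℤ → ZMod 2))ᵀ * formJ =
      formJ * (rho n).map (Int.cast : ℤ → ZMod 2) := by
  decide +kernel

end Cfsg.Agent.G22Rec
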