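import Cfsg.Agent.Lib.G22Rec.Derived
import Cfsg.Agent.Lib.G22.Iso
import Cfsg.Agent.Lib.J2.Orders

/-!
`G₂(2)` has no elements of order 9, 14 or 21.
-/

set_option autoImplicit false
set_option linter.unusedSectionVars false
set_option linter.style.haveILetI false
set_option maxHeartbeats 1000000

namespace Cfsg.Agent.G22Rec

open Cfsg.Lie Cfsg.Agent.G22

theorem orderOf_K63 (k : J2.K63) : orderOf k ∈ J2.j2Orders := by
  let e : J2.H100 ≃* J2.K63 :=
    (MonoidHom.ofInjective J2.restrict_injective).trans (MulEquiv.subgroupCongr J2.restrict_range)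
  rw [← MulEquiv.orderOf_eq e.symm k, ← Subgroup.orderOf_coe]
  exact J2.orderOf_mem _ ((J2.mem_H100 _).1 (e.symm k).2).1

theorem center_St (K : Type*) [Field K] : Subgroup.center (chevG2.SteinbergGroup K) = ⊥ := by
  obtain ⟨T, _, _, g, ⟨C, hk, hC⟩, hD⟩ := Chev.exists_goodW_one (D := chevG2) (by simp)
  rw [← hD]
  exact Chev.Tab.center_eq_bot g hC hk

/-- A word for an element of order 7. -/
def wa : List (ℕ × F2) := [(9, 1), (4, 1), (0, 1)]

/-- A word for an element normalizing it. -/
def wy : List (ℕ × F2) := [(5, 1), (4, 1), (9, 1), (4, 1)]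

theorem witness_ok : ∀ i : Fin 63,
    app (wa ++ wa ++ wa ++ wa ++ wa ++ wa ++ wa) i = i ∧
      app (wy ++ wa) i = app (wa ++ wa ++ wa ++ wy) i := by
  decide +kernel

theorem witness_ne : ∃ i : Fin 63, app wa i ≠ i := by
  decide +kernel

theorem pow_three_mod : ∀ j < 6, (3 ^ j) % 7 = 1 → j = 0 := by
  decide +kernel

universe u

theorem no14_abstract {G : Type u} [Group G] [Finite G] (hcard : Nat.card G = 12096) {D : Subgroup G}
    (hDc : Nat.card D = 6048) (hD : ∀ x ∈ D, orderOf x ∈ J2.j2Orders) (a0 y : G) (ha0 : orderOf a0 = 7)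
    (hya : y * a0 * y⁻¹ = a0 ^ 3) (g : G) (hg : orderOf g = 14) : False := by
  haveI : Fact (Nat.Prime 7) := ⟨by norm_num⟩
  -- Sylow numbers
  set a := g ^ 2 with hadef
  have ha : orderOf a = 7 := by rw [hadef, orderOf_pow, hg]; rfl
  have hG : Nat.card G = 7 ^ 1 * 1728 := by rw [hcard]; norm_num
  have hDcard : Nat.card D = 7 ^ 1 * 864 := by rw [hDc]; norm_num
  obtain ⟨P, hP⟩ := (IsPGroup.of_card (p := 7) (n := 1)
    (show Nat.card (Subgroup.zpowers a) = 7 ^ 1 by rw [Nat.card_zpowers, ha, pow_one])).exists_le_sylow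
  have hPc := (Small.sylow_card hG (by norm_num) P).trans (pow_one 7)
  have hPz : Subgroup.zpowers a = (P : Subgroup G) :=
    Subgroup.eq_of_le_of_card_ge hP (by rw [hPc, Nat.card_zpowers, ha])
  have hnD : 288 ≤ Nat.card (Sylow 7 D) := by
    obtain ⟨Q⟩ : Nonempty (Sylow 7 D) := inferInstance
    have hQ := (Small.sylow_card hDcard (by norm_num) Q).trans (pow_one 7)
    set N := Subgroup.normalizer ((Q : Subgroup D) : Set D)
    let φ : N →* MulAut (Q : Subgroup D) := Subgroup.normalizerMonoidHom (Q : Subgroup D)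
    have hker : Nat.card φ.ker ∣ 7 := by
      haveI : Nontrivial (Q : Subgroup D) := Finite.one_lt_card_iff_nontrivial.1 (by rw [hQ]; norm_num)
      obtain ⟨⟨q, hq⟩, hq1⟩ := exists_ne (1 : (Q : Subgroup D))
      have hqo : orderOf q = 7 := by
        have h := orderOf_dvd_natCard (⟨q, hq⟩ : (Q : Subgroup D))
        rw [Subgroup.orderOf_mk, hQ] at h
        refine ((Nat.dvd_prime (by norm_num : Nat.Prime 7)).1 h).resolve_left fun h1 => hq1 ?_
        exact Subtype.ext (orderOf_eq_one_iff.1 h1)
      have hp : IsPGroup 7 φ.ker := by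
        intro c
        have hc : orderOf c ∣ 7 := by
          have hD' : ∀ x : D, orderOf x ∈ J2.j2Orders := fun x => by
            rw [← Subgroup.orderOf_coe]; exact hD _ x.2
          have hcq : Commute (c.1 : D) q := by
            have h2 : ((φ c.1) ⟨q, hq⟩ : D) = q := by rw [MonoidHom.mem_ker.1 c.2]; rfl
            exact (mul_inv_eq_iff_eq_mul.1 (h2 : (c.1 : D) * q * (c.1 : D)⁻¹ = q))
          rw [← Subgroup.orderOf_coe, ← Subgroup.orderOf_coe]
          have hcD := hD' (c.1 : D)
          generalize hn : orderOf (c.1 : D) = n at hcD ⊢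
          simp only [J2.j2Orders, List.mem_cons, List.not_mem_nil, or_false] at hcD
          by_contra hnd
          have hcop : (orderOf q).Coprime (orderOf (c.1 : D)) := by
            rw [hqo, hn]
            refine (Nat.Prime.coprime_iff_not_dvd (by norm_num)).2 fun h => ?_
            rcases hcD with rfl | rfl | rfl | rfl | rfl | rfl | rfl | rfl | rfl | rfl | rfl <;>
              first | omega | exact hnd (by norm_num)
          have hprod := hcq.symm.orderOf_mul_eq_mul_orderOf_of_coprime hcop
          have hm := hD' (q * (c.1 : D))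
          rw [hprod, hqo, hn] at hm
          simp only [J2.j2Orders, List.mem_cons, List.not_mem_nil, or_false] at hm
          rcases hcD with rfl | rfl | rfl | rfl | rfl | rfl | rfl | rfl | rfl | rfl | rfl <;>
            first | omega | exact hnd (by norm_num)
        exact ⟨1, orderOf_dvd_iff_pow_eq_one.1 (by rw [pow_one]; exact hc)⟩
      obtain ⟨k, hk⟩ := IsPGroup.iff_card.1 hp
      have hk1 : k ≤ 1 := by
        by_contra hcon
        have h49 : 7 ^ 2 ∣ Nat.card D := ((pow_dvd_pow 7 (by omega : 2 ≤ k)).trans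
          (hk ▸ Subgroup.card_subgroup_dvd_card φ.ker)).trans (Subgroup.card_subgroup_dvd_card N)
        rw [hDc] at h49
        norm_num at h49
      rw [hk]
      interval_cases k <;> norm_num
    have himg : Nat.card φ.range ∣ 6 := by
      refine (Subgroup.card_subgroup_dvd_card _).trans ?_
      haveI : IsCyclic (Q : Subgroup D) := isCyclic_of_prime_card hQ
      rw [IsCyclic.card_mulAut, hQ, Nat.totient_prime (by norm_num)]
    have hN := φ.ker.card_mul_index
    rw [Subgroup.index_ker] at hN
    have hNd : Nat.card N ∣ 42 := hN ▸ mul_dvd_mul hker himg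
    have hle : Nat.card N ≤ 42 := Nat.le_of_dvd (by norm_num) hNd
    have hmul : Nat.card N * Nat.card (Sylow 7 D) = 6048 := hDc ▸ Small.card_normalizer_mul Q
    have hmem := Small.sylow_number_mem hDcard (show ¬ 7 ∣ 864 by norm_num)
    rw [show (Nat.divisors 864).filter (fun d => d % 7 = 1) = {1, 8, 36, 288} by decide +kernel] at hmem
    simp only [Finset.mem_insert, Finset.mem_singleton] at hmem
    rcases hmem with h' | h' | h' | h' <;> rw [h'] at hmul ⊢ <;> omega
  have hnG : 288 ≤ Nat.card (Sylow 7 G) := by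
    refine hnD.trans (Nat.card_le_card_of_injective (fun Q : Sylow 7 D =>
      Sylow.ofCard ((Q : Subgroup D).map D.subtype) (by
        rw [Subgroup.card_map_of_injective D.subtype_injective, Small.sylow_card hDcard (by norm_num) Q, hcard,
          show (12096 : ℕ) = 7 ^ 1 * 1728 by norm_num, Nat.factorization_mul (by norm_num) (by norm_num),
          Nat.Prime.factorization_pow (by norm_num : Nat.Prime 7)]
        simp [Nat.factorization_eq_zero_of_not_dvd (show ¬ 7 ∣ 1728 by norm_num)])) fun Q Q' h => ?_)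
    have := congrArg (fun S : Sylow 7 G => (S : Subgroup G)) h
    simp only [Sylow.coe_ofCard] at this
    exact Sylow.ext (Subgroup.map_injective D.subtype_injective this)
  -- eighty-four elements in the normalizer
  obtain ⟨T, hT⟩ := (IsPGroup.of_card (p := 7) (n := 1)
    (show Nat.card (Subgroup.zpowers a0) = 7 ^ 1 by rw [Nat.card_zpowers, ha0, pow_one])).exists_le_sylow
  have hTz : Subgroup.zpowers a0 = (T : Subgroup G) :=
    Subgroup.eq_of_le_of_card_ge hT (by rw [(Small.sylow_card hG (by norm_num) T).trans (pow_one 7),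
      Nat.card_zpowers, ha0])
  obtain ⟨c, hc⟩ := MulAction.exists_smul_eq G T P
  have haT : a ∈ ((c • T : Sylow 7 G) : Subgroup G) := hc ▸ hPz ▸ Subgroup.mem_zpowers a
  obtain ⟨b, hb, hba⟩ := haT
  obtain ⟨k, hk⟩ := Subgroup.mem_zpowers_iff.1 (hTz ▸ hb)
  set y' := c * y * c⁻¹
  have hy'a : y' * a * y'⁻¹ = a ^ 3 := by
    rw [show a = c * b * c⁻¹ from hba.symm, conj_pow, ← hk, ← zpow_natCast (a0 ^ k) 3, ← zpow_mul,
      mul_comm k, zpow_mul, zpow_natCast, ← hya, conj_zpow]
    simp only [y']
    group
  have hiter : ∀ j : ℕ, y' ^ j * a * (y' ^ j)⁻¹ = a ^ (3 ^ j) := by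
    intro j
    induction j with
    | zero => simp
    | succ j ih =>
      calc y' ^ (j + 1) * a * (y' ^ (j + 1))⁻¹ = y' * (y' ^ j * a * (y' ^ j)⁻¹) * y'⁻¹ := by
            rw [pow_succ']; group
        _ = (y' * a * y'⁻¹) ^ (3 ^ j) := by rw [ih, conj_pow]
        _ = _ := by rw [hy'a, ← pow_mul, pow_succ']
  set N := Subgroup.normalizer ((P : Subgroup G) : Set G)
  have hgN : g ∈ N := by
    refine Subgroup.centralizer_le_normalizer _ ?_
    rw [Subgroup.mem_centralizer_iff]
    intro p hp
    obtain ⟨k, rfl⟩ := Subgroup.mem_zpowers_iff.1 (hPz ▸ hp)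
    exact ((Commute.refl g).pow_left 2).zpow_left k
  have hyN : y' ∈ N := by
    refine Subgroup.mem_normalizer_iff.2 fun p => ?_
    have hmap : (P : Subgroup G).map (MulAut.conj y').toMonoidHom = (P : Subgroup G) := by
      refine Subgroup.eq_of_le_of_card_ge ?_
        (le_of_eq (Nat.card_congr ((P : Subgroup G).equivMapOfInjective _ (MulAut.conj y').injective).toEquiv))
      rw [← hPz, MonoidHom.map_zpowers, Subgroup.zpowers_le]
      show y' * a * y'⁻¹ ∈ _
      rw [hy'a]
      exact pow_mem (Subgroup.mem_zpowers a) 3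
    constructor
    · intro hp
      rw [← hmap]
      exact ⟨p, hp, rfl⟩
    · intro hp
      rw [← hmap] at hp
      obtain ⟨p', hp', e'⟩ := hp
      obtain rfl : p' = p := (MulAut.conj y').injective e'
      exact hp'
  have hcomm : Commute g a := (Commute.refl g).pow_right 2
  have hinjN : Function.Injective fun p : Fin 14 × Fin 6 =>
      (⟨g ^ (p.1 : ℕ) * y' ^ (p.2 : ℕ), mul_mem (pow_mem hgN _) (pow_mem hyN _)⟩ : N) := by
    have key : ∀ (i i' : ℕ) (j j' : Fin 6), j ≤ j' → g ^ i * y' ^ (j : ℕ) = g ^ i' * y' ^ (j' : ℕ) →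
        j = j' := by
      intro i i' j j' hjj h
      have hle : (j : ℕ) ≤ (j' : ℕ) := hjj
      have he : y' ^ ((j' : ℕ) - j) = (g ^ i')⁻¹ * g ^ i := by
        rw [← Nat.sub_add_cancel hle, pow_add, ← mul_assoc] at h
        have h' := mul_right_cancel h
        rw [h', inv_mul_cancel_left]
      have h1 := hiter ((j' : ℕ) - j)
      rw [he, ((hcomm.pow_left i').inv_left.mul_left (hcomm.pow_left i)).eq, mul_assoc, mul_inv_cancel,
        mul_one] at h1
      have h3 : 3 ^ ((j' : ℕ) - j) % 7 = 1 := by
        have h' : a ^ 1 = a ^ (3 ^ ((j' : ℕ) - j)) := by rw [pow_one]; exact h1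
        rw [pow_eq_pow_iff_modEq, ha] at h'
        exact h'.symm
      have := pow_three_mod _ (by omega) h3
      exact Fin.ext (by omega)
    rintro ⟨i, j⟩ ⟨i', j'⟩ h
    have h' : g ^ (i : ℕ) * y' ^ (j : ℕ) = g ^ (i' : ℕ) * y' ^ (j' : ℕ) := congrArg Subtype.val h
    obtain rfl : j = j' := by
      rcases le_total j j' with hjj | hjj
      · exact key _ _ _ _ hjj h'
      · exact (key _ _ _ _ hjj h'.symm).symm
    have := pow_injOn_Iio_orderOf (show (i : ℕ) < orderOf g from lt_of_lt_of_eq i.isLt hg.symm)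
      (show (i' : ℕ) < orderOf g from lt_of_lt_of_eq i'.isLt hg.symm) (mul_right_cancel h')
    exact Prod.ext (Fin.ext this) rfl
  have h84 := Nat.card_le_card_of_injective _ hinjN
  rw [Nat.card_eq_fintype_card, Fintype.card_prod, Fintype.card_fin, Fintype.card_fin] at h84
  have hmul := Small.card_normalizer_mul P
  rw [hcard] at hmul
  nlinarith

theorem hyp_G22 : Hyp ↥(chevG2.group F2) := by
  haveI : Fact (Nat.Prime 7) := ⟨by norm_num⟩
  obtain ⟨e⟩ := steinberg_equiv F2
  haveI : Finite (chevG2.SteinbergGroup F2) := Finite.of_equiv _ e.symm.toEquiv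
  have hcard : Nat.card ↥(chevG2.group F2) = 12096 := by
    rw [S1059.result (ZMod.card 2)]
    norm_num
  obtain ⟨d⟩ := derived_equiv
  set G := ↥(chevG2.group F2)
  set D := commutator G
  have hDc : Nat.card D = 6048 := by rw [Nat.card_congr d.toEquiv, J2.card_K63]
  have hidx : D.index = 2 := by
    have h := D.card_mul_index
    rw [hDc, hcard] at h
    omega
  have hD : ∀ x ∈ D, orderOf x ∈ J2.j2Orders := fun x hx => by
    rw [← Subgroup.orderOf_mk x hx, ← MulEquiv.orderOf_eq d]
    exact orderOf_K63 _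
  have hodd : ∀ (x : G) (n : ℕ), orderOf x = n → Odd n → x ∈ D := fun x n hx hn => by
    obtain ⟨k, hk⟩ := hn
    have h2 := pow_mem (Subgroup.sq_mem_of_index_two hidx x) (k + 1)
    rwa [← pow_mul, show 2 * (k + 1) = n + 1 by omega, pow_succ, ← hx, pow_orderOf_eq_one, one_mul] at h2
  have h9 : ∀ x : G, orderOf x ≠ 9 := fun x h => by
    have := hD x (hodd x 9 h (by decide))
    rw [h] at this
    exact absurd this (by decide)
  have h21 : ∀ x : G, orderOf x ≠ 21 := fun x h => by
    have := hD x (hodd x 21 h (by decide))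
    rw [h] at this
    exact absurd this (by decide)
  refine ⟨hcard, h9, fun g hg => ?_, h21⟩
  -- the witness
  let toG : List (ℕ × F2) → G := fun w => e (PresentedGroup.mk (chevG2.steinbergRels F2) (chevG2.stWord w))
  have hinj : Function.Injective rep := by
    rw [← MonoidHom.ker_eq_bot_iff]
    have hr : 6048 ≤ Nat.card rep.range := by
      have h := Subgroup.card_le_of_le C63_le
      rwa [Nat.card_congr ((J2.K63.equivMapOfInjective _ (MulAut.conj relabel).injective).symm.toEquiv),
        J2.card_K63] at h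
    have h := rep.ker.card_mul_index
    rw [Subgroup.index_ker, Nat.card_congr e.toEquiv, hcard] at h
    have hk2 : Nat.card rep.ker ≤ 2 := by nlinarith
    have hcen : rep.ker ≤ Subgroup.center _ := by
      intro k hk
      rw [Subgroup.mem_center_iff]
      intro x
      by_cases hk1 : k = 1
      · rw [hk1, mul_one, one_mul]
      · have hx : x * k * x⁻¹ ∈ rep.ker := (MonoidHom.normal_ker rep).conj_mem k hk x
        have hx1 : x * k * x⁻¹ ≠ 1 := fun h => hk1 (conj_eq_one_iff.1 h)
        by_contra hne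
        have hne' : x * k * x⁻¹ ≠ k := fun h => hne (mul_inv_eq_iff_eq_mul.1 h)
        classical
        haveI : Fintype rep.ker := Fintype.ofFinite _
        have h3 : ({1, ⟨k, hk⟩, ⟨_, hx⟩} : Finset rep.ker).card = 3 := by
          rw [Finset.card_insert_of_notMem, Finset.card_pair]
          · exact fun h => hne' (congrArg Subtype.val h).symm
          · simp only [Finset.mem_insert, Finset.mem_singleton, not_or]
            exact ⟨fun h => hk1 (congrArg Subtype.val h).symm, fun h => hx1 (congrArg Subtype.val h).symm⟩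
        have h4 := Finset.card_le_univ ({1, ⟨k, hk⟩, ⟨_, hx⟩} : Finset rep.ker)
        rw [h3, ← Nat.card_eq_fintype_card] at h4
        omega
    rw [center_St] at hcen
    exact le_bot_iff.1 hcen
  have hev : ∀ w w' : List (ℕ × F2), (∀ i, app w i = app w' i) → toG w = toG w' := fun w w' h => by
    refine congrArg e (hinj ?_)
    rw [rep_stWord, rep_stWord, ev_eq h]
  have happ : ∀ w w' : List (ℕ × F2), toG (w ++ w') = toG w * toG w' := fun w w' => by
    show e _ = e _ * e _
    rw [← map_mul, ← map_mul]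
    simp [ChevalleyDatum.stWord, List.map_append, List.prod_append]
  have hnil : toG [] = 1 := by simp [toG, ChevalleyDatum.stWord]
  set a0 := toG wa
  set y := toG wy
  have ha0 : orderOf a0 = 7 := by
    refine orderOf_eq_prime ?_ fun h => ?_
    · have h := hev (wa ++ wa ++ wa ++ wa ++ wa ++ wa ++ wa) [] fun i => (witness_ok i).1
      simp only [happ, hnil] at h
      rw [← h]
      simp [pow_succ, a0, mul_assoc]
    · obtain ⟨i, hi⟩ := witness_ne
      refine hi ?_
      have h' : toG wa = toG [] := by rw [hnil]; exact h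
      have := congrArg rep (e.injective h')
      rw [rep_stWord, rep_stWord] at this
      rw [← ev_apply, this, ev_apply]
      rfl
  have hya : y * a0 * y⁻¹ = a0 ^ 3 := by
    have h := hev (wy ++ wa) (wa ++ wa ++ wa ++ wy) fun i => (witness_ok i).2
    simp only [happ] at h
    rw [h]
    simp [pow_succ, a0, y, mul_assoc]
    exact mul_inv_cancel _
  exact no14_abstract hcard hDc (fun x hx => hD x hx) a0 y ha0 hya g hg

end Cfsg.Agent.G22Rec
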