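import Cfsg.Agent.Lib.G22Rec.Psi
import Cfsg.Agent.Lib.Char.Basic
import Cfsg.Agent.Lib.Char.Integral
import Cfsg.Agent.Lib.Blocks.RegTrExact
import Mathlib.LinearAlgebra.Matrix.GeneralLinearGroup.Defs
import Mathlib.Algebra.CharP.Lemmas

/-!
Reduction modulo a prime over 2 of a representation of degree 6 extending the one of `7 : 6`.
-/

set_option autoImplicit false
set_option linter.unusedSectionVars false
set_option linter.style.haveILetI false

namespace Cfsg.Agent.G22Rec

open Matrix Cfsg Cfsg.Agent.Char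
open scoped ComplexConjugate

universe u

variable {G : Type u} [Group G] [Finite G]

/-- The parity of an integer inside `ℂ`. -/
noncomputable def intParity (z : ℂ) : ZMod 2 :=
  open Classical in if h : ∃ n : ℤ, z = n then (h.choose : ZMod 2) else 0

theorem intParity_intCast (n : ℤ) : intParity (n : ℂ) = (n : ZMod 2) := by
  have hex : ∃ m : ℤ, ((n : ℤ) : ℂ) = m := ⟨n, rfl⟩
  rw [intParity, dif_pos hex]
  congr 1
  exact_mod_cast hex.choose_spec.symm

/-- An integer-valued class function on the odd parts, read modulo 2 on the whole group. -/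
noncomputable def parity (χ : G → ℂ) (g : G) : ZMod 2 := intParity (χ (g ^ 64))

variable {R : G →* Matrix (Fin 6) (Fin 6) ℂ}

/-- The representation of a matrix homomorphism. -/
noncomputable def repOf (R : G →* Matrix (Fin 6) (Fin 6) ℂ) : Representation ℂ G (Fin 6 → ℂ) :=
  (Matrix.toLinAlgEquiv' : Matrix (Fin 6) (Fin 6) ℂ ≃ₐ[ℂ] _).toRingEquiv.toMonoidHom.comp R

theorem character_repOf (R : G →* Matrix (Fin 6) (Fin 6) ℂ) (g : G) :
    (repOf R).character g = (R g).trace :=
  Matrix.trace_toLin'_eq (R g)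

theorem isCharacter_trace (R : G →* Matrix (Fin 6) (Fin 6) ℂ) :
    IsCharacter G (fun g => (R g).trace) := by
  rw [show (fun g => (R g).trace) = (repOf R).character from funext fun g => (character_repOf R g).symm]
  exact isCharacter_of_rep _

theorem trace_conj (g h : G) : (R (h * g * h⁻¹)).trace = (R g).trace := by
  rw [map_mul, Matrix.trace_mul_comm, ← map_mul, ← mul_assoc, inv_mul_cancel, one_mul]

theorem parity_conj (g h : G) :
    parity (fun x => (R x).trace) (h * g * h⁻¹) = parity (fun x => (R x).trace) g := by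
  simp only [parity, conj_pow, trace_conj]

/-- Every value on an element whose order divides `189` is an integer. -/
abbrev OddRational (R : G →* Matrix (Fin 6) (Fin 6) ℂ) : Prop :=
  ∀ g : G, ∃ n : ℤ, (R (g ^ 64)).trace = n

theorem parity_inv (hR : OddRational R) (g : G) :
    parity (fun x => (R x).trace) g⁻¹ = parity (fun x => (R x).trace) g := by
  obtain ⟨n, hn⟩ := hR g
  have h : (R (g⁻¹ ^ 64)).trace = (R (g ^ 64)).trace := by
    rw [inv_pow]
    refine (IsCharacter.inv (isCharacter_trace R) (g ^ 64)).trans ?_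
    show conj ((R (g ^ 64)).trace) = _
    rw [hn, map_intCast]
  simp only [parity, h]

theorem two_mem {M : Ideal AlgInt} (hM : IsPModular 2 M) : (2 : AlgInt) ∈ M := by
  exact_mod_cast hM.2.2

theorem pow64_sum {A : Type*} [CommRing A] (h2 : (2 : A) = 0) (s : Multiset A) :
    s.sum ^ 64 = (s.map (fun z => z ^ 64)).sum := by
  haveI : ExpChar A 2 ∨ Subsingleton A := by
    rcases subsingleton_or_nontrivial A with h | h
    · exact Or.inr h
    · haveI : CharP A 2 := (CharTwo.of_one_ne_zero_of_two_eq_zero one_ne_zero h2)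
      exact Or.inl inferInstance
  induction s using Multiset.induction_on with
  | empty => simp
  | cons a s ih =>
    rcases this with h | h
    · rw [Multiset.sum_cons, show (64 : ℕ) = 2 ^ 6 from rfl, add_pow_expChar_pow, Multiset.map_cons,
        Multiset.sum_cons, ← show (64 : ℕ) = 2 ^ 6 from rfl, ih]
    · exact Subsingleton.elim _ _

/-- The residue of a value is its parity. -/
theorem exists_residue (hR : OddRational R) {M : Ideal AlgInt} (hM : IsPModular 2 M) (g : G) :
    ∃ c : AlgInt, (c : ℂ) = (R g).trace ∧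
      Ideal.Quotient.mk M c = ((parity (fun x => (R x).trace) g).val : AlgInt ⧸ M) := by
  haveI : M.IsMaximal := hM.2.1
  haveI : Fact (Nat.Prime 2) := ⟨Nat.prime_two⟩
  obtain ⟨S, -, hroot, hval, -⟩ := exists_eigenvalues (repOf R) g
  have hint : ∀ z ∈ S, z ∈ AlgInt := fun z hz =>
    (mem_integralClosure_iff ℤ ℂ).2 (isIntegral_of_pow_eq_one (orderOf_pos g) (hroot z hz))
  let T : Multiset AlgInt := S.attach.map fun z => (⟨z.1, hint z.1 z.2⟩ : AlgInt)
  have hT : T.map Subtype.val = S := by
    rw [Multiset.map_map]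
    exact Multiset.attach_map_val S
  clear_value T
  have hk : ∀ k : ℕ, (((T.map fun z => z ^ k).sum : AlgInt) : ℂ) = (R (g ^ k)).trace := by
    intro k
    rw [← character_repOf, hval k, ← hT,
      show (((T.map fun z => z ^ k).sum : AlgInt) : ℂ) =
        (AlgInt.val : AlgInt →ₐ[ℤ] ℂ) (T.map fun z => z ^ k).sum from rfl,
      map_multiset_sum, Multiset.map_map, Multiset.map_map]
    refine congrArg Multiset.sum (Multiset.map_congr rfl fun z _ => ?_)
    simp
  have h1 := hk 1
  simp only [pow_one, Multiset.map_id'] at h1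
  refine ⟨T.sum, h1, ?_⟩
  obtain ⟨n, hn⟩ := hR g
  have hn' : ((T.map fun z => z ^ 64).sum : AlgInt) = (n : AlgInt) := by
    apply Subtype.ext
    rw [hk 64, hn]
    simp
  have hpar : parity (fun x => (R x).trace) g = (n : ZMod 2) := by
    rw [parity]
    show intParity (R (g ^ 64)).trace = _
    rw [hn, intParity_intCast]
  have h2 : (2 : AlgInt ⧸ M) = 0 := by
    rw [← map_ofNat (Ideal.Quotient.mk M) 2, Ideal.Quotient.eq_zero_iff_mem]
    exact two_mem hM
  set w := Ideal.Quotient.mk M T.sum with hw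
  have hpow : w ^ 64 = ((n : ℤ) : AlgInt ⧸ M) := by
    rw [hw, map_multiset_sum, pow64_sum h2, Multiset.map_map]
    have := congrArg (Ideal.Quotient.mk M) hn'
    rw [map_multiset_sum, Multiset.map_map, map_intCast] at this
    rw [← this]
    refine congrArg Multiset.sum (Multiset.map_congr rfl fun z _ => ?_)
    simp
  rw [hpar]
  haveI : CharP (AlgInt ⧸ M) 2 := CharTwo.of_one_ne_zero_of_two_eq_zero one_ne_zero h2
  have hcast : ((n : ℤ) : AlgInt ⧸ M) = (((n : ZMod 2).val : ℕ) : AlgInt ⧸ M) := by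
    rw [← Int.cast_natCast (R := AlgInt ⧸ M), ZMod.val_intCast, CharP.intCast_eq_intCast (AlgInt ⧸ M) 2]
    exact (Int.mod_modEq n 2).symm
  rw [hcast] at hpow
  haveI : ExpChar (AlgInt ⧸ M) 2 := inferInstance
  refine (frobenius_inj (AlgInt ⧸ M) 2).iterate 6 ?_
  rw [← coe_iterateFrobenius, iterateFrobenius_def, iterateFrobenius_def]
  show w ^ 2 ^ 6 = ((ZMod.val (n : ZMod 2) : ℕ) : AlgInt ⧸ M) ^ 2 ^ 6
  have : (ZMod.val (n : ZMod 2)) = 0 ∨ (ZMod.val (n : ZMod 2)) = 1 := by
    have := ZMod.val_lt (n : ZMod 2); omega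
  rw [show (2 : ℕ) ^ 6 = 64 from rfl, hpow]
  rcases this with h | h <;> rw [h] <;> norm_num

variable {f : Idx → G}

/-- The reduction modulo 2. -/
noncomputable def redMat (R : G →* Matrix (Fin 6) (Fin 6) ℂ) (f : Idx → G) (g : G) :
    Matrix (Fin 6) (Fin 6) (ZMod 2) :=
  ∑ n : Idx, parity (fun x => (R x).trace) (g * f (iinv n)) • (rho n).map (Int.cast : ℤ → ZMod 2)

variable (hf : ∀ n m, f (imul n m) = f n * f m) (hθ : ∀ n, (R (f n)).trace = theta n)
  (hR : OddRational R)
include hf hθ hR

theorem redMat_spec (g h : G) (m : Idx) :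
    redMat R f g * redMat R f h = redMat R f (g * h) ∧
      redMat R f (f m) = (rho m).map (Int.cast : ℤ → ZMod 2) := by
  obtain ⟨M, hM⟩ := Cfsg.Agent.GlaubermanMod.exists_isPModular 2
  haveI : M.IsMaximal := hM.2.1
  haveI : Fact (Nat.Prime 2) := ⟨Nat.prime_two⟩
  choose c hc hcM using exists_residue hR hM
  let P : G → Matrix (Fin 6) (Fin 6) AlgInt := fun x =>
    ∑ n : Idx, c (x * f (iinv n)) • (rho n).map (Int.cast : ℤ → AlgInt)
  let ι : AlgInt →+* ℂ := AlgInt.val.toRingHom
  let π : AlgInt →+* AlgInt ⧸ M := Ideal.Quotient.mk M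
  have h2 : (2 : AlgInt ⧸ M) = 0 := by
    rw [← map_ofNat π 2, Ideal.Quotient.eq_zero_iff_mem]
    exact two_mem hM
  haveI : CharP (AlgInt ⧸ M) 2 := CharTwo.of_one_ne_zero_of_two_eq_zero one_ne_zero h2
  let κ : ZMod 2 →+* AlgInt ⧸ M := ZMod.castHom (dvd_refl 2) _
  have hι : Function.Injective (ι.mapMatrix : Matrix (Fin 6) (Fin 6) AlgInt →+* _) := Matrix.map_injective Subtype.val_injective
  have hιP : ∀ x, ι.mapMatrix (P x) = (7 : ℂ) • conjHom hf hθ x := by
    intro x
    rw [conjHom_apply hf hθ, smul_inv_smul₀ (by norm_num : (7 : ℂ) ≠ 0)]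
    simp only [P, map_sum]
    refine Finset.sum_congr rfl fun n _ => ?_
    ext i j
    simp [ι, rhoC, hc]
  have hπP : ∀ x, π.mapMatrix (P x) = κ.mapMatrix (redMat R f x) := by
    intro x
    simp only [P, redMat, map_sum]
    refine Finset.sum_congr rfl fun n _ => ?_
    ext i j
    simp [π, κ, hcM, ZMod.natCast_val]
  have hκ : Function.Injective (κ.mapMatrix : Matrix (Fin 6) (Fin 6) (ZMod 2) →+* _) := Matrix.map_injective κ.injective
  have h7 : (7 : AlgInt ⧸ M) = 1 := by
    have e : (7 : AlgInt ⧸ M) = 1 + 3 * 2 := by norm_num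
    rw [e, h2, mul_zero, add_zero]
  constructor
  · have e : P g * P h = (7 : AlgInt) • P (g * h) := by
      refine hι ?_
      rw [map_mul, hιP, hιP, Matrix.smul_mul, Matrix.mul_smul, ← map_mul, ← hιP]
      ext i j
      simp [ι]
      exact Or.inl (map_ofNat ι 7).symm
    refine hκ ?_
    rw [map_mul, ← hπP, ← hπP, ← map_mul, e, ← hπP]
    ext i j
    simp [π, map_ofNat, h7]
  · have e : P (f m) = (7 : AlgInt) • (rho m).map (Int.cast : ℤ → AlgInt) := by
      refine hι ?_
      rw [hιP, conjHom_f]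
      ext i j
      simp [ι, rhoC]
      exact Or.inl (map_ofNat ι 7).symm
    refine hκ ?_
    rw [← hπP, e]
    ext i j
    simp [π, κ, map_ofNat, h7]

/-- The reduction as a homomorphism. -/
noncomputable def redHom : G →* Matrix (Fin 6) (Fin 6) (ZMod 2) where
  toFun := redMat R f
  map_one' := by
    rw [← f_one hf hθ, (redMat_spec hf hθ hR 1 1 ione).2, rho_one]
    exact Matrix.map_one _ Int.cast_zero Int.cast_one
  map_mul' g h := (redMat_spec hf hθ hR g h ione).1.symm

theorem redHom_f (m : Idx) : redHom hf hθ hR (f m) = (rho m).map (Int.cast : ℤ → ZMod 2) :=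
  (redMat_spec hf hθ hR 1 1 m).2

/-- The reduction preserves the alternating form. -/
theorem redHom_form (g : G) :
    (redHom hf hθ hR g)ᵀ * formJ * redHom hf hθ hR g = formJ := by
  set Φ := redHom hf hθ hR
  set ε := parity (fun x => (R x).trace)
  have hJ : (Φ g⁻¹)ᵀ * formJ = formJ * Φ g := by
    show (redMat R f g⁻¹)ᵀ * formJ = formJ * redMat R f g
    simp only [redMat, Matrix.transpose_sum, Matrix.transpose_smul, Finset.sum_mul, Finset.mul_sum,
      Matrix.smul_mul, Matrix.mul_smul]
    refine Finset.sum_nbij' iinv iinv (by simp) (by simp) (fun n _ => (imul_iinv n).2.2.2.2)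
      (fun n _ => (imul_iinv n).2.2.2.2) fun n _ => ?_
    have hfi : f (iinv n) = (f n)⁻¹ := eq_inv_of_mul_eq_one_left <| by
      rw [← hf, (imul_iinv n).2.1, f_one hf hθ]
    rw [← rho_formJ (iinv n), (imul_iinv n).2.2.2.2]
    congr 1
    rw [hfi, ← parity_inv hR, _root_.mul_inv_rev, inv_inv, inv_inv, ← parity_conj (f n * g) (f n)⁻¹]
    congr 1
    group
  have h := congrArg (fun A : Matrix (Fin 6) (Fin 6) (ZMod 2) => (Φ g)ᵀ * A) hJ
  rw [← Matrix.mul_assoc, ← Matrix.transpose_mul, ← map_mul, inv_mul_cancel, map_one,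
    Matrix.transpose_one, Matrix.one_mul, ← Matrix.mul_assoc] at h
  exact h.symm

end Cfsg.Agent.G22Rec
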