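import Cfsg.Agent.Lib.G22Rec.SixRep

/-!
The group is not perfect.
-/

set_option autoImplicit false
set_option linter.unusedSectionVars false
set_option linter.style.haveILetI false
set_option maxHeartbeats 1000000

namespace Cfsg.Agent.G22Rec

open Cfsg Cfsg.Agent.Char Cfsg.Agent.Blocks Cfsg.Agent.SmallN Cfsg.Agent.BrauerPairs
open scoped ComplexConjugate commutatorElement

universe u

variable {G : Type u} [Group G] [Fintype G]

open Classical in
theorem sum_deg_sq_le (s : Finset (IrrCharacter G)) :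
    ∑ χ ∈ s, charDegree (χ : G → ℂ) ^ 2 ≤ Nat.card G := by
  have h : ((∑ χ : IrrCharacter G, charDegree (χ : G → ℂ) ^ 2 : ℕ) : ℂ) = (Nat.card G : ℂ) := by
    rw [← sum_sq_degree]
    push_cast
    exact Finset.sum_congr rfl fun χ _ => by rw [irr_one_eq_charDegree]
  rw [← Nat.cast_inj.1 h]
  exact Finset.sum_le_sum_of_subset (Finset.subset_univ s)

theorem eq_principal_of_deg_one (hperf : commutator G = ⊤) {χ : IrrCharacter G}
    (h : charDegree (χ : G → ℂ) = 1) : χ = principal G := by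
  obtain ⟨l, hl⟩ := exists_hom_of_degree_one (IsIrrCharacter.isCharacter χ.2)
    (by rw [irr_one_eq_charDegree, h, Nat.cast_one])
  refine Subtype.ext (funext fun g => ?_)
  rw [hl]
  show ((l g : ℂˣ) : ℂ) = 1
  rw [MonoidHom.mem_ker.1 (Abelianization.commutator_subset_ker l (hperf ▸ Subgroup.mem_top g)),
    Units.val_one]

theorem degree_list : ∀ d < 110, d ∣ 12096 → (d % 7 = 1 ∨ d % 7 = 6) →
    d = 1 ∨ d = 6 ∨ d = 8 ∨ d = 27 ∨ d = 36 ∨ d = 48 ∨ d = 64 := by
  decide +kernel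

theorem counts_solve {a b c u v : ℕ} (h : a + b + c + u + v = 6)
    (hr : 1 + 8 * a + 36 * b + 64 * c = 27 * u + 48 * v)
    (hs : 64 * a + 1296 * b + 4096 * c + 729 * u + 2304 * v ≤ 12095) :
    (a = 2 ∧ b = 0 ∧ c = 1 ∧ u = 3 ∧ v = 0) ∨ (a = 1 ∧ b = 2 ∧ c = 0 ∧ u = 3 ∧ v = 0) := by
  have hc : c ≤ 2 := by omega
  have hv : v ≤ 5 := by omega
  have hb : b ≤ 6 := by omega
  interval_cases c <;> interval_cases v <;> interval_cases b <;> omega

theorem no_case_one : ∀ C ∈ ([6, 12, 24, 48, 96, 192] : List ℤ), ∀ W ∈ ([0, 4, 8] : List ℤ),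
    ∀ U ∈ ([0, 4, 16, 36, 64, 100] : List ℤ), C * C ≠ 216 * W + 27 * U := by
  decide +kernel

theorem no_case_two : ∀ C ∈ ([6, 12, 24, 48, 96, 192] : List ℤ), ∀ W ∈ ([0, 4] : List ℤ),
    ∀ U ∈ ([0, 4, 16, 36] : List ℤ), ∀ U' ∈ ([0, 4, 16, 36] : List ℤ),
      C * C ≠ 216 * W + 48 * (U + U') := by
  decide +kernel

theorem cent_options_aux : ∀ C : ℕ, C < 193 → C ∣ 192 → 6 ∣ C →
    C = 6 ∨ C = 12 ∨ C = 24 ∨ C = 48 ∨ C = 96 ∨ C = 192 := by
  decide +kernel

theorem cent_options {C : ℕ} (h1 : C ∣ 1728) (h2 : C ∣ 1344) (h6 : 6 ∣ C) :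
    C = 6 ∨ C = 12 ∨ C = 24 ∨ C = 48 ∨ C = 96 ∨ C = 192 :=
  have h : C ∣ 192 := (Nat.dvd_gcd h1 h2).trans (by norm_num)
  cent_options_aux C (Nat.lt_succ_of_le (Nat.le_of_dvd (by norm_num) h)) h h6

theorem f_idx_three : ∀ i : Fin 7, imul (i, 3) (i, 3) = ione ∧
    (∀ m : Idx, imul m m = ione → imul (imul m (1, 0)) (iinv m) = (6, 0) → m.2 = 3) ∧
    imul (iinv (i, 3)) (1, 0) = (i - 1, 3) := by
  decide +kernel

open scoped Classical

theorem Hyp.not_perfect (H : Hyp G) (hperf : commutator G = ⊤) : False := by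
  haveI : IsSimpleGroup G := by
    haveI := H.isSimple_commutator
    haveI : Nontrivial G := Finite.one_lt_card_iff_nontrivial.1 (by rw [H.card]; norm_num)
    exact IsSimpleGroup.isSimpleGroup_of_surjective
      ((MulEquiv.subgroupCongr hperf).trans Subgroup.topEquiv).toMonoidHom
      ((MulEquiv.subgroupCongr hperf).trans Subgroup.topEquiv).surjective
  obtain ⟨f, hf, hinj, h7, hN⟩ := H.exists_f
  set a := f (1, 0) with hadef
  set A := Subgroup.zpowers a
  have ha1 : a ≠ 1 := fun h => by rw [h, orderOf_one] at h7; norm_num at h7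
  have h49 : ¬ 49 ∣ Nat.card G := by rw [H.card]; norm_num
  obtain ⟨V, e, X, Y, δ, sg, B, hV⟩ :=
    exists_block h7 h49 (fun c hc => H.commute_seven h7 hc)
  -- the block has seven characters
  haveI : Fact (Nat.Prime 7) := ⟨by norm_num⟩
  have hnorm : Nat.card (Subgroup.normalizer (A : Set G)) = 42 := by
    obtain ⟨S, hS⟩ := (IsPGroup.of_card (p := 7) (n := 1)
      (show Nat.card A = 7 ^ 1 by rw [Nat.card_zpowers, h7, pow_one])).exists_le_sylow
    rw [show A = (S : Subgroup G) from Subgroup.eq_of_le_of_card_ge hS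
      (by rw [((H.card_sylow_seven).2 S).1, Nat.card_zpowers, h7])]
    exact ((H.card_sylow_seven).2 S).2
  have he : e = 6 := by
    have := B.cardN
    rw [hnorm, hV] at this
    omega
  have hY : Y.card = 1 := by
    have := B.cardY
    rw [he] at this
    omega
  obtain ⟨θ, hθ⟩ := Finset.card_eq_one.1 hY
  have hθY : θ ∈ Y := hθ ▸ Finset.mem_singleton_self θ
  set Z := X ∪ Y
  have hZ : Z.card = 7 := by rw [Finset.card_union_of_disjoint B.disj, B.cardX, hY, he]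
  let σ : IrrCharacter G → ℤ := fun χ => if χ ∈ X then sg χ else δ
  have hσY : ∀ χ ∈ Y, σ χ = δ := fun χ hχ => by
    simp only [σ, if_neg (fun h => Finset.disjoint_left.1 B.disj h hχ)]
  have hσX : ∀ χ ∈ X, σ χ = sg χ := fun χ hχ => by simp only [σ, if_pos hχ]
  have hval : ∀ χ ∈ Z, ∀ y ∈ A, y ≠ 1 → (χ : G → ℂ) y = σ χ := by
    intro χ hχ y hy hy1
    rcases Finset.mem_union.1 hχ with h | h
    · rw [hσX χ h, B.valX χ h y hy hy1]
    · rw [hσY χ h]
      have := B.col_Y hV hy hy1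
      rw [hθ, Finset.sum_singleton] at this
      rw [hθ, Finset.mem_singleton] at h
      rw [h, this]
  have hsig : ∀ χ ∈ Z, σ χ = 1 ∨ σ χ = -1 := by
    intro χ hχ
    rcases Finset.mem_union.1 hχ with h | h
    · rw [hσX χ h]; exact B.signX χ h
    · rw [hσY χ h]; exact B.sign
  have hmod : ∀ χ ∈ Z, (charDegree (χ : G → ℂ) : ℤ) % 7 = σ χ % 7 := by
    intro χ hχ
    rcases Finset.mem_union.1 hχ with h | h
    · rw [hσX χ h]; exact B.modX χ h
    · rw [hσY χ h]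
      have h' : (charDegree (χ : G → ℂ) : ℤ) % 7 = (-(δ * 6)) % 7 := by
        have := B.modY χ h
        rw [he] at this
        exact_mod_cast this
      rw [h']
      omega
  have hrel : ∑ χ ∈ Z, σ χ * (charDegree (χ : G → ℂ) : ℤ) = 0 := by
    rw [Finset.sum_union B.disj, Finset.sum_congr rfl fun χ hχ => by rw [hσX χ hχ],
      hθ, Finset.sum_singleton, hσY θ hθY]
    exact B.relation_one hθY
  have hsum : ∀ F : IrrCharacter G → ℂ,
      ∑ χ : IrrCharacter G, F χ * conj ((χ : G → ℂ) a) = ∑ χ ∈ Z, F χ * (σ χ : ℂ) := by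
    intro F
    rw [sum_block_conj B hV ha1, Finset.sum_union B.disj]
    congr 1
    · exact Finset.sum_congr rfl fun χ hχ => by rw [hσX χ hχ]
    · refine Finset.sum_congr rfl fun χ hχ => ?_
      rw [hval χ (Finset.mem_union_right _ hχ) a (Subgroup.mem_zpowers a) ha1, map_intCast]
  have hp : principal G ∈ Z := Finset.mem_union.2 B.prin
  have hp1 : charDegree (principal G : G → ℂ) = 1 := by simp [Cfsg.charDegree, principal]
  have hσp : σ (principal G) = 1 := by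
    have h := hval _ hp a (Subgroup.mem_zpowers a) ha1
    simp only [principal] at h
    exact_mod_cast h.symm
  set Z' := Z.erase (principal G)
  have hdeg : ∀ χ ∈ Z', (σ χ = 1 ∧ (charDegree (χ : G → ℂ) = 8 ∨ charDegree (χ : G → ℂ) = 36 ∨
      charDegree (χ : G → ℂ) = 64)) ∨ (σ χ = -1 ∧ (charDegree (χ : G → ℂ) = 27 ∨
      charDegree (χ : G → ℂ) = 48)) := by
    intro χ hχ
    obtain ⟨hne, hχZ⟩ := Finset.mem_erase.1 hχ
    set d := charDegree (χ : G → ℂ) with hd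
    have hd12 : d ∣ 12096 := H.card ▸ charDegree_dvd_card χ
    have hlt : d < 110 := by
      have h := sum_deg_sq_le ({χ} : Finset (IrrCharacter G))
      rw [Finset.sum_singleton, H.card] at h
      nlinarith
    have hm := hmod χ hχZ
    have hs := hsig χ hχZ
    have h16 : d % 7 = 1 ∨ d % 7 = 6 := by rcases hs with h | h <;> rw [h] at hm <;> omega
    have h6 : d ≠ 6 := by
      intro h6
      have hs1 : σ χ = -1 := by rcases hs with h | h <;> omega
      refine false_of_perfect hf h7 hperf (IsIrrCharacter.isCharacter χ.2)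
        (by rw [irr_one_eq_charDegree, ← hd, h6]; norm_num) fun y hy hy1 => ?_
      rw [hval χ hχZ y hy hy1, hs1]
      norm_num
    have h1 : d ≠ 1 := fun h => hne (eq_principal_of_deg_one hperf h)
    rcases degree_list d hlt hd12 h16 with h | h | h | h | h | h | h <;>
      rcases hs with h' | h' <;> omega
  -- the five possible degrees
  let T : ℕ → Finset (IrrCharacter G) := fun d => Z'.filter fun χ => charDegree (χ : G → ℂ) = d
  have hsplit : ∀ F : IrrCharacter G → ℤ, ∑ χ ∈ Z', F χ = ∑ χ ∈ T 8, F χ + (∑ χ ∈ T 36, F χ +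
      (∑ χ ∈ T 64, F χ + (∑ χ ∈ T 27, F χ + ∑ χ ∈ T 48, F χ))) := by
    intro F
    rw [← Finset.sum_fiberwise_of_maps_to (t := ({8, 36, 64, 27, 48} : Finset ℕ))
      (g := fun χ : IrrCharacter G => charDegree (χ : G → ℂ)) (fun χ hχ => by
        rcases hdeg χ hχ with ⟨-, h | h | h⟩ | ⟨-, h | h⟩ <;> simp [h])]
    simp [Finset.sum_insert, T]
  have hTσ : ∀ d, ∀ χ ∈ T d, charDegree (χ : G → ℂ) = d ∧
      (d = 8 ∨ d = 36 ∨ d = 64 → σ χ = 1) ∧ (d = 27 ∨ d = 48 → σ χ = -1) := by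
    intro d χ hχ
    obtain ⟨h1, h2⟩ := Finset.mem_filter.1 hχ
    refine ⟨h2, fun h => ?_, fun h => ?_⟩ <;>
      rcases hdeg χ h1 with ⟨hs, h'⟩ | ⟨hs, h'⟩ <;> omega
  have hconst : ∀ (d : ℕ) (F : IrrCharacter G → ℤ) (k : ℤ), (∀ χ ∈ T d, F χ = k) →
      ∑ χ ∈ T d, F χ = (T d).card * k := fun d F k h => by
    rw [Finset.sum_congr rfl h, Finset.sum_const, nsmul_eq_mul]
  have hcard6 : (T 8).card + ((T 36).card + ((T 64).card + ((T 27).card + (T 48).card))) = 6 := by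
    have h := hsplit fun _ => 1
    rw [Finset.sum_const, Finset.card_erase_of_mem hp, hZ, hconst 8 _ 1 (fun _ _ => rfl),
      hconst 36 _ 1 (fun _ _ => rfl), hconst 64 _ 1 (fun _ _ => rfl), hconst 27 _ 1 (fun _ _ => rfl),
      hconst 48 _ 1 (fun _ _ => rfl)] at h
    simp only [nsmul_eq_mul, mul_one] at h
    omega
  have hr : 1 + 8 * (T 8).card + 36 * (T 36).card + 64 * (T 64).card =
      27 * (T 27).card + 48 * (T 48).card := by
    have h := hrel
    rw [← Finset.add_sum_erase _ _ hp, hσp, hp1, hsplit,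
      hconst 8 _ 8 (fun χ hχ => by obtain ⟨h1, h2, -⟩ := hTσ 8 χ hχ; rw [h1, h2 (by norm_num)]; norm_num),
      hconst 36 _ 36 (fun χ hχ => by obtain ⟨h1, h2, -⟩ := hTσ 36 χ hχ; rw [h1, h2 (by norm_num)]; norm_num),
      hconst 64 _ 64 (fun χ hχ => by obtain ⟨h1, h2, -⟩ := hTσ 64 χ hχ; rw [h1, h2 (by norm_num)]; norm_num),
      hconst 27 _ (-27) (fun χ hχ => by obtain ⟨h1, -, h2⟩ := hTσ 27 χ hχ; rw [h1, h2 (by norm_num)]; norm_num),
      hconst 48 _ (-48) (fun χ hχ => by obtain ⟨h1, -, h2⟩ := hTσ 48 χ hχ; rw [h1, h2 (by norm_num)]; norm_num)] at h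
    omega
  have hsq : 64 * (T 8).card + 1296 * (T 36).card + 4096 * (T 64).card + 729 * (T 27).card +
      2304 * (T 48).card ≤ 12095 := by
    have h := sum_deg_sq_le Z
    rw [← Finset.add_sum_erase _ _ hp, hp1, H.card] at h
    have h' := hsplit fun χ => ((charDegree (χ : G → ℂ) : ℤ)) ^ 2
    rw [hconst 8 _ 64 (fun χ hχ => by rw [(hTσ 8 χ hχ).1]; norm_num),
      hconst 36 _ 1296 (fun χ hχ => by rw [(hTσ 36 χ hχ).1]; norm_num),
      hconst 64 _ 4096 (fun χ hχ => by rw [(hTσ 64 χ hχ).1]; norm_num),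
      hconst 27 _ 729 (fun χ hχ => by rw [(hTσ 27 χ hχ).1]; norm_num),
      hconst 48 _ 2304 (fun χ hχ => by rw [(hTσ 48 χ hχ).1]; norm_num)] at h'
    have h'' : ((∑ χ ∈ Z', charDegree (χ : G → ℂ) ^ 2 : ℕ) : ℤ) ≤ 12095 := by
      have h1 : 1 ^ 2 + ∑ χ ∈ Z', charDegree (χ : G → ℂ) ^ 2 ≤ 12096 := by convert h
      have : ∑ χ ∈ Z', charDegree (χ : G → ℂ) ^ 2 ≤ 12095 := by omega
      exact_mod_cast this
    push_cast at h''
    omega
  have hsol := counts_solve (a := (T 8).card) (b := (T 36).card) (c := (T 64).card) (u := (T 27).card)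
    (v := (T 48).card) (by omega) hr hsq
  -- the involution `x`
  set x := f (0, 3) with hxdef
  have hx2 : orderOf x = 2 := by
    refine orderOf_eq_prime ?_ fun h => ?_
    · rw [sq, ← hf, (f_idx_three 0).1, f_ione hf]
    · have := hinj (h.trans (f_ione hf).symm)
      exact absurd this (by decide)
  have hv : ∀ χ ∈ Z, ∃ v : ℤ, (χ : G → ℂ) x = v ∧
      7 * v ≤ charDegree (χ : G → ℂ) + 6 * σ χ ∧ -(7 * v) ≤ charDegree (χ : G → ℂ) + 6 * σ χ ∧
      v % 2 = (charDegree (χ : G → ℂ) : ℤ) % 2 := fun χ hχ =>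
    value_invol hf (IsIrrCharacter.isCharacter χ.2) h7 hx2 (irr_one_eq_charDegree χ) (hval χ hχ)
  choose! v hv1 hv2 hv3 hv4 using hv
  have hpairs : pairsCount x a = 7 := by
    rw [pairsCount, Finset.card_eq_of_bijective (fun i hi => f (Fin.ofNat 7 i, 3)) ?_ ?_ ?_]
    · intro b hb
      obtain ⟨-, hb1, hb2⟩ := Finset.mem_filter.1 hb
      obtain ⟨c, hc⟩ := isConj_iff.1 hb1
      have hbb : b * b = 1 := by
        rw [← hc, show c * x * c⁻¹ * (c * x * c⁻¹) = c * (x ^ 2) * c⁻¹ by rw [sq]; group, ← hx2,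
          pow_orderOf_eq_one]
        group
      obtain ⟨c', hc'⟩ := isConj_iff.1 hb2
      have hba : (b⁻¹ * a) * (b⁻¹ * a) = 1 := by
        rw [← hc', show c' * x * c'⁻¹ * (c' * x * c'⁻¹) = c' * (x ^ 2) * c'⁻¹ by rw [sq]; group, ← hx2,
          pow_orderOf_eq_one]
        group
      have hbi : b⁻¹ = b := inv_eq_of_mul_eq_one_right hbb
      have hinv : b * a * b⁻¹ = a⁻¹ := by
        rw [hbi] at hba ⊢
        exact eq_inv_of_mul_eq_one_left (by rw [← hba]; group)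
      obtain ⟨⟨i, j⟩, rfl⟩ := hN b (by rw [hinv]; exact inv_mem (Subgroup.mem_zpowers a))
      have hj : j = 3 := (f_idx_three 0).2.1 (i, j) (hinj (by rw [hf, hbb, f_ione hf]))
        (hinj (by
          rw [hf, hf, f_iinv hf, hinv, show ((6 : Fin 7), (0 : Fin 6)) = iinv (1, 0) by decide, f_iinv hf]))
      subst hj
      exact ⟨i, i.isLt, by simp⟩
    · intro i hi
      refine Finset.mem_filter.2 ⟨Finset.mem_univ _, row_isConj hf (by decide), ?_⟩
      rw [hadef, ← f_iinv hf, ← hf, (f_idx_three _).2.2]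
      exact row_isConj hf (by decide)
    · intro i j hi hj h
      have := congrArg Prod.fst (hinj h)
      simpa [Fin.ext_iff, Nat.mod_eq_of_lt hi, Nat.mod_eq_of_lt hj] using this
  set C := Nat.card (Subgroup.centralizer ({x} : Set G))
  have hidx : C * (Subgroup.centralizer ({x} : Set G)).index = 12096 := by
    rw [Subgroup.card_mul_index, H.card]
  have hidxC : (C : ℂ) * ((Subgroup.centralizer ({x} : Set G)).index : ℂ) = 12096 := by exact_mod_cast hidx
  -- the count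
  have hterm : ∀ χ ∈ Z, 1728 % charDegree (χ : G → ℂ) = 0 := by
    intro χ hχ
    by_cases h : χ = principal G
    · rw [h, hp1]
    · rcases hdeg χ (Finset.mem_erase.2 ⟨h, hχ⟩) with ⟨-, h | h | h⟩ | ⟨-, h | h⟩ <;> rw [h]
  have hcount : ((C : ℤ) * C) =
      ∑ χ ∈ Z, σ χ * v χ ^ 2 * ((1728 / charDegree (χ : G → ℂ) : ℕ) : ℤ) := by
    have h := pairsCount_eq x a
    rw [hpairs, H.card] at h
    rw [Finset.sum_congr rfl (g := fun χ : IrrCharacter G =>
      ((χ : G → ℂ) x ^ 2 / (χ : G → ℂ) 1) * conj ((χ : G → ℂ) a)) fun χ _ => by ring] at h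
    rw [hsum] at h
    have hE : ((∑ χ ∈ Z, σ χ * v χ ^ 2 * ((1728 / charDegree (χ : G → ℂ) : ℕ) : ℤ) : ℤ) : ℂ) =
        1728 * ∑ χ ∈ Z, (χ : G → ℂ) x ^ 2 / (χ : G → ℂ) 1 * (σ χ : ℂ) := by
      rw [Finset.mul_sum]
      rw [Int.cast_sum]
      refine Finset.sum_congr rfl fun χ hχ => ?_
      rw [Int.cast_mul, Int.cast_mul, Int.cast_pow, Int.cast_natCast,
        Nat.cast_div (Nat.dvd_of_mod_eq_zero (hterm χ hχ)) (Nat.cast_ne_zero.2 (charDegree_pos χ).ne'),
        Nat.cast_ofNat]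
      have hd0 : (charDegree (χ : G → ℂ) : ℂ) ≠ 0 := Nat.cast_ne_zero.2 (charDegree_pos χ).ne'
      rw [hv1 χ hχ, irr_one_eq_charDegree]
      field_simp
    have : ((C : ℤ) * C : ℂ) =
        ((∑ χ ∈ Z, σ χ * v χ ^ 2 * ((1728 / charDegree (χ : G → ℂ) : ℕ) : ℤ) : ℤ) : ℂ) := by
      rw [hE]
      have h' : (84672 : ℂ) * ((C : ℂ) * C) = (12096 * 12096 : ℂ) *
          ∑ χ ∈ Z, (χ : G → ℂ) x ^ 2 / (χ : G → ℂ) 1 * (σ χ : ℂ) := by
        rw [← hidxC]
        push_cast at h ⊢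
        linear_combination ((C : ℂ) * C) * h
      linear_combination h' / 84672
    exact_mod_cast this
  -- the values on the characters of degree 27
  have h6C : 6 ∣ C := by
    have hy : f (0, 1) ∈ Subgroup.centralizer ({x} : Set G) := by
      rw [Subgroup.mem_centralizer_singleton_iff, hxdef, ← hf, ← hf]
      rfl
    have ho : orderOf (f (0, 1)) = 6 := by
      have hp' : ∀ m : ℕ, f (0, 1) ^ m = f (0, Fin.ofNat 6 m) := by
        intro m
        induction m with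
        | zero => rw [pow_zero]; exact (f_ione hf).symm
        | succ m ih =>
          rw [pow_succ, ih, ← hf]
          congr 1
          refine Prod.ext (by simp [imul]) ?_
          show Fin.ofNat 6 m + 1 = Fin.ofNat 6 (m + 1)
          ext
          simp [Fin.val_add, Nat.add_mod]
      refine (orderOf_eq_iff (by norm_num)).2 ⟨by rw [hp']; exact f_ione hf, fun m hm hm0 h => ?_⟩
      rw [hp', ← f_ione hf] at h
      have := congrArg (fun n : Idx => (n.2 : ℕ)) (hinj h)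
      simp [ione, Nat.mod_eq_of_lt hm] at this
      omega
    have := Subgroup.card_dvd_of_le (Subgroup.zpowers_le.2 hy)
    rwa [Nat.card_zpowers, ho] at this
  have hC7 : ¬ 7 ∣ C := by
    intro h
    obtain ⟨⟨b, hb⟩, hbo⟩ := exists_prime_orderOf_dvd_card' 7 h
    rw [Subgroup.orderOf_mk] at hbo
    have := H.commute_seven hbo (Subgroup.mem_centralizer_singleton_iff.1 hb)
    have h2 := Subgroup.orderOf_mk x this ▸ orderOf_dvd_natCard (⟨x, this⟩ : Subgroup.zpowers b)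
    rw [hx2, Nat.card_zpowers, hbo] at h2
    norm_num at h2
  have hC1728 : C ∣ 1728 := by
    have h : C ∣ 7 * 1728 := ⟨_, hidx.symm⟩
    exact (Nat.Coprime.dvd_of_dvd_mul_left ((Nat.Prime.coprime_iff_not_dvd (by norm_num)).2 hC7).symm h)
  have h27 : ∀ χ ∈ T 27, v χ ^ 2 = 9 ∧ C ∣ 1344 := by
    intro χ hχ
    obtain ⟨hd, -, hs⟩ := hTσ 27 χ hχ
    have hχZ := (Finset.mem_erase.1 (Finset.mem_filter.1 hχ).1).2
    have h1 := hv2 χ hχZ; have h2 := hv3 χ hχZ; have h3 := hv4 χ hχZ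
    rw [hd, hs (Or.inl rfl)] at h1 h2
    rw [hd] at h3
    have hint := IsIrrCharacter.isIntegral_centralChar χ.2 x
    rw [hv1 χ hχZ, irr_one_eq_charDegree, hd] at hint
    obtain ⟨k, hk⟩ := exists_int_of_isIntegral
      (q := (((Subgroup.centralizer ({x} : Set G)).index : ℚ) * (v χ : ℚ) / 27)) (by push_cast at hint ⊢; exact hint)
    have hk' : ((Subgroup.centralizer ({x} : Set G)).index : ℤ) * v χ = 27 * k := by
      have : ((Subgroup.centralizer ({x} : Set G)).index : ℚ) * (v χ : ℚ) = 27 * k := by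
        rw [← hk]; ring
      exact_mod_cast this
    have hCk : (C : ℤ) ∣ 448 * v χ := ⟨k, by
      have hz : (C : ℤ) * ((Subgroup.centralizer ({x} : Set G)).index : ℤ) = 12096 := by exact_mod_cast hidx
      have : 27 * (448 * v χ) = 27 * ((C : ℤ) * k) := by linear_combination (C : ℤ) * hk' - v χ * hz
      linarith⟩
    have hvv : v χ = 1 ∨ v χ = -1 ∨ v χ = 3 ∨ v χ = -3 := by omega
    have h3C : (3 : ℤ) ∣ C := Int.natCast_dvd_natCast.2 ((show 3 ∣ 6 by norm_num).trans h6C)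
    have h33 := h3C.trans hCk
    rcases hvv with h | h | h | h <;> rw [h] at hCk h33 ⊢ <;> norm_num at h33
    all_goals
      refine ⟨by norm_num, ?_⟩
      exact Int.natCast_dvd_natCast.1 (by push_cast; simpa using hCk)
  have h27ne : (T 27).Nonempty := Finset.card_pos.1 (by omega)
  obtain ⟨χ0, hχ0⟩ := h27ne
  have hCopt : (C : ℤ) ∈ ([6, 12, 24, 48, 96, 192] : List ℤ) := by
    rcases cent_options hC1728 (h27 χ0 hχ0).2 h6C with h | h | h | h | h | h <;> rw [h] <;> simp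
  have hE : (C : ℤ) * C = 1728 + 216 * ∑ χ ∈ T 8, v χ ^ 2 + 48 * ∑ χ ∈ T 36, v χ ^ 2 +
      27 * ∑ χ ∈ T 64, v χ ^ 2 - 64 * 27 := by
    rw [hcount, ← Finset.add_sum_erase _ _ hp, hσp, hp1]
    have hvp : v (principal G) = 1 := by
      have h := hv1 _ hp
      simp only [principal] at h
      exact_mod_cast h.symm
    have h48 : T 48 = ∅ := Finset.card_eq_zero.1 (by omega)
    have hsumd : ∀ (d : ℕ) (s k : ℤ), (∀ χ ∈ T d, σ χ = s) → ((1728 / d : ℕ) : ℤ) = k →
        ∑ χ ∈ T d, σ χ * v χ ^ 2 * ((1728 / charDegree (χ : G → ℂ) : ℕ) : ℤ) =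
          s * k * ∑ χ ∈ T d, v χ ^ 2 := by
      intro d s k hs hk
      rw [Finset.mul_sum]
      refine Finset.sum_congr rfl fun χ hχ => ?_
      rw [(hTσ d χ hχ).1, hs χ hχ, hk]
      ring
    rw [hvp, hsplit, hsumd 8 1 216 (fun χ hχ => (hTσ 8 χ hχ).2.1 (by norm_num)) rfl,
      hsumd 36 1 48 (fun χ hχ => (hTσ 36 χ hχ).2.1 (by norm_num)) rfl,
      hsumd 64 1 27 (fun χ hχ => (hTσ 64 χ hχ).2.1 (by norm_num)) rfl,
      hsumd 27 (-1) 64 (fun χ hχ => (hTσ 27 χ hχ).2.2 (by norm_num)) rfl, h48, Finset.sum_empty,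
      hconst 27 (fun χ => v χ ^ 2) 9 (fun χ hχ => (h27 χ hχ).1)]
    norm_num
    omega
  have hw8 : ∀ χ ∈ T 8, v χ ^ 2 = 0 ∨ v χ ^ 2 = 4 := by
    intro χ hχ
    obtain ⟨hd, hs, -⟩ := hTσ 8 χ hχ
    have hχZ := (Finset.mem_erase.1 (Finset.mem_filter.1 hχ).1).2
    have h1 := hv2 χ hχZ; have h2 := hv3 χ hχZ; have h3 := hv4 χ hχZ
    rw [hd, hs (Or.inl rfl)] at h1 h2
    rw [hd] at h3
    have : v χ = 0 ∨ v χ = 2 ∨ v χ = -2 := by omega
    rcases this with h | h | h <;> rw [h] <;> norm_num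
  have hw36 : ∀ χ ∈ T 36, v χ ^ 2 ∈ ([0, 4, 16, 36] : List ℤ) := by
    intro χ hχ
    obtain ⟨hd, hs, -⟩ := hTσ 36 χ hχ
    have hχZ := (Finset.mem_erase.1 (Finset.mem_filter.1 hχ).1).2
    have h1 := hv2 χ hχZ; have h2 := hv3 χ hχZ; have h3 := hv4 χ hχZ
    rw [hd, hs (by norm_num)] at h1 h2
    rw [hd] at h3
    have : v χ = 0 ∨ v χ = 2 ∨ v χ = -2 ∨ v χ = 4 ∨ v χ = -4 ∨ v χ = 6 ∨ v χ = -6 := by omega
    rcases this with h | h | h | h | h | h | h <;> rw [h] <;> norm_num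
  have hw64 : ∀ χ ∈ T 64, v χ ^ 2 ∈ ([0, 4, 16, 36, 64, 100] : List ℤ) := by
    intro χ hχ
    obtain ⟨hd, hs, -⟩ := hTσ 64 χ hχ
    have hχZ := (Finset.mem_erase.1 (Finset.mem_filter.1 hχ).1).2
    have h1 := hv2 χ hχZ; have h2 := hv3 χ hχZ; have h3 := hv4 χ hχZ
    rw [hd, hs (by norm_num)] at h1 h2
    rw [hd] at h3
    have : v χ = 0 ∨ v χ = 2 ∨ v χ = -2 ∨ v χ = 4 ∨ v χ = -4 ∨ v χ = 6 ∨ v χ = -6 ∨ v χ = 8 ∨ v χ = -8 ∨
        v χ = 10 ∨ v χ = -10 := by omega
    rcases this with h | h | h | h | h | h | h | h | h | h | h <;> rw [h] <;> norm_num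
  rcases hsol with ⟨ha, hb, hc, -, -⟩ | ⟨ha, hb, hc, -, -⟩
  · obtain ⟨p, q, hpq, h8⟩ := Finset.card_eq_two.1 ha
    obtain ⟨r, h64⟩ := Finset.card_eq_one.1 hc
    rw [Finset.card_eq_zero.1 hb, h8, h64, Finset.sum_empty, Finset.sum_pair hpq, Finset.sum_singleton] at hE
    have hW : v p ^ 2 + v q ^ 2 ∈ ([0, 4, 8] : List ℤ) := by
      rcases hw8 p (h8 ▸ by simp) with h | h <;> rcases hw8 q (h8 ▸ by simp) with h' | h' <;>
        rw [h, h'] <;> norm_num
    exact no_case_one _ hCopt _ hW _ (hw64 r (h64 ▸ by simp)) (by linarith)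
  · obtain ⟨p, h8⟩ := Finset.card_eq_one.1 ha
    obtain ⟨r, s, hrs, h36⟩ := Finset.card_eq_two.1 hb
    rw [Finset.card_eq_zero.1 hc, h8, h36, Finset.sum_empty, Finset.sum_pair hrs, Finset.sum_singleton] at hE
    have hW : v p ^ 2 ∈ ([0, 4] : List ℤ) := by
      rcases hw8 p (h8 ▸ by simp) with h | h <;> rw [h] <;> norm_num
    exact no_case_two _ hCopt _ hW _ (hw36 r (h36 ▸ by simp)) _ (hw36 s (h36 ▸ by simp)) (by linarith)

end Cfsg.Agent.G22Rec
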