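import Cfsg.Agent.Lib.G22Rec.Model
import Mathlib.LinearAlgebra.FiniteDimensional.Basic
import Mathlib.LinearAlgebra.Matrix.ToLin
import Mathlib.Analysis.Complex.Basic

/-!
A representation of degree 6 whose restriction to `7 : 6` has the character `theta` is conjugate to one
with entries in the ring generated by its character values and `1 / 7`.
-/

set_option autoImplicit false
set_option linter.unusedSectionVars false

namespace Cfsg.Agent.G22Rec

open Matrix

universe u

variable {G : Type u} [Group G]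

/-- The integral matrices as complex ones. -/
noncomputable def rhoC (n : Idx) : Matrix (Fin 6) (Fin 6) ℂ := (rho n).map (Int.cast : ℤ → ℂ)

theorem rhoC_mul (n m : Idx) : rhoC n * rhoC m = rhoC (imul n m) := by
  rw [rhoC, rhoC, rhoC, ← rho_mul n m]
  exact (Matrix.map_mul (f := Int.castRingHom ℂ)).symm

theorem trace_rhoC (n : Idx) : (rhoC n).trace = theta n := by
  rw [rhoC, ← trace_rho n, Matrix.trace, Matrix.trace, Int.cast_sum]
  rfl

theorem rhoC_one : rhoC ione = 1 := by
  rw [rhoC, rho_one]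
  exact Matrix.map_one _ Int.cast_zero Int.cast_one

theorem theta_conv_C (m : Idx) :
    ∑ n : Idx, (theta (imul m (iinv n)) : ℂ) • rhoC n = (7 : ℂ) • rhoC m := by
  ext r c
  simp only [Matrix.sum_apply, Matrix.smul_apply, smul_eq_mul, rhoC, Matrix.map_apply]
  exact_mod_cast theta_conv m r c

theorem trace_expand (B : Matrix (Fin 6) (Fin 6) ℂ) :
    ∑ n : Idx, (B * rhoC (iinv n)).trace • rhoC n = (7 : ℂ) • B := by
  ext r c
  have h : ∀ k l : Fin 6, ∑ n : Idx, rhoC n r c * rhoC (iinv n) k l =
      if r = l ∧ c = k then (7 : ℂ) else 0 := by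
    intro k l
    have := rho_orth r c k l
    simp only [rhoC, Matrix.map_apply]
    exact_mod_cast this
  simp only [Matrix.sum_apply, Matrix.smul_apply, smul_eq_mul, Matrix.trace, Matrix.diag,
    Matrix.mul_apply, Finset.sum_mul]
  rw [Finset.sum_comm, Finset.sum_eq_single r, Finset.sum_comm, Finset.sum_eq_single c]
  · rw [Finset.sum_congr rfl fun n _ => (show B r c * rhoC (iinv n) c r * rhoC n r c =
      B r c * (rhoC n r c * rhoC (iinv n) c r) by ring), ← Finset.mul_sum, h, if_pos ⟨rfl, rfl⟩]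
    ring
  · intro k _ hk
    rw [Finset.sum_congr rfl fun n _ => (show B r k * rhoC (iinv n) k r * rhoC n r c =
      B r k * (rhoC n r c * rhoC (iinv n) k r) by ring), ← Finset.mul_sum, h,
      if_neg fun h' => hk h'.2.symm, mul_zero]
  · exact fun h' => absurd (Finset.mem_univ c) h'
  · intro i _ hi
    rw [Finset.sum_comm]
    refine Finset.sum_eq_zero fun k _ => ?_
    rw [Finset.sum_congr rfl fun n _ => (show B i k * rhoC (iinv n) k i * rhoC n r c =
      B i k * (rhoC n r c * rhoC (iinv n) k i) by ring), ← Finset.mul_sum, h,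
      if_neg fun h' => hi h'.1.symm, mul_zero]
  · exact fun h' => absurd (Finset.mem_univ r) h'

variable (R : G →* Matrix (Fin 6) (Fin 6) ℂ) (f : Idx → G)

/-- The change of model. -/
noncomputable def psi : Matrix (Fin 6) (Fin 6) ℂ →ₗ[ℂ] Matrix (Fin 6) (Fin 6) ℂ where
  toFun A := (7 : ℂ)⁻¹ • ∑ n : Idx, (A * R (f (iinv n))).trace • rhoC n
  map_add' A B := by
    simp only [Matrix.add_mul, Matrix.trace_add, add_smul, Finset.sum_add_distrib, smul_add]
  map_smul' a A := by
    simp only [Matrix.smul_mul, Matrix.trace_smul, smul_eq_mul, mul_smul, ← Finset.smul_sum,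
      RingHom.id_apply]
    rw [smul_comm]

variable {R f} (hf : ∀ n m, f (imul n m) = f n * f m) (hθ : ∀ n, (R (f n)).trace = theta n)
include hf hθ

theorem psi_f (m : Idx) : psi R f (R (f m)) = rhoC m := by
  show (7 : ℂ)⁻¹ • ∑ n : Idx, (R (f m) * R (f (iinv n))).trace • rhoC n = _
  simp only [← map_mul, ← hf, hθ]
  rw [theta_conv_C, inv_smul_smul₀ (by norm_num : (7 : ℂ) ≠ 0)]

theorem f_one : f ione = 1 := by
  have h := hf ione ione
  rw [(imul_iinv ione).2.2.1] at h
  exact left_eq_mul.1 h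

theorem psi_bijective : Function.Bijective (psi R f) := by
  have hsurj : Function.Surjective (psi R f) := fun B =>
    ⟨(7 : ℂ)⁻¹ • ∑ n : Idx, (B * rhoC (iinv n)).trace • R (f n), by
      simp only [map_smul, map_sum, psi_f hf hθ]
      rw [trace_expand, inv_smul_smul₀ (by norm_num : (7 : ℂ) ≠ 0)]⟩
  exact ⟨LinearMap.injective_iff_surjective.2 hsurj, hsurj⟩

/-- Schur's relation in the given model. -/
theorem expand (A : Matrix (Fin 6) (Fin 6) ℂ) :
    A = (7 : ℂ)⁻¹ • ∑ n : Idx, (A * R (f (iinv n))).trace • R (f n) := by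
  refine (psi_bijective hf hθ).1 ?_
  simp only [map_smul, map_sum, psi_f hf hθ]
  rfl

theorem psi_mul (A B : Matrix (Fin 6) (Fin 6) ℂ) : psi R f (A * B) = psi R f A * psi R f B := by
  conv_lhs => rw [expand hf hθ A, expand hf hθ B]
  simp only [Matrix.smul_mul, Matrix.mul_smul, Finset.sum_mul, Finset.mul_sum, map_smul, map_sum,
    ← map_mul R, ← hf, psi_f hf hθ, ← rhoC_mul]
  show _ = ((7 : ℂ)⁻¹ • ∑ n : Idx, (A * R (f (iinv n))).trace • rhoC n) *
    ((7 : ℂ)⁻¹ • ∑ n : Idx, (B * R (f (iinv n))).trace • rhoC n)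
  simp only [Matrix.smul_mul, Matrix.mul_smul, Finset.sum_mul, Finset.mul_sum]

theorem psi_one : psi R f 1 = 1 := by
  have h := psi_f hf hθ ione
  rwa [f_one hf hθ, map_one, rhoC_one] at h

/-- The representation in the model of `rho`. -/
noncomputable def conjHom : G →* Matrix (Fin 6) (Fin 6) ℂ where
  toFun g := psi R f (R g)
  map_one' := by rw [map_one, psi_one hf hθ]
  map_mul' g h := by rw [map_mul, psi_mul hf hθ]

theorem conjHom_apply (g : G) :
    conjHom hf hθ g = (7 : ℂ)⁻¹ • ∑ n : Idx, (R (g * f (iinv n))).trace • rhoC n := by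
  show (7 : ℂ)⁻¹ • ∑ n : Idx, (R g * R (f (iinv n))).trace • rhoC n = _
  simp only [map_mul]

theorem conjHom_f (n : Idx) : conjHom hf hθ (f n) = rhoC n := psi_f hf hθ n

end Cfsg.Agent.G22Rec
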