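import Cfsg.Agent.Lib.G22Rec.Half
import Cfsg.Agent.Lib.G22Rec.Parity
import Cfsg.Agent.Lib.Char.Conjugate

/-!
The representation of degree 6.
-/

set_option autoImplicit false
set_option linter.unusedSectionVars false
set_option linter.style.haveILetI false
set_option maxHeartbeats 1000000

namespace Cfsg.Agent.G22Rec

open Cfsg Cfsg.Agent.Char Cfsg.Agent.Blocks Cfsg.Agent.SmallN
open scoped ComplexConjugate Classical

universe u

variable {G : Type u} [Group G] [Fintype G]

theorem divisors_189 : Nat.divisors 189 = {1, 3, 7, 9, 21, 27, 63, 189} := by decide +kernel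

theorem Hyp.exists_six (H : Hyp G) :
    ∃ (f : Idx → G) (R : G →* Matrix (Fin 6) (Fin 6) ℂ), (∀ n m, f (imul n m) = f n * f m) ∧
      Function.Injective f ∧ orderOf (f (1, 0)) = 7 ∧
      (∀ g, g * f (1, 0) * g⁻¹ ∈ Subgroup.zpowers (f (1, 0)) → g ∈ Set.range f) ∧
      (∀ n, (R (f n)).trace = theta n) ∧ OddRational R := by
  haveI : Fact (Nat.Prime 7) := ⟨by norm_num⟩
  obtain ⟨f, hf, hinj, h7, hN⟩ := H.exists_f
  have hidx : (commutator G).index = 2 := H.index_commutator.resolve_left fun h =>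
    H.not_perfect (Subgroup.index_eq_one.1 h)
  set S := commutator G with hSdef
  haveI : S.Normal := inferInstance
  haveI := H.isSimple_commutator
  haveI : Fintype S := Fintype.ofFinite _
  have hSc : Nat.card S = 6048 := by
    have h := S.card_mul_index
    rw [H.card, hidx] at h
    omega
  set a := f (1, 0) with hadef
  have haS : a ∈ S := H.seven_le S H.commutator_ne_bot a h7
  have haS' : orderOf (⟨a, haS⟩ : S) = 7 := by rw [Subgroup.orderOf_mk, h7]
  obtain ⟨φ, hφd, hφa, hφu⟩ := exists_phi hSc haS' fun c hc => by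
    obtain ⟨k, hk⟩ := Subgroup.mem_zpowers_iff.1 (H.commute_seven h7
      (show a * (c : G) = (c : G) * a from congrArg Subtype.val hc))
    exact Subgroup.mem_zpowers_iff.2 ⟨k, Subtype.ext (by simp [hk])⟩
  have hφ1 : (φ : S → ℂ) 1 = 6 := by rw [irr_one_eq_charDegree, hφd]; norm_num
  -- invariance
  have hinv : ∀ g : G, conjChar S g (φ : S → ℂ) = (φ : S → ℂ) := by
    intro g
    let ψ : IrrCharacter S := ⟨_, isIrrCharacter_conjChar S φ.2 g⟩
    have hd : charDegree (ψ : S → ℂ) = 6 := by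
      have h : ((charDegree (ψ : S → ℂ) : ℕ) : ℂ) = 6 := by
        rw [← irr_one_eq_charDegree]
        show (φ : S → ℂ) ⟨g * (1 : S) * g⁻¹, _⟩ = 6
        rw [← hφ1]
        exact congrArg _ (Subtype.ext (by simp))
      exact_mod_cast h
    exact congrArg Subtype.val (hφu ψ hd)
  let F : G → ℂ := fun g => if h : g ∈ S then (φ : S → ℂ) ⟨g, h⟩ else 0
  have hFc : IsClassFunction G F := fun x c => by
    by_cases hx : x ∈ S
    · have hcx : c * x * c⁻¹ ∈ S := Subgroup.Normal.conj_mem inferInstance x hx c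
      simp only [F, dif_pos hx, dif_pos hcx]
      exact congrFun (hinv c) ⟨x, hx⟩
    · have hcx : c * x * c⁻¹ ∉ S := fun h => hx (by
        have := Subgroup.Normal.conj_mem inferInstance _ h c⁻¹
        simpa [mul_assoc] using this)
      simp only [F, dif_neg hx, dif_neg hcx]
  have hsum : ∀ J : G → ℂ, ∑ g : G, F g * J g = ∑ s : S, (φ : S → ℂ) s * J s := by
    intro J
    rw [← Finset.sum_subset (Finset.subset_univ (Finset.univ.filter fun g : G => g ∈ S)) fun g _ hg => by
      simp only [Finset.mem_filter, Finset.mem_univ, true_and] at hg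
      simp [F, hg]]
    rw [Finset.sum_subtype (p := fun g => g ∈ S) (Finset.univ.filter fun g : G => g ∈ S) (fun g => by simp) fun g => F g * J g]
    exact Finset.sum_congr rfl fun s _ => by simp [F]
  have hcard2 : (Nat.card G : ℂ) = 2 * (Nat.card S : ℂ) := by rw [H.card, hSc]; norm_num
  have hm : ∀ χ : IrrCharacter G, ∃ m : ℕ, classInner F (χ : G → ℂ) = (m : ℂ) / 2 ∧
      classInner (φ : S → ℂ) (fun s : S => (χ : G → ℂ) s) = (m : ℂ) := by
    intro χ
    obtain ⟨m, hm⟩ := IsCharacter.exists_classInner_nat (IsIrrCharacter.isCharacter φ.2)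
      (IsCharacter.restrict (IsIrrCharacter.isCharacter χ.2) S)
    refine ⟨m, ?_, hm⟩
    rw [← hm, classInner, classInner, hsum fun g => conj ((χ : G → ℂ) g), hcard2, mul_inv]
    ring
  choose m hm1 hm2 using hm
  have hF : ∀ g, F g = ∑ χ : IrrCharacter G, (m χ : ℂ) / 2 * (χ : G → ℂ) g := by
    intro g
    have h := congrFun (classFunction_eq_sum hFc) g
    simp only [Finset.sum_apply, Pi.smul_apply, smul_eq_mul, hm1] at h
    exact h
  have hFF : classInner F F = 1 / 2 := by
    have h := classInner_self_irr φ.2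
    rw [classInner] at h ⊢
    rw [hsum fun g => conj (F g), Finset.sum_congr rfl fun s _ => by
      rw [show F (s : G) = (φ : S → ℂ) s by simp [F]], hcard2, mul_inv, mul_assoc, h]
    norm_num
  have hnorm : ∑ χ : IrrCharacter G, m χ ^ 2 = 2 := by
    have h : classInner F F = ∑ χ : IrrCharacter G, (m χ : ℂ) / 2 * conj ((m χ : ℂ) / 2) := by
      have hc : ∀ χ : IrrCharacter G, conj ((m χ : ℂ) / 2) =
          (Nat.card G : ℂ)⁻¹ * ∑ g, (χ : G → ℂ) g * conj (F g) := by
        intro χ
        rw [← hm1 χ, classInner, map_mul, map_inv₀, Complex.conj_natCast, map_sum]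
        congr 1
        exact Finset.sum_congr rfl fun g _ => by rw [map_mul, Complex.conj_conj, mul_comm]
      simp only [hc, classInner, Finset.mul_sum]
      rw [Finset.sum_comm]
      refine Finset.sum_congr rfl fun g _ => ?_
      have e : F g * conj (F g) = (∑ χ : IrrCharacter G, (m χ : ℂ) / 2 * (χ : G → ℂ) g) * conj (F g) :=
        congrArg (· * conj (F g)) (hF g)
      rw [e, Finset.sum_mul, Finset.mul_sum]
      exact Finset.sum_congr rfl fun χ _ => by ring
    rw [hFF] at h
    simp only [map_div₀, Complex.conj_natCast, map_ofNat] at h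
    have : ((∑ χ : IrrCharacter G, m χ ^ 2 : ℕ) : ℂ) = 2 := by
      push_cast
      rw [Finset.sum_congr rfl fun χ _ =>
        show (m χ : ℂ) ^ 2 = 4 * ((m χ : ℂ) / 2 * ((m χ : ℂ) / 2)) by ring, ← Finset.mul_sum, ← h]
      norm_num
    exact_mod_cast this
  -- a constituent above `φ`
  have hge : ∀ χ : IrrCharacter G, 6 * m χ ≤ charDegree (χ : G → ℂ) ∧
      (charDegree (χ : G → ℂ) = 6 → m χ = 1 → ∀ s : S, (χ : G → ℂ) s = (φ : S → ℂ) s) := by
    intro χ
    have hres := IsCharacter.restrict (IsIrrCharacter.isCharacter χ.2) S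
    choose n hn using fun ψ : IrrCharacter S =>
      IsCharacter.exists_classInner_nat hres (IsIrrCharacter.isCharacter ψ.2)
    have hdec : ∀ s : S, (χ : G → ℂ) s = ∑ ψ : IrrCharacter S, (n ψ : ℂ) * (ψ : S → ℂ) s := by
      intro s
      have h := congrFun (classFunction_eq_sum (IsCharacter.isClassFunction hres)) s
      simp only [Finset.sum_apply, Pi.smul_apply, smul_eq_mul, hn] at h
      exact h
    have hnφ : n φ = m χ := by
      have h1 := hn φ
      have h2 := hm2 χ
      have h3 : classInner (fun s : S => (χ : G → ℂ) s) (φ : S → ℂ) =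
          conj (classInner (φ : S → ℂ) fun s : S => (χ : G → ℂ) s) := by
        rw [classInner, classInner, map_mul, map_inv₀, Complex.conj_natCast, map_sum]
        congr 1
        exact Finset.sum_congr rfl fun g _ => by rw [map_mul, Complex.conj_conj, mul_comm]
      rw [h2, Complex.conj_natCast, h1] at h3
      exact_mod_cast h3
    have hd : charDegree (χ : G → ℂ) = ∑ ψ : IrrCharacter S, n ψ * charDegree (ψ : S → ℂ) := by
      have h := hdec 1
      simp only [OneMemClass.coe_one, irr_one_eq_charDegree] at h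
      exact_mod_cast h
    rw [← Finset.add_sum_erase _ _ (Finset.mem_univ φ), hnφ, hφd] at hd
    refine ⟨by omega, fun h6 h1 s => ?_⟩
    have hz : ∑ ψ ∈ Finset.univ.erase φ, n ψ * charDegree (ψ : S → ℂ) = 0 := by omega
    rw [hdec s, ← Finset.add_sum_erase _ _ (Finset.mem_univ φ), hnφ, h1, Finset.sum_eq_zero fun ψ hψ => by
      have := (Finset.sum_eq_zero_iff.1 hz ψ hψ)
      have h' : n ψ = 0 := (Nat.mul_eq_zero.1 this).resolve_right (charDegree_pos ψ).ne'
      rw [h', Nat.cast_zero, zero_mul]]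
    simp
  obtain ⟨χ, hχ6, hχ1⟩ : ∃ χ : IrrCharacter G, charDegree (χ : G → ℂ) = 6 ∧ m χ = 1 := by
    have hle : ∀ χ : IrrCharacter G, m χ ≤ 1 := fun χ => by
      have h := Finset.single_le_sum (fun ψ _ => Nat.zero_le (m ψ ^ 2)) (Finset.mem_univ χ)
      rw [hnorm] at h
      nlinarith
    have h12 : ∑ χ : IrrCharacter G, m χ * charDegree (χ : G → ℂ) = 12 := by
      have h := hF 1
      rw [show F 1 = 6 by simp only [F, dif_pos S.one_mem]; exact hφ1] at h
      have : ((∑ χ : IrrCharacter G, m χ * charDegree (χ : G → ℂ) : ℕ) : ℂ) = 12 := by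
        push_cast
        rw [Finset.sum_congr rfl fun χ _ => show (m χ : ℂ) * (charDegree (χ : G → ℂ) : ℂ) =
          2 * ((m χ : ℂ) / 2 * (χ : G → ℂ) 1) by rw [irr_one_eq_charDegree]; ring, ← Finset.mul_sum, ← h]
        norm_num
      exact_mod_cast this
    by_contra hno
    push Not at hno
    have h7' : ∀ χ : IrrCharacter G, 7 * m χ ≤ m χ * charDegree (χ : G → ℂ) := fun χ => by
      rcases Nat.le_one_iff_eq_zero_or_eq_one.1 (hle χ) with h | h
      · simp [h]
      · have := (hge χ).1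
        have h6 : charDegree (χ : G → ℂ) ≠ 6 := fun h6 => hno χ h6 h
        rw [h] at this ⊢
        omega
    have h := Finset.sum_le_sum (s := Finset.univ) fun χ _ => h7' χ
    rw [h12, ← Finset.mul_sum, Finset.sum_congr rfl fun χ _ =>
      show m χ = m χ ^ 2 by rcases Nat.le_one_iff_eq_zero_or_eq_one.1 (hle χ) with h | h <;> rw [h] <;> norm_num,
      hnorm] at h
    omega
  have hval := (hge χ).2 hχ6 hχ1
  have hclass := IsCharacter.isClassFunction (IsIrrCharacter.isCharacter χ.2)
  have hs : ∀ y ∈ Subgroup.zpowers a, y ≠ 1 → (χ : G → ℂ) y = -1 := by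
    intro y hy hy1
    have hyS : y ∈ S := Subgroup.zpowers_le.2 haS hy
    rw [show (χ : G → ℂ) y = (χ : G → ℂ) ((⟨y, hyS⟩ : S) : G) from rfl, hval]
    obtain ⟨k, hk⟩ := Subgroup.mem_zpowers_iff.1 hy
    exact hφa _ (Subgroup.mem_zpowers_iff.2 ⟨k, Subtype.ext (by simp [hk])⟩)
      fun h => hy1 (congrArg Subtype.val h)
  obtain ⟨R, hR, hθ⟩ := exists_rep hf h7 (IsIrrCharacter.isCharacter χ.2)
    (by rw [irr_one_eq_charDegree, hχ6]; norm_num) hs
  refine ⟨f, R, hf, hinj, h7, hN, hθ, fun g => ?_⟩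
  rw [hR]
  set h := g ^ 64 with hh
  have hhS : h ∈ S := by
    have h2 := Subgroup.sq_mem_of_index_two hidx (g ^ 32)
    rwa [← pow_mul] at h2
  have hmem : orderOf h ∈ Nat.divisors 189 := by
    refine Nat.mem_divisors.2 ⟨orderOf_dvd_of_pow_eq_one ?_, by norm_num⟩
    rw [hh, ← pow_mul, show 64 * 189 = Nat.card G by rw [H.card], pow_card_eq_one']
  rw [divisors_189] at hmem
  simp only [Finset.mem_insert, Finset.mem_singleton] at hmem
  obtain ⟨h9, -, h21⟩ := H.not_dvd h
  rw [show (χ : G → ℂ) h = (χ : G → ℂ) ((⟨h, hhS⟩ : S) : G) from rfl, hval]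
  rcases hmem with h' | h' | h' | h' | h' | h' | h' | h'
  · refine ⟨6, ?_⟩
    rw [show (⟨h, hhS⟩ : S) = 1 from Subtype.ext (orderOf_eq_one_iff.1 h'), hφ1]
    norm_num
  · obtain ⟨v, hv, -⟩ := value_three (IsIrrCharacter.isCharacter φ.2) (g := (⟨h, hhS⟩ : S))
      (by rw [Subgroup.orderOf_mk, h']) (irr_one_eq_charDegree φ)
      (real_of_unique (fun ψ hψ => hφu ψ (hψ.trans hφd)) _)
    exact ⟨v, hv⟩
  · refine ⟨-1, ?_⟩
    rw [← hval]
    have hsyl : ∀ b : G, orderOf b = 7 → ∃ T : Sylow 7 G, Subgroup.zpowers b = (T : Subgroup G) := by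
      intro b hb
      obtain ⟨T, hT⟩ := (IsPGroup.of_card (p := 7) (n := 1)
        (show Nat.card (Subgroup.zpowers b) = 7 ^ 1 by rw [Nat.card_zpowers, hb, pow_one])).exists_le_sylow
      exact ⟨T, Subgroup.eq_of_le_of_card_ge hT (by rw [((H.card_sylow_seven).2 T).1, Nat.card_zpowers, hb])⟩
    obtain ⟨T, hT⟩ := hsyl a h7
    obtain ⟨U, hU⟩ := hsyl h h'
    obtain ⟨c, hc⟩ := MulAction.exists_smul_eq G T U
    have hm : h ∈ ((c • T : Sylow 7 G) : Subgroup G) := hc ▸ hU ▸ Subgroup.mem_zpowers h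
    obtain ⟨y, hy, hye⟩ := hm
    show (χ : G → ℂ) h = ((-1 : ℤ) : ℂ)
    rw [show h = c * y * c⁻¹ from hye.symm,
      (isClassFunction_iff.1 hclass) _ y (isConj_iff.2 ⟨c, rfl⟩ : IsConj y _).symm,
      hs y (hT ▸ hy) (fun hy1 => by
        have : h = 1 := by
          rw [show h = c * y * c⁻¹ from hye.symm, hy1]; group
        rw [this, orderOf_one] at h'
        norm_num at h')]
    norm_num
  all_goals
    exfalso
    rw [h'] at h9 h21
    omega

end Cfsg.Agent.G22Rec
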