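import Cfsg.Agent.Lib.G22Rec.Block
import Cfsg.Agent.Lib.G22Rec.Psi

/-!
A character of degree 6 with value `-1` at the elements of order 7.
-/

set_option autoImplicit false
set_option linter.unusedSectionVars false
set_option linter.style.haveILetI false

namespace Cfsg.Agent.G22Rec

open Cfsg Cfsg.Agent.Char Cfsg.Agent.SmallN
open scoped ComplexConjugate Classical

universe u

variable {G : Type u} [Group G] [Fintype G]

theorem theta_eq : ∀ n : Idx, (n.2 = 0 → n.1 = 0 → theta n = 6) ∧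
    (n.2 = 0 → n.1 ≠ 0 → theta n = -1) ∧ (n.2 ≠ 0 → theta n = 0) := by
  decide +kernel

theorem det_rho : (rho (0, 1)).det = -1 := by
  decide +kernel

theorem exists_rep {f : Idx → G} (hf : ∀ n m, f (imul n m) = f n * f m) (h7 : orderOf (f (1, 0)) = 7)
    {χ : G → ℂ} (hχ : IsCharacter G χ) (hd : χ 1 = 6)
    (hs : ∀ y ∈ Subgroup.zpowers (f (1, 0)), y ≠ 1 → χ y = -1) :
    ∃ R : G →* Matrix (Fin 6) (Fin 6) ℂ, (∀ g, (R g).trace = χ g) ∧
      ∀ n, (R (f n)).trace = theta n := by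
  obtain ⟨n, ρ, hρ⟩ := id hχ
  have hn : n = 6 := by
    have h := Representation.char_one (ρ := ρ)
    rw [hρ, hd, Module.finrank_fin_fun] at h
    exact_mod_cast h.symm
  subst hn
  let R : G →* Matrix (Fin 6) (Fin 6) ℂ :=
    ((Matrix.toLinAlgEquiv' : Matrix (Fin 6) (Fin 6) ℂ ≃ₐ[ℂ] _).symm.toRingEquiv.toMonoidHom).comp ρ
  have htr : ∀ g, (R g).trace = χ g := fun g => by
    rw [← hρ]
    show _ = LinearMap.trace ℂ _ (ρ g)
    rw [← Matrix.trace_toLin'_eq]
    congr 1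
    exact (Matrix.toLinAlgEquiv' : Matrix (Fin 6) (Fin 6) ℂ ≃ₐ[ℂ] _).apply_symm_apply (ρ g)
  refine ⟨R, htr, fun m => ?_⟩
  rw [htr]
  obtain ⟨t6, t1, t0⟩ := theta_eq m
  obtain ⟨i, j⟩ := m
  by_cases hj : j = 0
  · subst hj
    by_cases hi : i = 0
    · subst hi
      rw [t6 rfl rfl, show ((0 : Fin 7), (0 : Fin 6)) = ione from rfl, Cfsg.Agent.G22Rec.f_ione hf, hd]
      norm_num
    · rw [t1 rfl hi, hs _ (by rw [f_row hf i]; exact pow_mem (Subgroup.mem_zpowers _) _) ?_]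
      · norm_num
      · rw [f_row hf i]
        exact pow_ne_one_of_lt_orderOf (by simpa [Fin.val_eq_zero_iff] using hi) (lt_of_lt_of_eq i.isLt h7.symm)
  · rw [t0 hj, value_zero hf hχ h7 hd hs _ hj, Int.cast_zero]

/-- Such a character does not exist in a perfect group. -/
theorem false_of_perfect {f : Idx → G} (hf : ∀ n m, f (imul n m) = f n * f m)
    (h7 : orderOf (f (1, 0)) = 7) (hperf : commutator G = ⊤) {χ : G → ℂ} (hχ : IsCharacter G χ)
    (hd : χ 1 = 6) (hs : ∀ y ∈ Subgroup.zpowers (f (1, 0)), y ≠ 1 → χ y = -1) : False := by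
  obtain ⟨R, -, hθ⟩ := exists_rep hf h7 hχ hd hs
  let D : G →* ℂˣ := (Matrix.detMonoidHom.comp (conjHom hf hθ)).toHomUnits
  have h1 : D (f (0, 1)) = 1 := MonoidHom.mem_ker.1
    (Abelianization.commutator_subset_ker D (hperf ▸ Subgroup.mem_top _))
  have h2 := congrArg (fun u : ℂˣ => (u : ℂ)) h1
  simp only [D, MonoidHom.coe_toHomUnits, MonoidHom.comp_apply, Units.val_one, conjHom_f,
    Matrix.coe_detMonoidHom, rhoC] at h2
  rw [show ((rho (0, 1)).map (Int.cast : ℤ → ℂ)).det = (((rho (0, 1)).det : ℤ) : ℂ) from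
    ((Int.castRingHom ℂ).map_det _).symm, det_rho] at h2
  norm_num at h2

end Cfsg.Agent.G22Rec
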